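import Cfsg.Agent.Lib.U62Aut.Model.VecChecks

/-!
Kernel checks for the closing step: the semilinear stabiliser of a singular vector, elements of order three on the
vectors, and one transvection with a group of order nine centralising it.
-/

set_option autoImplicit false
set_option maxRecDepth 100000

namespace Cfsg.Agent.U62Three.Close

open Cfsg.Agent.PermCert Cfsg.Agent.U62Rec.Model Cfsg.Agent.U62Aut

/-- Products of transvections centralising the involutions of the stabiliser of the chosen vector. -/
def invWords : List (List ℕ) :=
  [
    [0, 1], [0, 3], [0, 4], [0, 5], [1, 3, 22, 27], [1, 4, 17, 31], [1, 5, 21, 32], [3, 4, 12, 13], [0, 9], [0, 10],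
    [0, 11], [0, 21], [0, 17], [0, 27], [0, 28], [0, 37], [15, 25], [15, 26], [20, 25], [20, 26], [1, 16, 15, 27],
    [1, 16, 15, 42], [1, 18, 15, 31], [1, 18, 15, 37], [1, 19, 15, 32], [1, 19, 15, 41], [1, 26, 22, 25],
    [1, 28, 17, 41], [1, 29, 21, 42], [3, 9, 16, 19], [3, 9, 16, 22], [3, 10, 27, 30], [3, 10, 27, 33],
    [3, 11, 38, 41], [3, 11, 38, 44], [4, 9, 36, 42], [4, 10, 17, 23], [4, 11, 28, 34]]

/-- Products of two transvections fixing every vector. -/
def vecWords : List (List ℕ) :=
  [
    [0, 1], [3, 9], [4, 16], [5, 19], [6, 13], [7, 17], [8, 18], [10, 21], [11, 30], [12, 33], [14, 20], [3, 23],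
    [13, 26], [19, 29], [22, 27], [24, 30], [0, 18], [2, 27], [4, 26], [5, 23], [8, 12], [8, 14]]

/-- Commuting pairs of products of transvections stabilising every line. -/
def lineWords : List (List ℕ × List ℕ) :=
  [
    ([0, 1], [3, 4, 9, 10]), ([15, 26], [0, 4, 18, 43]), ([17, 25], [1, 5, 16, 44]), ([18, 33], [2, 4, 16, 30]),
    ([12, 22], [2, 3, 17, 42]), ([13, 23], [1, 4, 19, 33]), ([14, 29], [0, 5, 17, 31]), ([9, 31], [0, 3, 21, 32]),
    ([6, 20], [2, 10, 16, 36]), ([10, 19], [1, 5, 16, 44]), ([10, 24], [1, 3, 18, 29]), ([8, 16], [2, 9, 17, 27]),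
    ([6, 21], [0, 11, 17, 37]), ([3, 4], [0, 1, 9, 10]), ([1, 11], [0, 9, 16, 26]), ([0, 4], [1, 3, 18, 29]),
    ([2, 3], [0, 5, 17, 31])]

/-- A product of transvections on the vectors. -/
def wordC (w : List ℕ) (x : ℕ) : ℕ := w.foldr tvC x

/-- Equality on the eight basis vectors. -/
def basisEq (f g : ℕ → ℕ) : Bool := allBelow (fun j => Nat.beq (f (2 ^ j)) (g (2 ^ j))) 8

/-- An element of the semilinear stabiliser over a product. -/
def stabElt (b : Bool) (cs : List ℕ) (v : ℕ) : ℕ := bif b then outS cs v else J2.applyCodes 8 cs v

/-- A word of order three. -/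
def threeB (w : List ℕ) : Bool :=
  (w.all fun p => Nat.blt p 45) && basisEq (wordC (w ++ (w ++ w))) id && !(basisEq (wordC w) id)

/-- What is needed of one element of the stabiliser. -/
def elemOK (f : ℕ → ℕ) : Bool :=
  let fx := (List.range 256).filter fun v => Nat.beq (f v) v
  let isT := basisEq f id || (List.range 45).any fun p => basisEq f (tvC p)
  (Nat.blt fx.length 32 || isT) &&
  (!(basisEq (fun v => f (f v)) id) || isT ||
    ((fx.all fun v => (List.range 256).any fun a => Nat.beq (Nat.xor a (f a)) v) &&
      invWords.any fun w => basisEq (fun v => f (wordC w v)) (fun v => wordC w (f v)))) &&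
  basisEq (f^[24]) id

/-- The check on 24 products. -/
def elemChunk (b : Bool) (k : ℕ) : Bool := ((stabProds.drop (24 * k)).take 24).all fun cs => elemOK (stabElt b cs)

-- the products are checked in small pieces to keep the memory of each check small
theorem elemIn0 : elemChunk false 0 = true := by decide +kernel
theorem elemIn1 : elemChunk false 1 = true := by decide +kernel
theorem elemIn2 : elemChunk false 2 = true := by decide +kernel
theorem elemIn3 : elemChunk false 3 = true := by decide +kernel
theorem elemIn4 : elemChunk false 4 = true := by decide +kernel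
theorem elemIn5 : elemChunk false 5 = true := by decide +kernel
theorem elemIn6 : elemChunk false 6 = true := by decide +kernel
theorem elemIn7 : elemChunk false 7 = true := by decide +kernel
theorem elemOut0 : elemChunk true 0 = true := by decide +kernel
theorem elemOut1 : elemChunk true 1 = true := by decide +kernel
theorem elemOut2 : elemChunk true 2 = true := by decide +kernel
theorem elemOut3 : elemChunk true 3 = true := by decide +kernel
theorem elemOut4 : elemChunk true 4 = true := by decide +kernel
theorem elemOut5 : elemChunk true 5 = true := by decide +kernel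
theorem elemOut6 : elemChunk true 6 = true := by decide +kernel
theorem elemOut7 : elemChunk true 7 = true := by decide +kernel

theorem elem_ok (b : Bool) : (stabProds.all fun cs => elemOK (stabElt b cs)) = true := by
  refine all_of_pieces (by norm_num) stabProds_len fun k hk => ?_
  change elemChunk b k = true
  cases b <;> interval_cases k
  exacts [elemIn0, elemIn1, elemIn2, elemIn3, elemIn4, elemIn5, elemIn6, elemIn7,
    elemOut0, elemOut1, elemOut2, elemOut3, elemOut4, elemOut5, elemOut6, elemOut7]

theorem invWords_three : (invWords.all threeB) = true := by decide +kernel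

/-- Every vector is fixed by one of the words. -/
def vecOK : Bool :=
  vecWords.all threeB && allBelow (fun v => vecWords.any fun w => Nat.beq (wordC w v) v) 256

theorem vec_ok : vecOK = true := by decide +kernel

/-- A commuting pair of words of order three generating nine elements. -/
def pairOK (a b : List ℕ) : Bool :=
  threeB a && threeB b && basisEq (wordC (a ++ b)) (wordC (b ++ a)) &&
    !(basisEq (wordC b) (wordC a)) && !(basisEq (wordC b) (wordC (a ++ a)))

/-- Membership in the line of a vector. -/
def onLine (u x : ℕ) : Bool := Nat.beq x u || Nat.beq x (omC u) || Nat.beq x (omC (omC u))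

/-- Every line is stabilised by one of the pairs. -/
def linePairOK : Bool :=
  lineWords.all (fun p => pairOK p.1 p.2) &&
  allBelow (fun v => Nat.beq v 0 || lineWords.any fun p => onLine v (wordC p.1 v) && onLine v (wordC p.2 v)) 256

theorem linePair_ok : linePairOK = true := by decide +kernel

/-- A word fixes a nonzero vector. -/
def fixB (w : List ℕ) : Bool := (List.range 256).any fun v => !(Nat.beq v 0) && Nat.beq (wordC w v) v

/-- At most one of the four subgroups of order three of each pair moves every nonzero vector. -/
def lineFixOK : Bool :=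
  lineWords.all fun p =>
    let w1 := p.1; let w2 := p.2; let w3 := p.1 ++ p.2; let w4 := p.1 ++ (p.2 ++ p.2)
    (fixB w1 || fixB w2) && (fixB w1 || fixB w3) && (fixB w1 || fixB w4) && (fixB w2 || fixB w3) &&
      (fixB w2 || fixB w4) && (fixB w3 || fixB w4)

theorem lineFix_ok : lineFixOK = true := by decide +kernel

/-- The common orthogonal of a line. -/
def inLinePerp (v x : ℕ) : Bool := Nat.beq (polC x v) 0 && Nat.beq (polC x (omC v)) 0

/-- The orthogonals of the lines have 64 elements. -/
def linePerpOK : Bool :=
  allBelow (fun v => Nat.beq v 0 || Nat.beq ((List.range 256).countP (inLinePerp v)) 64) 256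

theorem linePerp_ok : linePerpOK = true := by decide +kernel

/-- The fixed vectors of a transvection: 64 of them, containing the image; few in common with another one. -/
def tvFixOK : Bool :=
  allBelow (fun p => Nat.beq ((List.range 256).countP fun x => Nat.beq (tvC p x) x) 64 &&
    (Nat.beq p 0 ||
      Nat.blt ((List.range 256).countP fun x => Nat.beq (tvC 0 x) x && Nat.beq (tvC p x) x) 32)) 45

theorem tvFix_ok : tvFixOK = true := by decide +kernel

/-- The functionals are given by the polar form. -/
def dualOK : Bool :=
  allBelow (fun l => (List.range 256).any fun u =>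
    allBelow (fun j => Nat.beq (polC u (2 ^ j)) (bif l.testBit j then 1 else 0)) 8) 256

theorem dual_ok : dualOK = true := by decide +kernel

/-! ### At the chosen transvection -/

/-- The first word of the group of order nine. -/
def wA : List ℕ := [15, 25]

/-- The second word. -/
def wB : List ℕ := [0, 1, 3, 4]

/-- The nine words. -/
def nineW : List (List ℕ) := [[], wA, wA ++ wA, wB, wA ++ wB, wA ++ (wA ++ wB), wB ++ wB, wA ++ (wB ++ wB),
  wA ++ (wA ++ (wB ++ wB))]

/-- The image of the transvection. -/
def radB (x : ℕ) : Bool := Nat.beq x 0 || onLine 5 x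

/-- Its fixed vectors. -/
def perpB (x : ℕ) : Bool := Nat.beq (tvC 0 x) x

/-- The translates that no element of order three of the group stabilises. -/
def badB (c : ℕ) : Bool := perpB c && (nineW.drop 1).all fun e => !(radB (Nat.xor c (wordC e c)))

/-- The element of the core moving the translates. -/
def coreU (x : ℕ) : ℕ := get 8 (coreLin.getD 1 (0, 0)).1 x

/-- The facts at the chosen transvection. -/
def centreOK : Bool :=
  pairOK wA wB && basisEq (fun v => tvC 0 (wordC wA v)) (fun v => wordC wA (tvC 0 v)) &&
  basisEq (fun v => tvC 0 (wordC wB v)) (fun v => wordC wB (tvC 0 v)) &&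
  basisEq (fun v => tvC 0 (coreU v)) (fun v => coreU (tvC 0 v)) &&
  allBelow (fun v => radB (Nat.xor v (tvC 0 v)) &&
    (!(radB v) || (perpB v && (List.range 256).any fun a => Nat.beq (Nat.xor a (tvC 0 a)) v) &&
      (List.range 256).any fun f => perpB f && Nat.beq (Nat.xor f (coreU f)) v) &&
    (!(perpB v) || radB (Nat.xor v (coreU v)))) 256 &&
  allBelow (fun c => !(badB c) || allBelow (fun d => !(perpB d) || radB d ||
    nineW.any fun e => [0, 5, omC 5, omC (omC 5)].all fun r =>
      !(badB (Nat.xor (Nat.xor c (wordC e d)) r))) 256) 256

theorem centre_ok : centreOK = true := by decide +kernel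

end Cfsg.Agent.U62Three.Close
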