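import Cfsg.Agent.Lib.U62Three.Close.Fuse

/-!
Elements of order three, and commuting pairs of them, are conjugate into the abelian part inside the subgroup which
becomes the centraliser of the involution.
-/

set_option autoImplicit false
set_option maxRecDepth 20000
set_option linter.style.haveILetI false

namespace Cfsg.Agent.U62Three

open Subgroup
open Co2Three (V4 qf bf e0 e1 e2 e3 refl1 IsSim isSim_mult)
open scoped commutatorElement Pointwise

namespace Loc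

variable {G : Type*} [Group G] [Finite G] (L : Loc G)

theorem zpowers_z {x : G} : x ∈ zpowers L.S.z ↔ ∃ a : ZMod 3, x = L.el (a • e0) := by
  rw [← L.z_eq]
  constructor
  · intro hx
    obtain ⟨n, hn⟩ := mem_powers_iff_mem_zpowers.2 hx
    exact ⟨(n : ZMod 3), by rw [el_natCast_smul L.el L.jd.el_add]; exact hn.symm⟩
  · rintro ⟨a, rfl⟩
    rw [← ZMod.natCast_rightInverse a, el_natCast_smul L.el L.jd.el_add]
    exact pow_mem (mem_zpowers _) _

theorem e2_not_mem : L.el e2 ∉ zpowers L.S.z := fun h => by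
  obtain ⟨a, ha⟩ := L.zpowers_z.1 h
  exact absurd (congrFun (L.jd.el_inj ha) 2) (by simp [e0, e2])

theorem P'_conj {p : G} (hp : p ∈ L.S.P') : ∀ b ∈ L.S.Q2, p * b * p⁻¹ ∈ L.S.Q2 := by
  have hpz := mem_centralizer_singleton_iff.1 (L.S.P'_le hp)
  rcases L.S.perm p (by rw [hpz, mul_inv_cancel_right]; exact mem_zpowers _) with ⟨-, h⟩ | ⟨h, -⟩
  · exact h
  · exfalso
    have h1 := h _ L.e1_mem
    rw [(L.S.P'_Q1 p hp _ L.e1_mem).eq, mul_inv_cancel_right] at h1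
    obtain ⟨a, ha⟩ := L.zpowers_z.1 (L.S.inf12 ▸ mem_inf.2 ⟨L.e1_mem, h1⟩)
    exact absurd (congrFun (L.jd.el_inj ha) 1) (by simp [e0, e1])

/-- Only the identity of the quaternion group fixes the exterior axis modulo the centre. -/
theorem P'_fix {p : G} (hp : p ∈ L.S.P') (h : (L.el e2)⁻¹ * (p * L.el e2 * p⁻¹) ∈ zpowers L.S.z) : p = 1 := by
  haveI : Fact (Nat.Prime 2) := ⟨Nat.prime_two⟩
  by_contra hne
  -- the elements with this property are closed under powers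
  have hpow : ∀ n : ℕ, (L.el e2)⁻¹ * (p ^ n * L.el e2 * (p ^ n)⁻¹) ∈ zpowers L.S.z := by
    intro n
    induction n with
    | zero => simp [one_mem]
    | succ n ih =>
      have hz : ∀ w ∈ zpowers L.S.z, p * w * p⁻¹ = w := fun w hw => by
        rw [(Pt.fix_Z (z := L.S.z) (mem_centralizer_singleton_iff.1 (L.S.P'_le hp)) hw).eq, mul_inv_cancel_right]
      have e : (L.el e2)⁻¹ * (p ^ (n + 1) * L.el e2 * (p ^ (n + 1))⁻¹) =
          (L.el e2)⁻¹ * (p * L.el e2 * p⁻¹) * (p * ((L.el e2)⁻¹ * (p ^ n * L.el e2 * (p ^ n)⁻¹)) * p⁻¹) := by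
        rw [pow_succ']; group
      rw [e, hz _ ih]
      exact mul_mem h ih
  obtain ⟨k, hk, hord⟩ := (Nat.dvd_prime_pow Nat.prime_two).1
    (show orderOf p ∣ 2 ^ 3 by
      have := orderOf_dvd_natCard (⟨p, hp⟩ : L.S.P')
      rwa [L.S.card_P', Subgroup.orderOf_mk] at this)
  rcases k with _ | k
  · exact hne (orderOf_eq_one_iff.1 (by simpa using hord))
  have ht : p ^ 2 ^ k = L.S.t' := by
    refine (L.S.P'_invol _ (pow_mem hp _) ?_).resolve_left ?_
    · rw [← pow_add, ← two_mul, ← pow_succ', ← hord, pow_orderOf_eq_one]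
    · exact pow_ne_one_of_lt_orderOf (by positivity) (by rw [hord]; exact Nat.pow_lt_pow_right (by norm_num) (by omega))
  have h1 := hpow (2 ^ k)
  rw [ht] at h1
  have h2 := mul_mem (inv_mem h1) (L.S.t'_inv _ L.e2_mem)
  rw [show ((L.el e2)⁻¹ * (L.S.t' * L.el e2 * L.S.t'⁻¹))⁻¹ * (L.S.t' * L.el e2 * L.S.t'⁻¹ * L.el e2) =
    (L.S.t' * L.el e2 * L.S.t'⁻¹)⁻¹ * L.el e2 * (L.S.t' * L.el e2 * L.S.t'⁻¹) * L.el e2 by group] at h2
  obtain ⟨a, ha⟩ := L.zpowers_z.1 (mul_mem h1 h1)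
  obtain ⟨b, hb⟩ := L.zpowers_z.1 (L.S.t'_inv _ L.e2_mem)
  obtain ⟨d, hd⟩ := L.zpowers_z.1 h1
  have e : L.S.t' * L.el e2 * L.S.t'⁻¹ = L.el (e2 + d • e0) := by
    rw [L.jd.el_add, ← hd, mul_inv_cancel_left]
  rw [e, ← L.jd.el_add] at hb
  exact absurd (congrFun (L.jd.el_inj hb) 2) (by simp [e0, e2]; decide)

/-- The quaternion group moves every element of the second factor outside the centre to the plane. -/
theorem exists_P' {q : G} (hq : q ∈ L.S.Q2) (hqz : q ∉ zpowers L.S.z) :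
    ∃ p ∈ L.S.P', ∃ v : V4, v 1 = 0 ∧ v 3 = 0 ∧ v 2 ≠ 0 ∧ p⁻¹ * q * p = L.el v := by
  classical
  let f : ↥L.S.P' × ZMod 3 → {x : ↥L.S.Q2 // (x : G) ∉ zpowers L.S.z} := fun pa =>
    ⟨⟨pa.1 * L.el e2 * (pa.1 : G)⁻¹ * L.el (pa.2 • e0),
      mul_mem (L.P'_conj pa.1.2 _ L.e2_mem) (by
        obtain h := L.zpowers_z.2 ⟨pa.2, rfl⟩
        exact zpowers_le.2 L.S.z_mem2 h)⟩, fun h => L.e2_not_mem (by
      have hz : (pa.1 : G) * L.el e2 * (pa.1 : G)⁻¹ ∈ zpowers L.S.z :=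
        (Subgroup.mul_mem_cancel_right _ (L.zpowers_z.2 ⟨pa.2, rfl⟩)).1 h
      have hc := (Pt.fix_Z (z := L.S.z) (mem_centralizer_singleton_iff.1 (L.S.P'_le pa.1.2)) hz).eq
      have e' : L.el e2 = (pa.1 : G) * L.el e2 * (pa.1 : G)⁻¹ :=
        calc L.el e2 = (pa.1 : G)⁻¹ * ((pa.1 : G) * L.el e2 * (pa.1 : G)⁻¹ * pa.1) := by group
          _ = (pa.1 : G)⁻¹ * ((pa.1 : G) * ((pa.1 : G) * L.el e2 * (pa.1 : G)⁻¹)) := by rw [← hc]
          _ = _ := by group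
      rw [e']
      exact hz)⟩
  have hinj : Function.Injective f := by
    rintro ⟨p, a⟩ ⟨r, b⟩ e
    have e' : (p : G) * L.el e2 * (p : G)⁻¹ * L.el (a • e0) = r * L.el e2 * (r : G)⁻¹ * L.el (b • e0) :=
      congrArg (fun x => ((x : {x : ↥L.S.Q2 // (x : G) ∉ zpowers L.S.z}).1 : G)) e
    have hz : ∀ w ∈ zpowers L.S.z, (r : G)⁻¹ * w * r = w := fun w hw => by
      rw [mul_assoc, ← (Pt.fix_Z (z := L.S.z) (mem_centralizer_singleton_iff.1 (L.S.P'_le r.2)) hw).eq,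
        inv_mul_cancel_left]
    have h1 : (r : G)⁻¹ * p = 1 := L.P'_fix (mul_mem (inv_mem r.2) p.2) (by
      have e'' : (p : G) * L.el e2 * (p : G)⁻¹ = r * L.el e2 * (r : G)⁻¹ * (L.el (b • e0) * (L.el (a • e0))⁻¹) := by
        rw [← mul_assoc, ← e', mul_inv_cancel_right]
      have hw : L.el (b • e0) * (L.el (a • e0))⁻¹ ∈ zpowers L.S.z :=
        mul_mem (L.zpowers_z.2 ⟨b, rfl⟩) (inv_mem (L.zpowers_z.2 ⟨a, rfl⟩))
      rw [show (L.el e2)⁻¹ * ((r : G)⁻¹ * p * L.el e2 * ((r : G)⁻¹ * p)⁻¹) =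
        (L.el e2)⁻¹ * ((r : G)⁻¹ * ((p : G) * L.el e2 * (p : G)⁻¹) * r) by group, e'',
        show (L.el e2)⁻¹ * ((r : G)⁻¹ * ((r : G) * L.el e2 * (r : G)⁻¹ * (L.el (b • e0) * (L.el (a • e0))⁻¹)) * r) =
          (r : G)⁻¹ * (L.el (b • e0) * (L.el (a • e0))⁻¹) * r by group, hz _ hw]
      exact hw)
    rw [inv_mul_eq_one] at h1
    rw [← h1] at e'
    have := congrFun (L.jd.el_inj (mul_left_cancel e')) 0
    exact Prod.ext (Subtype.ext h1.symm) (by simpa [e0] using this)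
  have hcard : Nat.card {x : ↥L.S.Q2 // (x : G) ∉ zpowers L.S.z} = 24 := by
    have h1 := Nat.card_congr (Equiv.sumCompl fun x : ↥L.S.Q2 => (x : G) ∈ zpowers L.S.z)
    rw [Nat.card_sum, L.S.card2] at h1
    have h2 : Nat.card {x : ↥L.S.Q2 // (x : G) ∈ zpowers L.S.z} = 3 := by
      rw [← L.S.core.card_zpowers]
      exact Nat.card_congr ⟨fun x => ⟨x.1.1, x.2⟩, fun x => ⟨⟨x.1, zpowers_le.2 L.S.z_mem2 x.2⟩, x.2⟩,
        fun x => rfl, fun x => rfl⟩
    omega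
  have hsurj : Function.Surjective f := by
    haveI : Fintype {x : ↥L.S.Q2 // (x : G) ∉ zpowers L.S.z} := Fintype.ofFinite _
    haveI : Fintype ↥L.S.P' := Fintype.ofFinite _
    refine ((Fintype.bijective_iff_injective_and_card f).2 ⟨hinj, ?_⟩).2
    rw [← Nat.card_eq_fintype_card (α := {x : ↥L.S.Q2 // (x : G) ∉ zpowers L.S.z}), hcard,
      ← Nat.card_eq_fintype_card, Nat.card_prod, L.S.card_P', Nat.card_eq_fintype_card, ZMod.card]
  obtain ⟨⟨p, a⟩, e⟩ := hsurj ⟨⟨q, hq⟩, hqz⟩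
  have e' : (p : G) * L.el e2 * (p : G)⁻¹ * L.el (a • e0) = q :=
    congrArg (fun x => ((x : {x : ↥L.S.Q2 // (x : G) ∉ zpowers L.S.z}).1 : G)) e
  refine ⟨p, p.2, e2 + a • e0, by simp [e0, e2], by simp [e0, e2], by simp [e0, e2], ?_⟩
  have hz := (Pt.fix_Z (z := L.S.z) (mem_centralizer_singleton_iff.1 (L.S.P'_le p.2)) (L.zpowers_z.2 ⟨a, rfl⟩)).eq
  rw [← e', L.jd.el_add, mul_assoc, mul_assoc, ← hz]
  group

end Loc

namespace Close

variable {G : Type*} [Group G] [Finite G] {L : Loc G} {W : Subgroup G} {c : G} (q : Quot L W c)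
include q

/-- The abelian centraliser is the scalar group times `J`. -/
theorem exists_cover {x : G} (hx : x ∈ L.K) : ∃ cc ∈ zpowers c, ∃ v : V4, x = cc * L.el v := by
  classical
  have hcK : c ∈ L.K := (L.mem_Kt.1 q.c_mem).1
  rcases q.c_case with ⟨h81, -⟩ | ⟨h243, hcJ, -⟩
  · let f : V4 → ↥L.K := fun v => ⟨L.el v, L.el_mem_K v⟩
    haveI : Fintype ↥L.K := Fintype.ofFinite _
    obtain ⟨v, hv⟩ := ((Fintype.bijective_iff_injective_and_card f).2 ⟨fun a b e =>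
      L.jd.el_inj (congrArg Subtype.val e), by rw [← Nat.card_eq_fintype_card (α := ↥L.K), h81]; rfl⟩).2 ⟨x, hx⟩
    exact ⟨1, one_mem _, v, by rw [one_mul]; exact (congrArg Subtype.val hv).symm⟩
  let f : ↥(zpowers c) × V4 → ↥L.K := fun p =>
    ⟨p.1.1 * L.el p.2, L.K.mul_mem (zpowers_le.2 hcK p.1.2) (L.el_mem_K _)⟩
  have hc1 : c ≠ 1 := fun e => hcJ 0 (by rw [L.el_zero, e])
  have ho : orderOf c = 3 := by
    haveI : Fact (Nat.Prime 3) := ⟨Nat.prime_three⟩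
    exact orderOf_eq_prime (L.K_exp c hcK) hc1
  have hf : Function.Injective f := by
    rintro ⟨a, u⟩ ⟨b, v⟩ e
    have e' : (a : G) * L.el u = b * L.el v := congrArg Subtype.val e
    have h1 : (b : G)⁻¹ * a = L.el (v - u) := by
      rw [sub_eq_add_neg, L.jd.el_add, L.el_neg, eq_mul_inv_iff_mul_eq, mul_assoc, e', inv_mul_cancel_left]
    obtain ⟨n, hn, hn'⟩ : ∃ n < 3, c ^ n = (b : G)⁻¹ * a := by
      obtain ⟨n, hn⟩ := mem_powers_iff_mem_zpowers.2 (mul_mem (inv_mem b.2) a.2 : (b : G)⁻¹ * a ∈ zpowers c)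
      refine ⟨n % 3, Nat.mod_lt _ (by norm_num), ?_⟩
      have := (pow_mod_orderOf c n).trans hn
      rwa [ho] at this
    interval_cases n
    · rw [pow_zero] at hn'
      rw [← hn'] at h1
      have h3 : v - u = 0 := L.jd.el_inj (h1.symm.trans L.el_zero.symm)
      exact Prod.ext (Subtype.ext (inv_mul_eq_one.1 hn'.symm).symm) (sub_eq_zero.1 h3).symm
    · exact absurd (by rw [← h1, ← hn', pow_one]) (hcJ (v - u))
    · refine absurd ?_ (hcJ (-(v - u)))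
      rw [L.el_neg, ← h1, ← hn']
      refine eq_inv_of_mul_eq_one_left ?_
      rw [← pow_succ', show (2 + 1) = 3 from rfl]
      exact L.K_exp c hcK
  haveI : Fintype ↥L.K := Fintype.ofFinite _
  haveI : Fintype ↥(zpowers c) := Fintype.ofFinite _
  obtain ⟨⟨a, v⟩, hv⟩ := ((Fintype.bijective_iff_injective_and_card f).2 ⟨hf, by
    rw [Fintype.card_prod, ← Nat.card_eq_fintype_card (α := ↥L.K), ← Nat.card_eq_fintype_card (α := ↥(zpowers c)),
      Nat.card_zpowers, ho, h243]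
    rfl⟩).2 ⟨x, hx⟩
  exact ⟨a, a.2, v, (congrArg Subtype.val hv).symm⟩

theorem exists_cover_Kt {x : G} (hx : x ∈ L.Kt) : ∃ cc ∈ zpowers c, ∃ v : V4, v 1 = 0 ∧ x = cc * L.el v := by
  obtain ⟨cc, hcc, v, rfl⟩ := exists_cover q (L.mem_Kt.1 hx).1
  refine ⟨cc, hcc, v, L.el_mem_Kt.1 ?_, rfl⟩
  have := L.Kt.mul_mem (L.Kt.inv_mem (zpowers_le.2 q.c_mem hcc)) hx
  rwa [inv_mul_cancel_left] at this

variable (E : Ctl L W c)
include E

theorem T3_commute_c {x : G} (hx : x ∈ L.T3) : Commute x c := by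
  obtain ⟨b, hb, k, hk, rfl⟩ := L.exists_T3 hx
  exact (E.comm_Q2 b hb).mul_left (c_commute q hk)

theorem commute_zpowers_c {x y : G} (h : Commute x c) (hy : y ∈ zpowers c) : Commute x y := by
  obtain ⟨n, rfl⟩ := mem_zpowers_iff.1 hy
  exact h.zpow_right n

/-- An element of order three of the Sylow subgroup outside the abelian part is scalar times the second factor. -/
theorem T3_cube {x : G} (hx : x ∈ L.T3) (h3 : x ^ 3 = 1) :
    x ∈ L.Kt ∨ ∃ b ∈ L.S.Q2, ∃ cc ∈ zpowers c, b ∉ L.Kt ∧ x = b * cc := by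
  classical
  obtain ⟨b, hb, k, hk, rfl⟩ := L.exists_T3 hx
  obtain ⟨cc, hcc, v, hv1, rfl⟩ := exists_cover_Kt q hk
  by_cases hbK : b ∈ L.Kt
  · exact Or.inl (L.Kt.mul_mem hbK hk)
  have hbc : Commute b cc := commute_zpowers_c q E (E.comm_Q2 b hb) hcc
  have hcv : Commute cc (L.el v) := L.K_commute (zpowers_le.2 (L.mem_Kt.1 q.c_mem).1 hcc) (L.el_mem_K v)
  have e : b * (cc * L.el v) = b * L.el v * cc := by rw [hcv.eq, mul_assoc]
  rw [e] at h3 ⊢
  by_cases hv3 : v 3 = 0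
  · right
    exact ⟨_, mul_mem hb (L.el_low hv1 hv3), cc, hcc,
      fun h => hbK ((Subgroup.mul_mem_cancel_right _ (L.el_mem_Kt.2 hv1)).1 h), rfl⟩
  exfalso
  have hcc3 : cc ^ 3 = 1 := L.K_exp _ (zpowers_le.2 (L.mem_Kt.1 q.c_mem).1 hcc)
  rw [(hbc.mul_left hcv.symm).mul_pow, hcc3, mul_one] at h3
  have hbN : b ∈ normalizer (L.Kt : Set G) := by
    refine mem_normalizer_iff_map_conj_eq.2 (L.Kt_unique ?_ ?_ (card_map_of_injective (MulAut.conj b).injective))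
    · rintro _ ⟨x, hx, rfl⟩
      exact mul_mem (mul_mem (L.Q2_le_T3 hb) (L.Kt_le_T3 hx)) (inv_mem (L.Q2_le_T3 hb))
    · rintro _ ⟨x, hx, rfl⟩ _ ⟨y, hy, rfl⟩
      exact (L.Kt_commute hx hy).map _
  obtain ⟨n, M, hnt, hnM, hMq, hact⟩ := exists_normJ q E (L.Q2_commute_t hb) hbN
  have hbM : ∀ u : V4, u 1 = 0 → b * L.el u * b⁻¹ = L.el (M.mulVec u) := fun u hu => by
    rw [← hact _ (L.el_mem_Kt.2 hu), hnM]
  have h0 : M.mulVec e0 = e0 := L.jd.el_inj (by
    rw [← hbM e0 (by decide), L.z_eq, (L.Q2_commute_z hb).eq, mul_inv_cancel_right])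
  obtain ⟨a, ha⟩ := L.zpowers_z.1 (L.S.core.comm b (L.S.le2 hb) _ (L.S.le2 L.e2_mem))
  have h2 : M.mulVec e2 = a • e0 + e2 := L.jd.el_inj (by
    rw [← hbM e2 (by decide), L.jd.el_add, ← ha]; group)
  have ha0 : a ≠ 0 := fun h => hbK (L.Q2_axis hb (mul_inv_eq_iff_eq_mul.1 (by
    rw [hbM e2 (by decide), h2, h, zero_smul, zero_add])))
  set w := M.mulVec e3 with hw
  obtain ⟨s, -, -, hbf⟩ := isSim_mult (Or.inl hMq : IsSim M)
  have hw1 : w 1 = 0 := L.el_commute_t.1 (by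
    rw [hw, ← hnM]
    exact (hnt.mul_left (L.el_commute_t.2 (by decide))).mul_left hnt.inv_left)
  have hs1 : s = 1 := by
    have h := hbf e2 e2
    rw [h2] at h
    exact (by decide : ∀ a s : ZMod 3, bf (a • e0 + e2) (a • e0 + e2) = s * bf e2 e2 → s = 1) a s h
  have hwb : bf e0 w = 1 := by
    have h := hbf e0 e3
    rw [h0, hs1, one_mul] at h
    exact h.trans (by decide)
  have hwc : bf (a • e0 + e2) w = 0 := by
    have h := hbf e2 e3
    rw [h2, hs1, one_mul] at h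
    exact h.trans (by decide)
  have hlin : ∀ u : V4, u 1 = 0 → M.mulVec u = u 0 • e0 + u 2 • (a • e0 + e2) + u 3 • w := by
    intro u hu
    conv_lhs => rw [(plane_basis u).1, hu]
    simp only [zero_smul, add_zero, Matrix.mulVec_add, Matrix.mulVec_smul, h0, h2, ← hw]
  have hb3 : b ^ 3 = 1 := L.S.exp b (L.S.le2 hb)
  have hb2 : (b⁻¹) ^ 2 = b := by
    rw [inv_pow, inv_eq_iff_mul_eq_one, ← pow_succ, hb3]
  rw [pow_cube, hb3, one_mul, hb2, show b ^ 2 = b⁻¹ from eq_inv_of_mul_eq_one_left (by rw [← pow_succ, hb3]),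
    hbM v hv1, show b⁻¹ * L.el v * b = b * (b * L.el v * b⁻¹) * b⁻¹ by
      calc b⁻¹ * L.el v * b = b⁻¹ * L.el v * (b⁻¹)⁻¹ := by rw [inv_inv]
        _ = (b * b) * L.el v * (b * b)⁻¹ := by
          rw [show b⁻¹ = b * b from inv_eq_of_mul_eq_one_right (by rw [← pow_three, hb3])]
        _ = _ := by group,
    hbM v hv1] at h3
  have hv1' : (M.mulVec v) 1 = 0 := L.el_mem_Kt.1 (by
    rw [← hbM v hv1]; exact (mem_normalizer_iff.1 hbN _).1 (L.el_mem_Kt.2 hv1))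
  rw [hbM _ hv1', ← L.jd.el_add, ← L.jd.el_add, ← L.el_zero] at h3
  have h4 := L.jd.el_inj h3
  have e0' : ∀ p r : V4, p + r + v = v + p + r := fun p r => by abel
  rw [e0'] at h4
  have hsum : v + (v 0 • e0 + v 2 • (a • e0 + e2) + v 3 • w) +
      ((v 0 + v 2 * a) • e0 + v 2 • (a • e0 + e2) + v 3 • (w 0 • e0 + w 2 • (a • e0 + e2) + w 3 • w)) = 0 := by
    rw [← hlin w hw1, ← hlin v hv1]
    have e2' : M.mulVec (M.mulVec v) = (v 0 + v 2 * a) • e0 + v 2 • (a • e0 + e2) + v 3 • M.mulVec w := by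
      conv_lhs => arg 2; rw [hlin v hv1]
      simp only [Matrix.mulVec_add, Matrix.mulVec_smul, h0, h2, add_smul, mul_smul, smul_add]
      abel
    rw [← e2']
    exact h4
  exact hv3 (move_eq a w v ha0 hw1 (by rw [hw, hMq]; decide) hwb hwc hv1 hsum)

/-- In the Sylow subgroup a commuting pair of elements of order three is conjugate into the abelian part. -/
theorem T3_pair {x y : G} (hx : x ∈ L.T3) (hy : y ∈ L.T3) (hx3 : x ^ 3 = 1) (hy3 : y ^ 3 = 1) (hxy : Commute x y) :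
    ∃ m ∈ topGroup L W c, m * x * m⁻¹ ∈ L.Kt ∧ m * y * m⁻¹ ∈ L.Kt := by
  by_cases hxK : x ∈ L.Kt
  · by_cases hyK : y ∈ L.Kt
    · exact ⟨1, one_mem _, by simpa using hxK, by simpa using hyK⟩
    · obtain ⟨m, hm, h1, h2⟩ := aux hy hx hy3 hx3 hxy.symm hyK
      exact ⟨m, hm, h2, h1⟩
  · exact aux hx hy hx3 hy3 hxy hxK
where
  aux {x y : G} (hx : x ∈ L.T3) (hy : y ∈ L.T3) (hx3 : x ^ 3 = 1) (hy3 : y ^ 3 = 1) (hxy : Commute x y)
      (hxK : x ∉ L.Kt) : ∃ m ∈ topGroup L W c, m * x * m⁻¹ ∈ L.Kt ∧ m * y * m⁻¹ ∈ L.Kt := by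
    obtain ⟨b, hb, cc, hcc, hbK, rfl⟩ := (T3_cube q E hx hx3).resolve_left hxK
    have hbz : b ∉ zpowers L.S.z := fun h => hbK (zpowers_le.2 L.z_mem_Kt h)
    obtain ⟨p, hp, v, hv1, hv3, hv2, hpv⟩ := L.exists_P' hb hbz
    have hpc : ∀ {d}, d ∈ zpowers c → p⁻¹ * d * p = d := fun {d} hd => by
      rw [(commute_zpowers_c q E (E.comm_P' p hp).inv_left hd).eq, inv_mul_cancel_right]
    have hccK : cc ∈ L.Kt := zpowers_le.2 q.c_mem hcc
    refine ⟨p⁻¹, inv_mem (P'_le_top q E hp), ?_, ?_⟩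
    · rw [inv_inv, show p⁻¹ * (b * cc) * p = (p⁻¹ * b * p) * (p⁻¹ * cc * p) by group, hpv, hpc hcc]
      exact L.Kt.mul_mem (L.el_mem_Kt.2 hv1) hccK
    rw [inv_inv]
    have hby : Commute b y := by
      have h1 : Commute cc⁻¹ y := (commute_zpowers_c q E (T3_commute_c q E hy) (inv_mem hcc)).symm
      have := hxy.mul_left h1
      rwa [mul_inv_cancel_right] at this
    rcases T3_cube q E hy hy3 with hyK | ⟨b', hb', dd, hdd, -, rfl⟩
    · obtain ⟨dd, hdd, u, hu1, rfl⟩ := exists_cover_Kt q hyK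
      have hbu : Commute b (L.el u) := by
        have := (commute_zpowers_c q E (E.comm_Q2 b hb) (inv_mem hdd)).mul_right hby
        rwa [inv_mul_cancel_left] at this
      have hu3 : u 3 = 0 := by
        by_contra h
        exact hbK (L.Q2_cent hb hu1 h hbu)
      have hu2 : u 2 = 0 := by
        by_contra h
        refine hbK (L.Q2_axis hb ?_)
        rw [low_e2 u hu1 hu3 h, L.jd.el_add, ← ZMod.natCast_rightInverse (u 2),
          el_natCast_smul L.el L.jd.el_add, ← ZMod.natCast_rightInverse (-(_ * u 0)),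
          el_natCast_smul L.el L.jd.el_add]
        exact (hbu.pow_right _).mul_right ((L.z_eq ▸ L.Q2_commute_z hb).pow_right _)
      have hu : u = u 0 • e0 := by
        conv_lhs => rw [low_facts u hu1 hu3, hu2, zero_smul, add_zero]
      have hpu : p⁻¹ * L.el u * p = L.el u := by
        rw [mul_assoc, ← (Pt.fix_Z (z := L.S.z) (mem_centralizer_singleton_iff.1 (L.S.P'_le hp))
          (L.zpowers_z.2 ⟨u 0, by rw [← hu]⟩)).eq, inv_mul_cancel_left]
      rw [show p⁻¹ * (dd * L.el u) * p = (p⁻¹ * dd * p) * (p⁻¹ * L.el u * p) by group, hpc hdd, hpu]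
      exact hyK
    · rw [show p⁻¹ * (b' * dd) * p = (p⁻¹ * b' * p) * (p⁻¹ * dd * p) by group, hpc hdd]
      refine L.Kt.mul_mem (L.Q2_axis (by simpa using L.P'_conj (inv_mem hp) b' hb') ?_) (zpowers_le.2 q.c_mem hdd)
      have hbb : Commute b b' := by
        have := hby.mul_right (commute_zpowers_c q E (E.comm_Q2 b hb) (inv_mem hdd))
        rwa [mul_inv_cancel_right] at this
      have h2 := hbb.map (MulAut.conj p⁻¹).toMonoidHom
      rw [show (MulAut.conj p⁻¹).toMonoidHom b = L.el v by rw [← hpv]; simp] at h2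
      have h3 : Commute (p⁻¹ * b' * p) (L.el v) := by simpa using h2.symm
      rw [low_e2 v hv1 hv3 hv2, L.jd.el_add, ← ZMod.natCast_rightInverse (v 2),
        el_natCast_smul L.el L.jd.el_add, ← ZMod.natCast_rightInverse (-(_ * v 0)),
        el_natCast_smul L.el L.jd.el_add]
      refine (h3.pow_right _).mul_right (Commute.pow_right ?_ _)
      rw [L.z_eq]
      exact L.Q2_commute_z (by simpa using L.P'_conj (inv_mem hp) b' hb')

/-- **A commuting pair of elements of order three is conjugate into the abelian part.** -/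
theorem conj_pair {x y : G} (hx : x ∈ topGroup L W c) (hy : y ∈ topGroup L W c) (hx3 : x ^ 3 = 1) (hy3 : y ^ 3 = 1)
    (hxy : Commute x y) : ∃ m ∈ topGroup L W c, m * x * m⁻¹ ∈ L.Kt ∧ m * y * m⁻¹ ∈ L.Kt := by
  classical
  haveI : Fact (Nat.Prime 3) := ⟨Nat.prime_three⟩
  set T := topGroup L W c with hT
  set U := zpowers x ⊔ zpowers y with hU
  have hUp : IsPGroup 3 U := by
    intro u
    refine ⟨1, Subtype.ext ?_⟩
    have hu : (u : G) ∈ ((zpowers x ⊔ zpowers y : Subgroup G) : Set G) := u.2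
    rw [coe_mul_of_right_le_normalizer_left _ _ (zpowers_le.2 (norm_of_commute hxy.symm))] at hu
    obtain ⟨a, ha, b, hb, e⟩ := Set.mem_mul.1 hu
    obtain ⟨i, rfl⟩ := mem_zpowers_iff.1 (SetLike.mem_coe.1 ha)
    obtain ⟨j, rfl⟩ := mem_zpowers_iff.1 (SetLike.mem_coe.1 hb)
    have hi : (x ^ i) ^ (3 : ℕ) = 1 := by
      rw [← zpow_natCast (x ^ i) 3, ← zpow_mul, mul_comm, zpow_mul, zpow_natCast, hx3, one_zpow]
    have hj : (y ^ j) ^ (3 : ℕ) = 1 := by
      rw [← zpow_natCast (y ^ j) 3, ← zpow_mul, mul_comm, zpow_mul, zpow_natCast, hy3, one_zpow]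
    rw [SubmonoidClass.coe_pow, pow_one, ← e, ((hxy.zpow_zpow i j)).mul_pow, hi, hj, one_mul]
    rfl
  have hUT : U ≤ T := sup_le (zpowers_le.2 hx) (zpowers_le.2 hy)
  obtain ⟨S0, hS0⟩ := (L.T3_pGroup.comap_subtype (K := T)).exists_le_sylow
  have hS0eq : (S0 : Subgroup ↥T).map T.subtype = L.T3 :=
    (eq_of_le_of_card_ge (fun z hz => mem_map.2 ⟨⟨z, T3_le_top q E hz⟩, hS0 (mem_subgroupOf.2 hz), rfl⟩)
      (card_le_T3 q E (S0.2.map _) (map_subtype_le _))).symm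
  obtain ⟨S1, hS1⟩ := (hUp.comap_subtype (K := T)).exists_le_sylow
  obtain ⟨d, hd⟩ := MulAction.exists_smul_eq ↥T S1 S0
  have hto : ∀ z ∈ U, (d : G) * z * (d : G)⁻¹ ∈ L.T3 := fun z hz => by
    rw [← hS0eq]
    exact ⟨d * ⟨z, hUT hz⟩ * d⁻¹, by rw [← hd]; exact ⟨_, hS1 (mem_subgroupOf.2 hz), rfl⟩, rfl⟩
  obtain ⟨m, hm, h1, h2⟩ := T3_pair q E (hto x (mem_sup_left (mem_zpowers _)))
    (hto y (mem_sup_right (mem_zpowers _))) (by rw [conj_pow, hx3, mul_one, mul_inv_cancel])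
    (by rw [conj_pow, hy3, mul_one, mul_inv_cancel]) (hxy.map (MulAut.conj (d : G)).toMonoidHom)
  refine ⟨m * d, mul_mem hm d.2, ?_, ?_⟩
  · rwa [show m * (d : G) * x * (m * d)⁻¹ = m * ((d : G) * x * (d : G)⁻¹) * m⁻¹ by group]
  · rwa [show m * (d : G) * y * (m * d)⁻¹ = m * ((d : G) * y * (d : G)⁻¹) * m⁻¹ by group]

/-- An element of order three is conjugate into the abelian part. -/
theorem conj_one {x : G} (hx : x ∈ topGroup L W c) (hx3 : x ^ 3 = 1) :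
    ∃ m ∈ topGroup L W c, m * x * m⁻¹ ∈ L.Kt := by
  obtain ⟨m, hm, h, -⟩ := conj_pair q E hx hx hx3 hx3 (Commute.refl x)
  exact ⟨m, hm, h⟩

end Close

end Cfsg.Agent.U62Three
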