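import Cfsg.Agent.Lib.U62Three.Close.Conj

/-!
What the subgroup controls: the fusion of its elements of order three, the elements moving a point, an exterior
element, the scalar or a pair into it.
-/

set_option autoImplicit false
set_option maxRecDepth 20000
set_option linter.style.haveILetI false

namespace Cfsg.Agent.U62Three.Close

open Subgroup
open Co2Three (V4 qf bf e0 e1 e2 e3 refl1 IsSim isSim_mult)
open scoped commutatorElement Pointwise

/-- A word in the translations moves every singular or exterior vector of the plane to the axes. -/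
theorem to_axis : ∀ v : V4, v 1 = 0 → v ≠ 0 → qf v ≠ 1 → ∃ a b d : ZMod 3,
    let w := (trM 0 a).mulVec ((tr3M 0 b).mulVec ((trM 0 d).mulVec v))
    (qf v = 0 → w = e0 ∨ w = -e0) ∧ (qf v ≠ 0 → w = e2 ∨ w = -e2) := by decide +kernel

theorem tr_plane' : ∀ a : ZMod 3, ∀ v : V4, (trM 0 a).mulVec (refl1 v) = refl1 ((trM 0 a).mulVec v) ∧
    (tr3M 0 a).mulVec (refl1 v) = refl1 ((tr3M 0 a).mulVec v) := by decide +kernel

variable {G : Type*} [Group G] [Finite G] {L : Loc G} {W : Subgroup G} {c : G} (q : Quot L W c) (E : Ctl L W c)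
include q E

/-- An element realising a translation word inside the subgroup. -/
theorem exists_word (R : Matrix (Fin 4) (Fin 4) (ZMod 3)) (hR : IsRot R)
    (hRr : ∀ v, R.mulVec (refl1 v) = refl1 (R.mulVec v)) :
    ∃ m ∈ topGroup L W c, ∀ v, m * L.el v * m⁻¹ = L.el (R.mulVec v) := by
  obtain ⟨r, hr⟩ := L.jd.rot R hR
  have hRi : Function.Injective R.mulVec := fun u v e => L.jd.el_inj (by
    have h := (hr u).trans ((congrArg L.el e).trans (hr v).symm)
    exact mul_left_cancel (mul_right_cancel h))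
  obtain ⟨b, hb, hm⟩ := L.exists_into hr hRi hRr
  refine ⟨_, mem_topGroup (q.mid.norm_plane _ hb fun v _ => ⟨_, hm v⟩) hb
    (norm_of_commute (E.comm_S6 _ hb R (Or.inl hR) hm)), hm⟩

/-- The centraliser in the centraliser of `t`, moved by an element of the subgroup. -/
theorem cent_conj {x m : G} (hm : m ∈ topGroup L W c)
    (h : centralizer ({m * x * m⁻¹} : Set G) ⊓ centralizer {L.S.t} ≤ topGroup L W c) :
    centralizer ({x} : Set G) ⊓ centralizer {L.S.t} ≤ topGroup L W c := fun g hg => by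
  obtain ⟨h1, h2⟩ := mem_inf.1 hg
  have hmt : Commute m L.S.t := mem_centralizer_singleton_iff.1 (topGroup_le_cent q.mid hm)
  have : m * g * m⁻¹ ∈ topGroup L W c := h (mem_inf.2 ⟨mem_centralizer_singleton_iff.2
    ((show Commute g x from mem_centralizer_singleton_iff.1 h1).map (MulAut.conj m).toMonoidHom).eq,
    mem_centralizer_singleton_iff.2
      ((hmt.mul_left (mem_centralizer_singleton_iff.1 h2)).mul_left hmt.inv_left).eq⟩)
  rw [show g = m⁻¹ * (m * g * m⁻¹) * m by group]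
  exact mul_mem (mul_mem (inv_mem hm) this) hm

theorem centC_le_top (hc : c ≠ 1) : centralizer ({c} : Set G) ⊓ centralizer {L.S.t} ≤ topGroup L W c := fun g hg =>
  mem_topGroup (q.cent_c hc hg) (mem_centralizer_singleton_iff.1 (mem_inf.1 hg).2)
    (norm_of_commute (mem_centralizer_singleton_iff.1 (mem_inf.1 hg).1))

theorem centE2_le_top (h81 : Nat.card L.K = 81) :
    centralizer ({L.el e2} : Set G) ⊓ centralizer {L.S.t} ≤ topGroup L W c := fun g hg => by
  refine mem_topGroup (q.mid.cent_exterior h81 hg) (mem_centralizer_singleton_iff.1 (mem_inf.1 hg).2) ?_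
  rcases q.c_case with ⟨-, rfl⟩ | ⟨h, -⟩
  · exact norm_of_commute (Commute.one_right g)
  · omega

/-- A singular element of the plane is controlled, and without scalar also an exterior one. -/
theorem cent_el {v : V4} (h1 : v 1 = 0) (h0 : v ≠ 0) (hv : qf v = 0 ∨ (qf v ≠ 1 ∧ Nat.card L.K = 81)) :
    centralizer ({L.el v} : Set G) ⊓ centralizer {L.S.t} ≤ topGroup L W c := by
  have hne : qf v ≠ 1 := hv.elim (fun h => by rw [h]; decide) And.left
  obtain ⟨a, b, d, hw0, hw2⟩ := to_axis v h1 h0 hne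
  obtain ⟨m1, hm1, e1'⟩ := exists_word q E _ (isRot_tr 0 d) fun v => (tr_plane' d v).1
  obtain ⟨m2, hm2, e2'⟩ := exists_word q E _ (isRot_tr3 0 b) fun v => (tr_plane' b v).2
  obtain ⟨m3, hm3, e3'⟩ := exists_word q E _ (isRot_tr 0 a) fun v => (tr_plane' a v).1
  refine cent_conj q E (mul_mem (mul_mem hm3 hm2) hm1) ?_
  rw [show m3 * m2 * m1 * L.el v * (m3 * m2 * m1)⁻¹ = m3 * (m2 * (m1 * L.el v * m1⁻¹) * m2⁻¹) * m3⁻¹ by group,
    e1', e2', e3']
  have hinv : ∀ u : V4, centralizer ({L.el (-u)} : Set G) ≤ centralizer {L.el u} := fun u g hg => by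
    rw [mem_centralizer_singleton_iff] at hg ⊢
    rw [L.el_neg] at hg
    exact (Commute.inv_right_iff.1 hg).eq
  by_cases hq : qf v = 0
  · rcases hw0 hq with e | e <;> rw [e]
    · rw [L.z_eq]; exact centZ_le_top q E
    · refine le_trans (inf_le_inf_right _ (hinv e0)) ?_
      rw [L.z_eq]; exact centZ_le_top q E
  · have h81 := (hv.resolve_left hq).2
    rcases hw2 hq with e | e <;> rw [e]
    · exact centE2_le_top q E h81
    · exact le_trans (inf_le_inf_right _ (hinv e2)) (centE2_le_top q E h81)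

/-- An element of order three centralised only inside the subgroup controls. -/
theorem control_one {x g : G} (hx : x ∈ topGroup L W c) (hx3 : x ^ 3 = 1)
    (hC : centralizer ({x} : Set G) ⊓ centralizer {L.S.t} ≤ topGroup L W c)
    (hg : Commute g L.S.t) (hgx : g * x * g⁻¹ ∈ topGroup L W c) : g ∈ topGroup L W c := by
  obtain ⟨m, hm, hmx⟩ := conj_one q E hx hx3
  obtain ⟨m', hm', hmx'⟩ := conj_one q E hgx (by rw [conj_pow, hx3, mul_one, mul_inv_cancel])
  have hmt : Commute m L.S.t := mem_centralizer_singleton_iff.1 (topGroup_le_cent q.mid hm)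
  have hmt' : Commute m' L.S.t := mem_centralizer_singleton_iff.1 (topGroup_le_cent q.mid hm')
  set g' := m' * g * m⁻¹ with hg'
  have hg't : Commute g' L.S.t := (hmt'.mul_left hg).mul_left hmt.inv_left
  obtain ⟨n, hnt, hn, hnx⟩ := fusion q E (X := {m * x * m⁻¹}) (by simpa using hmx) hg't (by
    simpa [hg', mul_assoc] using hmx')
  have h1 := hnx _ rfl
  have hs : n⁻¹ * g' ∈ centralizer ({m * x * m⁻¹} : Set G) ⊓ centralizer {L.S.t} :=
    mem_inf.2 ⟨mem_centralizer_singleton_iff.2 (mul_inv_eq_iff_eq_mul.1 (by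
      rw [show n⁻¹ * g' * (m * x * m⁻¹) * (n⁻¹ * g')⁻¹ = n⁻¹ * (g' * (m * x * m⁻¹) * g'⁻¹) * n by group, ← h1]
      group)), mem_centralizer_singleton_iff.2 (hnt.inv_left.mul_left hg't).eq⟩
  have hC' : centralizer ({m * x * m⁻¹} : Set G) ⊓ centralizer {L.S.t} ≤ topGroup L W c :=
    cent_conj q E (inv_mem hm) (by rwa [show m⁻¹ * (m * x * m⁻¹) * m⁻¹⁻¹ = x by group])
  rw [show g = m'⁻¹ * (n * (n⁻¹ * g')) * m by rw [hg']; group]
  exact mul_mem (mul_mem (inv_mem hm') (mul_mem (normKt_le_top q E hnt hn) (hC' hs))) hm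

/-- A commuting independent pair of elements of order three controls. -/
theorem control_pair {x y g : G} (hx : x ∈ topGroup L W c) (hy : y ∈ topGroup L W c) (hx3 : x ^ 3 = 1)
    (hy3 : y ^ 3 = 1) (hxy : Commute x y) (hx1 : x ≠ 1) (hne : y ∉ zpowers x) (hg : Commute g L.S.t)
    (hgx : g * x * g⁻¹ ∈ topGroup L W c) (hgy : g * y * g⁻¹ ∈ topGroup L W c) : g ∈ topGroup L W c := by
  obtain ⟨m, hm, hmx, hmy⟩ := conj_pair q E hx hy hx3 hy3 hxy
  obtain ⟨m', hm', hmx', hmy'⟩ := conj_pair q E hgx hgy (by rw [conj_pow, hx3, mul_one, mul_inv_cancel])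
    (by rw [conj_pow, hy3, mul_one, mul_inv_cancel]) (hxy.map (MulAut.conj g).toMonoidHom)
  have hmt : Commute m L.S.t := mem_centralizer_singleton_iff.1 (topGroup_le_cent q.mid hm)
  have hmt' : Commute m' L.S.t := mem_centralizer_singleton_iff.1 (topGroup_le_cent q.mid hm')
  set g' := m' * g * m⁻¹ with hg'
  have hg't : Commute g' L.S.t := (hmt'.mul_left hg).mul_left hmt.inv_left
  obtain ⟨n, hnt, hn, hnx⟩ := fusion q E (X := {m * x * m⁻¹, m * y * m⁻¹})
    (by rintro _ (rfl | rfl); exacts [hmx, hmy]) hg't (by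
      rintro _ (rfl | rfl)
      · simpa [hg', mul_assoc] using hmx'
      · simpa [hg', mul_assoc] using hmy')
  have hs : n⁻¹ * g' ∈ centralizer ({m * x * m⁻¹} : Set G) ⊓ centralizer {m * y * m⁻¹} ⊓
      centralizer {L.S.t} := by
    have key : ∀ u ∈ ({m * x * m⁻¹, m * y * m⁻¹} : Set G), n⁻¹ * g' ∈ centralizer ({u} : Set G) := fun u hu =>
      mem_centralizer_singleton_iff.2 (mul_inv_eq_iff_eq_mul.1 (by
        rw [show n⁻¹ * g' * u * (n⁻¹ * g')⁻¹ = n⁻¹ * (g' * u * g'⁻¹) * n by group, ← hnx u hu]; group))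
    exact mem_inf.2 ⟨mem_inf.2 ⟨key _ (Or.inl rfl), key _ (Or.inr rfl)⟩,
      mem_centralizer_singleton_iff.2 (hnt.inv_left.mul_left hg't).eq⟩
  have hp : m * y * m⁻¹ ∉ zpowers (m * x * m⁻¹) := fun h => hne (by
    obtain ⟨k, hk⟩ := mem_zpowers_iff.1 h
    rw [conj_zpow] at hk
    exact mem_zpowers_iff.2 ⟨k, mul_left_cancel (mul_right_cancel hk)⟩)
  have hC := E.pair _ hmx _ hmy (fun h => hx1 (by simpa [mul_inv_eq_one] using h)) hp hs
  rw [show g = m'⁻¹ * (n * (n⁻¹ * g')) * m by rw [hg']; group]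
  exact mul_mem (mul_mem (inv_mem hm') (mul_mem (normKt_le_top q E hnt hn) hC)) hm

/-- The subgroup controls the fusion of its elements of order three. -/
theorem fusion_one {x g : G} (hx : x ∈ topGroup L W c) (hx3 : x ^ 3 = 1) (hg : Commute g L.S.t)
    (hgx : g * x * g⁻¹ ∈ topGroup L W c) : ∃ n ∈ topGroup L W c, n * x * n⁻¹ = g * x * g⁻¹ := by
  obtain ⟨m, hm, hmx⟩ := conj_one q E hx hx3
  obtain ⟨m', hm', hmx'⟩ := conj_one q E hgx (by rw [conj_pow, hx3, mul_one, mul_inv_cancel])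
  have hmt : Commute m L.S.t := mem_centralizer_singleton_iff.1 (topGroup_le_cent q.mid hm)
  have hmt' : Commute m' L.S.t := mem_centralizer_singleton_iff.1 (topGroup_le_cent q.mid hm')
  obtain ⟨n, hnt, hn, hnx⟩ := fusion q E (X := {m * x * m⁻¹}) (by simpa using hmx)
    ((hmt'.mul_left hg).mul_left hmt.inv_left) (by simpa [mul_assoc] using hmx')
  refine ⟨m'⁻¹ * n * m, mul_mem (mul_mem (inv_mem hm') (normKt_le_top q E hnt hn)) hm, ?_⟩
  rw [show m'⁻¹ * n * m * x * (m'⁻¹ * n * m)⁻¹ = m'⁻¹ * (n * (m * x * m⁻¹) * n⁻¹) * m' by group, hnx _ rfl]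
  group

end Cfsg.Agent.U62Three.Close
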