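import Cfsg.Agent.Lib.U62Aut.Model.Facts
import Cfsg.Agent.Lib.U62Aut.Model.Scalar
import Cfsg.Agent.Lib.U62Rec.Model.Coords
import Cfsg.Agent.Lib.U62Three.Close.Checks

/-!
The facts on the semilinear group on the 256 vectors that the closing step consumes: an element fixing many vectors
is a transvection, an involution that is no transvection centralises an element of order three, and the stabilised
lines and translates at one transvection.
-/

set_option autoImplicit false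
set_option maxRecDepth 20000

namespace Cfsg.Agent.U62Three.Close

open Equiv
open Cfsg.Agent.PermCert Cfsg.Agent.U62Rec.Model Cfsg.Agent.U62Aut

attribute [local irreducible] pack allBelow

/-- The vector of a number below 256. -/
abbrev vec (n : ℕ) (h : n < 256) : Vec := ⟨n, h⟩

/-- An additive permutation. -/
def Additive (σ : Perm Vec) : Prop := ∀ a b, σ (xorV a b) = xorV (σ a) (σ b)

theorem additive_of_mem {σ : Perm Vec} (h : σ ∈ Agrp) : Additive σ := semi_xor h

theorem Additive.zero {σ : Perm Vec} (h : Additive σ) : σ z0V = z0V := by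
  have h0 := h z0V z0V
  rw [show xorV z0V z0V = z0V from Fin.ext (Nat.xor_self _)] at h0
  rw [h0]
  exact Fin.ext (Nat.xor_self _)

theorem Additive.mul {σ τ : Perm Vec} (h : Additive σ) (h' : Additive τ) : Additive (σ * τ) := fun a b => by
  rw [Perm.mul_apply, h' a b, h]
  rfl

/-- Additive permutations agreeing on the basis are equal. -/
theorem Additive.ext_basis {σ τ : Perm Vec} (hσ : Additive σ) (hτ : Additive τ) (f g : ℕ → ℕ)
    (hf : ∀ v : Vec, f v = (σ v : ℕ)) (hg : ∀ v : Vec, g v = (τ v : ℕ)) (h : basisEq f g = true) : σ = τ := by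
  have hb : ∀ j, ∀ hj : 2 ^ j < 256, j < 8 → σ (vec (2 ^ j) hj) = τ (vec (2 ^ j) hj) := fun j hj hj8 => Fin.ext (by
    rw [← hf, ← hg]
    exact Nat.eq_of_beq_eq_true (allBelow_spec _ _ h j hj8))
  have hall : ∀ k ≤ 8, ∀ v : Vec, (v : ℕ) < 2 ^ k → σ v = τ v := by
    intro k
    induction k with
    | zero =>
      intro _ v hv
      have e : v = z0V := Fin.ext (show (v : ℕ) = 0 by simpa using hv)
      rw [e, hσ.zero, hτ.zero]
    | succ k ih =>
      intro hk v hv
      by_cases hlt : (v : ℕ) < 2 ^ k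
      · exact ih (by omega) v hlt
      have h256 : 2 ^ k < 256 := Nat.pow_lt_pow_right (m := k) (n := 8) (by norm_num) (by omega)
      set e := vec (2 ^ k) h256
      have hsmall : ((xorV v e : Vec) : ℕ) < 2 ^ k := by
        show (v : ℕ) ^^^ 2 ^ k < 2 ^ k
        refine Nat.lt_pow_two_of_testBit _ fun i hi => ?_
        rw [Nat.testBit_xor]
        rcases Nat.eq_or_lt_of_le hi with rfl | hi'
        · rw [Nat.testBit_two_pow_self]
          have : (v : ℕ).testBit k = true := by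
            rw [Nat.testBit_eq_decide_div_mod_eq, decide_eq_true_eq]
            rw [Nat.div_eq_of_lt_le (k := 1) (by omega) (by rw [pow_succ] at hv; omega)]
          rw [this]; rfl
        · rw [Nat.testBit_two_pow_of_ne (by omega), Bool.xor_false]
          exact Nat.testBit_eq_false_of_lt (lt_of_lt_of_le hv (Nat.pow_le_pow_right two_pos hi'))
      have e1 : v = xorV (xorV v e) e := Fin.ext (by
        show (v : ℕ) = ((v : ℕ) ^^^ 2 ^ k) ^^^ 2 ^ k
        rw [Nat.xor_assoc, Nat.xor_self, Nat.xor_zero])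
      rw [e1, hσ, hτ, ih (by omega) _ hsmall, hb k h256 (by omega)]
  exact Equiv.ext fun v => hall 8 le_rfl v v.2

/-- The permutation of a word. -/
def wordP (w : List ℕ) : Perm Vec := (w.map fun p => tvV ⟨p % 45, Nat.mod_lt _ (by norm_num)⟩).prod

theorem wordP_mem (w : List ℕ) : wordP w ∈ Lgrp :=
  list_prod_mem fun x hx => by obtain ⟨p, -, rfl⟩ := List.mem_map.1 hx; exact tvV_mem _

theorem wordP_append (a b : List ℕ) : wordP (a ++ b) = wordP a * wordP b := by
  rw [wordP, List.map_append, List.prod_append]; rfl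

theorem wordP_val : ∀ {w : List ℕ}, (w.all fun p => Nat.blt p 45) = true → ∀ v : Vec, wordC w v = (wordP w v : ℕ)
  | [], _, _ => rfl
  | p :: w, h, v => by
    rw [List.all_cons, Bool.and_eq_true, Nat.blt_eq] at h
    have ih := wordP_val h.2 v
    show tvC p (wordC w v) = (tvV ⟨p % 45, _⟩ (wordP w v) : ℕ)
    rw [ih]
    show tvC p _ = tvC (p % 45) _
    rw [Nat.mod_eq_of_lt h.1]

theorem additive_word (w : List ℕ) : Additive (wordP w) := additive_of_mem (lin_le (wordP_mem w))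

theorem all_append {a b : List ℕ} {q : ℕ → Bool} (ha : a.all q = true) (hb : b.all q = true) :
    (a ++ b).all q = true := by rw [List.all_append, ha, hb]; rfl

theorem threeB_spec {w : List ℕ} (h : threeB w = true) :
    (w.all fun p => Nat.blt p 45) = true ∧ orderOf (wordP w) = 3 := by
  simp only [threeB, Bool.and_eq_true, Bool.not_eq_true'] at h
  obtain ⟨⟨hw, h3⟩, h1⟩ := h
  refine ⟨hw, ?_⟩
  haveI : Fact (Nat.Prime 3) := ⟨Nat.prime_three⟩
  refine orderOf_eq_prime ?_ fun e => ?_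
  · have := (additive_word _).ext_basis (additive_of_mem (one_mem _)) _ id
      (wordP_val (all_append hw (all_append hw hw))) (fun _ => rfl) h3
    rw [wordP_append, wordP_append] at this
    rw [pow_succ', pow_two]
    exact this
  · have : basisEq (wordC w) id = true := allBelow_intro fun j hj => by
      have hlt : 2 ^ j < 256 := Nat.pow_lt_pow_right (m := j) (n := 8) (by norm_num) hj
      have := wordP_val hw (vec (2 ^ j) hlt)
      rw [e] at this
      exact Nat.beq_eq.mpr this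
    rw [this] at h1
    exact Bool.noConfusion h1

/-! ### The polar form -/

theorem nrm_cubic : ∀ a < 4, ∀ b < 4, ∀ c < 4, fmul (a ^^^ b ^^^ c) (conj4 (a ^^^ b ^^^ c)) =
    fmul (a ^^^ b) (conj4 (a ^^^ b)) ^^^ fmul (a ^^^ c) (conj4 (a ^^^ c)) ^^^ fmul (b ^^^ c) (conj4 (b ^^^ c)) ^^^
      fmul a (conj4 a) ^^^ fmul b (conj4 b) ^^^ fmul c (conj4 c) := by decide +kernel

theorem q0_cubic (a b c : ℕ) :
    q0 (a ^^^ b ^^^ c) = q0 (a ^^^ b) ^^^ q0 (a ^^^ c) ^^^ q0 (b ^^^ c) ^^^ q0 a ^^^ q0 b ^^^ q0 c := by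
  have key : ∀ i, hterm (a ^^^ b ^^^ c) (a ^^^ b ^^^ c) i = hterm (a ^^^ b) (a ^^^ b) i ^^^
      hterm (a ^^^ c) (a ^^^ c) i ^^^ hterm (b ^^^ c) (b ^^^ c) i ^^^ hterm a a i ^^^ hterm b b i ^^^
      hterm c c i := fun i => by
    have hx : ∀ x y : ℕ, coord (x ^^^ y) i = coord x i ^^^ coord y i := fun x y => Forced.coord_xor x y i
    simp only [hterm, hx]
    exact nrm_cubic _ (Forced.coord_lt a i) _ (Forced.coord_lt b i) _ (Forced.coord_lt c i)
  have hx : ∀ x y : ℕ, Nat.xor x y = x ^^^ y := fun _ _ => rfl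
  simp only [q0, herm, hx, key]
  ac_rfl

theorem polC_eq (a b : ℕ) : polC a b = q0 (a ^^^ b) ^^^ (q0 a ^^^ q0 b) := rfl

theorem polC_symm (a b : ℕ) : polC a b = polC b a := by
  rw [polC_eq, polC_eq, Nat.xor_comm a b, Nat.xor_comm (q0 a)]

theorem polC_add (a b c : ℕ) : polC (a ^^^ b) c = polC a c ^^^ polC b c := by
  rw [polC_eq, polC_eq, polC_eq, q0_cubic]
  calc q0 (a ^^^ b) ^^^ q0 (a ^^^ c) ^^^ q0 (b ^^^ c) ^^^ q0 a ^^^ q0 b ^^^ q0 c ^^^ (q0 (a ^^^ b) ^^^ q0 c)
      = (q0 (a ^^^ b) ^^^ q0 (a ^^^ b)) ^^^ (q0 c ^^^ q0 c) ^^^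
          (q0 (a ^^^ c) ^^^ q0 (b ^^^ c) ^^^ q0 a ^^^ q0 b) := by ac_rfl
    _ = (q0 c ^^^ q0 c) ^^^ (q0 (a ^^^ c) ^^^ q0 (b ^^^ c) ^^^ q0 a ^^^ q0 b) := by simp
    _ = q0 (a ^^^ c) ^^^ (q0 a ^^^ q0 c) ^^^ (q0 (b ^^^ c) ^^^ (q0 b ^^^ q0 c)) := by ac_rfl

theorem q0_two : ∀ v < 256, q0 v = 0 ∨ q0 v = 1 := by decide +kernel

/-- A subgroup of more than four vectors has a singular one. -/
theorem exists_sing {W : Finset Vec} (hadd : ∀ a ∈ W, ∀ b ∈ W, xorV a b ∈ W) (h5 : 5 ≤ W.card) :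
    ∃ v ∈ W, Sing v := by
  classical
  by_contra hne
  push Not at hne
  have hq : ∀ v ∈ W, v ≠ z0V → q0 v = 1 := fun v hv h0 =>
    (q0_two v v.2).resolve_left fun e => hne v hv ⟨fun e' => h0 (Fin.ext e'), e⟩
  obtain ⟨a, ha, ha0⟩ := Finset.exists_mem_notMem_of_card_lt_card (t := W) (s := {z0V})
    (by rw [Finset.card_singleton]; omega)
  obtain ⟨b, hb, hb0⟩ := Finset.exists_mem_notMem_of_card_lt_card (t := W) (s := {z0V, a})
    (lt_of_le_of_lt Finset.card_le_two (by omega))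
  obtain ⟨c, hc, hc0⟩ := Finset.exists_mem_notMem_of_card_lt_card (t := W) (s := {z0V, a, b, xorV a b})
    (lt_of_le_of_lt Finset.card_le_four (by omega))
  simp only [Finset.mem_insert, Finset.mem_singleton, not_or] at ha0 hb0 hc0
  have cancel : ∀ x y : Vec, xorV x y = z0V → x = y := fun x y h => by
    refine Fin.ext ((Nat.xor_right_inj (x := (x : ℕ))).1 ?_)
    rw [Nat.xor_self]
    exact (congrArg Fin.val h).symm
  have e1 := hq _ (hadd a ha b hb) fun e => hb0.2 (cancel a b e).symm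
  have e2 := hq _ (hadd a ha c hc) fun e => hc0.2.1 (cancel a c e).symm
  have e3 := hq _ (hadd b hb c hc) fun e => hc0.2.2.1 (cancel b c e).symm
  have e4 := hq _ (hadd _ (hadd a ha b hb) c hc) fun e => hc0.2.2.2 (cancel _ c e).symm
  have hcub := q0_cubic a b c
  change q0 ((a : ℕ) ^^^ b) = 1 at e1
  change q0 ((a : ℕ) ^^^ c) = 1 at e2
  change q0 ((b : ℕ) ^^^ c) = 1 at e3
  change q0 ((a : ℕ) ^^^ b ^^^ c) = 1 at e4
  rw [e1, e2, e3, e4, hq a ha ha0, hq b hb hb0.1, hq c hc hc0.1] at hcub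
  exact absurd hcub (by decide)

/-! ### The stabiliser -/

/-- The fixed vectors. -/
def fixSet (σ : Perm Vec) : Finset Vec := Finset.univ.filter fun v => σ v = v

theorem mem_fixSet {σ : Perm Vec} {v : Vec} : v ∈ fixSet σ ↔ σ v = v := by simp [fixSet]

theorem fixSet_xor {σ : Perm Vec} (h : Additive σ) {a b : Vec} (ha : a ∈ fixSet σ) (hb : b ∈ fixSet σ) :
    xorV a b ∈ fixSet σ := by
  rw [mem_fixSet] at ha hb ⊢
  rw [h, ha, hb]

theorem countP_fix {σ : Perm Vec} {f : ℕ → ℕ} (hf : ∀ v : Vec, f v = (σ v : ℕ)) :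
    ((List.range 256).countP fun v => Nat.beq (f v) v) = (fixSet σ).card := by
  classical
  rw [List.countP_eq_length_filter, ← List.toFinset_card_of_nodup (List.nodup_range.filter _),
    ← Finset.card_map Fin.valEmbedding]
  congr 1
  ext i
  simp only [List.mem_toFinset, List.mem_filter, List.mem_range, Finset.mem_map, mem_fixSet,
    Fin.valEmbedding_apply]
  refine ⟨fun ⟨hi, he⟩ => ⟨vec i hi, Fin.ext ?_, rfl⟩, fun ⟨v, hv, e⟩ => e ▸ ⟨v.2, ?_⟩⟩
  · rw [← hf]; exact Nat.eq_of_beq_eq_true he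
  · rw [hf, hv]; exact Nat.beq_refl _

/-- What holds of the elements fixing a singular vector. -/
structure ElemFacts (σ : Perm Vec) : Prop where
  big : 32 ≤ (fixSet σ).card → σ = 1 ∨ ∃ p, σ = tvV p
  inv : σ * σ = 1 → σ ≠ 1 → (∀ p, σ ≠ tvV p) → (∀ v ∈ fixSet σ, ∃ a, xorV a (σ a) = v) ∧
    ∃ ρ ∈ Lgrp, orderOf ρ = 3 ∧ Commute σ ρ
  pow : σ ^ 24 = 1

theorem stab_facts {σ : Perm Vec} (hσ : σ ∈ Agrp) (h5 : σ v5 = v5) : ElemFacts σ := by
  classical
  obtain ⟨b, cs, hcs, hval⟩ : ∃ b cs, cs ∈ stabProds ∧ ∀ v : Vec, stabElt b cs v = (σ v : ℕ) := by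
    rcases hσ with h | h
    · obtain ⟨cs, hcs, hv⟩ := stab_prods (x := σ) ⟨h, h5⟩
      exact ⟨false, cs, hcs, hv⟩
    · obtain ⟨cs, hcs, hv⟩ := stab_prods (x := frV * σ) ⟨h, by rw [Perm.mul_apply, h5, frV_v5]⟩
      refine ⟨true, cs, hcs, fun v => ?_⟩
      show frC (J2.applyCodes 8 cs v) = _
      rw [hv, ← frV_val]
      show ((frV * frV) (σ v) : ℕ) = _
      rw [frV_sq]
      rfl
  have hadd := additive_of_mem hσ
  have hok := List.all_eq_true.1 (elem_ok b) cs hcs
  simp only [elemOK, Bool.and_eq_true, Bool.or_eq_true, Nat.blt_eq, Bool.not_eq_true'] at hok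
  rw [← List.countP_eq_length_filter, countP_fix hval] at hok
  obtain ⟨⟨hbig, hinv⟩, hpow⟩ := hok
  have hT : basisEq (stabElt b cs) id = true ∨
      ((List.range 45).any fun p => basisEq (stabElt b cs) (tvC p)) = true → σ = 1 ∨ ∃ p, σ = tvV p := by
    rintro (h | h)
    · exact Or.inl (hadd.ext_basis (additive_of_mem (one_mem _)) _ _ hval (fun _ => rfl) h)
    · obtain ⟨p, hp, h⟩ := List.any_eq_true.1 h
      exact Or.inr ⟨⟨p, List.mem_range.1 hp⟩,
        hadd.ext_basis (additive_of_mem (lin_le (tvV_mem _))) _ _ hval (fun _ => rfl) h⟩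
  refine ⟨fun h => hT (hbig.resolve_left (by omega)), fun h2 h1 hne => ?_, ?_⟩
  · have hsq : basisEq (fun v => stabElt b cs (stabElt b cs v)) id = true := allBelow_intro fun j hj => by
      have hlt : 2 ^ j < 256 := Nat.pow_lt_pow_right (m := j) (n := 8) (by norm_num) hj
      refine Nat.beq_eq.mpr ?_
      show stabElt b cs (stabElt b cs ((vec (2 ^ j) hlt : Vec) : ℕ)) = ((vec (2 ^ j) hlt : Vec) : ℕ)
      rw [hval, hval, ← Perm.mul_apply, h2]
      rfl
    rcases hinv with (h | h) | ⟨hfix, hw⟩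
    · rw [hsq] at h; exact Bool.noConfusion h
    · rcases hT h with e | ⟨p, e⟩
      · exact absurd e h1
      · exact absurd e (hne p)
    refine ⟨fun v hv => ?_, ?_⟩
    · obtain ⟨a, ha, e⟩ := List.any_eq_true.1 (List.all_eq_true.1 hfix v (List.mem_filter.2
        ⟨List.mem_range.2 v.2, by rw [hval, mem_fixSet.1 hv]; exact Nat.beq_refl _⟩))
      refine ⟨vec a (List.mem_range.1 ha), Fin.ext ?_⟩
      show a ^^^ (σ (vec a _) : ℕ) = v
      rw [← hval]
      exact Nat.eq_of_beq_eq_true e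
    · obtain ⟨w, hw', h⟩ := List.any_eq_true.1 hw
      obtain ⟨hwl, ho⟩ := threeB_spec (List.all_eq_true.1 invWords_three w hw')
      refine ⟨wordP w, wordP_mem w, ho, ?_⟩
      refine (hadd.mul (additive_word w)).ext_basis ((additive_word w).mul hadd) _ _ (fun v => ?_) (fun v => ?_) h
      · show stabElt b cs (wordC w v) = _
        rw [wordP_val hwl, hval]; rfl
      · show wordC w (stabElt b cs v) = _
        rw [hval, wordP_val hwl]; rfl
  · refine (additive_of_mem (pow_mem hσ 24)).ext_basis (additive_of_mem (one_mem _)) _ id ?_ (fun _ => rfl) hpow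
    suffices ∀ n, ∀ v : Vec, (stabElt b cs)^[n] v = ((σ ^ n) v : ℕ) from this 24
    intro n
    induction n with
    | zero => exact fun v => rfl
    | succ n ih =>
      intro v
      rw [Function.iterate_succ_apply', ih, hval, pow_succ', Perm.mul_apply]

/-- A transvection conjugated by a linear map. -/
theorem tvV_conj {γ : Perm Vec} (h : γ ∈ Lgrp) (p : Pt) : γ * tvV p * γ⁻¹ = tvV (ptHom ⟨γ, h⟩ p) := by
  refine eq_tvV (g := ⟨γ * tvV p * γ⁻¹, mul_mem (mul_mem h (tvV_mem p)) (inv_mem h)⟩) ?_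
  rw [show (⟨γ * tvV p * γ⁻¹, _⟩ : Lgrp) = (⟨γ, h⟩ : Lgrp) * ⟨tvV p, tvV_mem p⟩ * (⟨γ, h⟩ : Lgrp)⁻¹ from
    Subtype.ext rfl, map_mul, map_mul, map_inv, ptHom_tv]
  exact tvP_conj (ptHom_mem _) p

theorem tvV_sq (p : Pt) : tvV p * tvV p = 1 := Equiv.ext fun v => Fin.ext ((tvC_check p).1 v v.2).2.1

theorem fix_conj (σ γ : Perm Vec) : (fixSet (γ * σ * γ⁻¹)).card = (fixSet σ).card := by
  classical
  rw [← Finset.card_map γ.toEmbedding (s := fixSet σ)]
  congr 1
  ext v
  rw [mem_fixSet, Finset.mem_map_equiv, mem_fixSet]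
  show γ (σ (γ⁻¹ v)) = v ↔ σ (γ.symm v) = γ.symm v
  rw [Equiv.Perm.inv_def, ← Equiv.eq_symm_apply γ]

/-- What holds of the elements fixing sixteen vectors. -/
theorem fix_facts {σ : Perm Vec} (hσ : σ ∈ Agrp) (h16 : 16 ≤ (fixSet σ).card) : ElemFacts σ := by
  obtain ⟨n, hn, hs⟩ := exists_sing (fun a ha b hb => fixSet_xor (additive_of_mem hσ) ha hb) (by omega)
  obtain ⟨γ, hγ, e⟩ := exists_to hs
  have F := stab_facts (σ := γ⁻¹ * σ * γ) (mul_mem (mul_mem (inv_mem (lin_le hγ)) hσ) (lin_le hγ)) (by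
    rw [Perm.mul_apply, Perm.mul_apply, e, mem_fixSet.1 hn, ← e]
    exact Equiv.symm_apply_apply γ v5)
  have back : σ = γ * (γ⁻¹ * σ * γ) * γ⁻¹ := by group
  refine ⟨fun h => ?_, fun h2 h1 hne => ?_, ?_⟩
  · rcases F.big (by rw [← fix_conj _ γ, ← back]; exact h) with h' | ⟨p, h'⟩
    · exact Or.inl (by rw [back, h']; group)
    · exact Or.inr ⟨_, by rw [back, h', tvV_conj hγ p]⟩
  · obtain ⟨hi, ρ, hρ, ho, hc⟩ := F.inv
      (by rw [show γ⁻¹ * σ * γ * (γ⁻¹ * σ * γ) = γ⁻¹ * (σ * σ) * γ by group, h2]; group)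
      (fun h => h1 (by rw [back, h]; group)) (fun p h => hne _ (by rw [back, h, tvV_conj hγ p]))
    refine ⟨fun v hv => ?_, γ * ρ * γ⁻¹, mul_mem (mul_mem hγ hρ) (inv_mem hγ), ?_, ?_⟩
    · obtain ⟨a, ha⟩ := hi (γ⁻¹ v) (mem_fixSet.2 (by
        rw [Perm.mul_apply, Perm.mul_apply, show γ (γ⁻¹ v) = v from γ.apply_symm_apply v, mem_fixSet.1 hv]))
      refine ⟨γ a, ?_⟩
      have := congrArg (fun x => γ x) ha
      simp only [(linLike hγ).1, Perm.mul_apply] at this
      rwa [show γ (γ⁻¹ (σ (γ a))) = σ (γ a) from γ.apply_symm_apply _, show γ (γ⁻¹ v) = v from γ.apply_symm_apply v]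
        at this
    · rw [show γ * ρ * γ⁻¹ = (MulAut.conj γ).toMonoidHom ρ by simp,
        orderOf_injective _ (MulAut.conj γ).injective, ho]
    · have := hc.map (MulAut.conj γ).toMonoidHom
      rwa [show (MulAut.conj γ).toMonoidHom (γ⁻¹ * σ * γ) = σ by simp [mul_assoc],
        show (MulAut.conj γ).toMonoidHom ρ = γ * ρ * γ⁻¹ by simp] at this
  · have h : σ ^ 24 = γ * (γ⁻¹ * σ * γ) ^ 24 * γ⁻¹ := by rw [← conj_pow, ← back]
    rw [h, F.pow]
    group

/-- An involution fixes at least sixteen vectors. -/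
theorem invol_fix {σ : Perm Vec} (hσ : σ ∈ Agrp) (h2 : σ * σ = 1) : 16 ≤ (fixSet σ).card := by
  classical
  have hadd := additive_of_mem hσ
  have hN : ∀ a : Vec, xorV a (σ a) ∈ fixSet σ := fun a => mem_fixSet.2 (by
    rw [hadd, ← Perm.mul_apply, h2, Perm.one_apply]
    exact Fin.ext (Nat.xor_comm _ _))
  have h := Finset.card_le_mul_card_image_of_maps_to (s := (Finset.univ : Finset Vec)) (t := fixSet σ)
    (f := fun a => xorV a (σ a)) (fun a _ => hN a) (fixSet σ).card fun b _ => by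
    rcases (Finset.univ.filter fun a => xorV a (σ a) = b).eq_empty_or_nonempty with e | ⟨a0, ha0⟩
    · rw [e]; simp
    refine Finset.card_le_card_of_injOn (fun a => xorV a0 a) (fun a ha => ?_) fun x _ y _ e =>
      Fin.ext (Nat.xor_right_inj.1 (congrArg Fin.val e))
    simp only [Finset.mem_coe, Finset.mem_filter, Finset.mem_univ, true_and] at ha ha0
    rw [Finset.mem_coe, mem_fixSet, hadd]
    have h := congrArg Fin.val (ha.trans ha0.symm)
    change (a : ℕ) ^^^ (σ a : ℕ) = (a0 : ℕ) ^^^ (σ a0 : ℕ) at h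
    refine Fin.ext ?_
    show (σ a0 : ℕ) ^^^ (σ a : ℕ) = (a0 : ℕ) ^^^ (a : ℕ)
    have e0 : (σ a : ℕ) = (a : ℕ) ^^^ ((a0 : ℕ) ^^^ (σ a0 : ℕ)) := by
      rw [← h, ← Nat.xor_assoc, Nat.xor_self, Nat.zero_xor]
    rw [e0, Nat.xor_comm (a0 : ℕ) (σ a0 : ℕ), Nat.xor_comm (a : ℕ), ← Nat.xor_assoc, ← Nat.xor_assoc,
      Nat.xor_self, Nat.zero_xor]
  rw [Finset.card_univ, Fintype.card_fin] at h
  by_contra hlt
  have := Nat.mul_le_mul (by omega : (fixSet σ).card ≤ 15) (by omega : (fixSet σ).card ≤ 15)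
  omega

/-- The fixed vectors of a transvection. -/
theorem tv_card (p : Pt) : (fixSet (tvV p)).card = 64 := by
  have h := allBelow_spec _ _ tvFix_ok p p.2
  simp only [Bool.and_eq_true, Nat.beq_eq] at h
  rw [← countP_fix (σ := tvV p) (f := tvC p) fun _ => rfl]
  exact h.1

/-- Two transvections fixing the same 32 vectors are equal. -/
theorem tv_unique {p q : Pt} {W : Finset Vec} (hp : W ⊆ fixSet (tvV p)) (hq : W ⊆ fixSet (tvV q))
    (h32 : 32 ≤ W.card) : p = q := by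
  classical
  obtain ⟨γ, hγ, e⟩ := exists_to (rep_spec p).1
  have hp0 : ptHom ⟨γ, hγ⟩ (pIdx v5) = p := by
    rw [ptHom_apply]
    show pIdx (γ (repV (pIdx v5))) = p
    rw [← pIdx_map hγ sing_v5, e]
    exact (rep_spec p).2
  have h05 : pIdx v5 = ⟨0, by norm_num⟩ := by decide +kernel
  rw [h05] at hp0
  by_contra hne
  obtain ⟨r, hr⟩ : ∃ r, ptHom ⟨γ, hγ⟩ r = q := ⟨_, (ptHom ⟨γ, hγ⟩).apply_symm_apply q⟩
  have hr0 : (r : ℕ) ≠ 0 := fun h => hne (by rw [← hp0, ← hr]; congr 1; exact (Fin.ext h).symm)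
  have h := allBelow_spec _ _ tvFix_ok r r.2
  simp only [Bool.and_eq_true, Bool.or_eq_true, Nat.beq_eq, Nat.blt_eq] at h
  have h' := h.2.resolve_left hr0
  have hsub : (W.map (γ.symm.toEmbedding.trans Fin.valEmbedding)) ⊆
      ((List.range 256).filter fun x => Nat.beq (tvC 0 x) x && Nat.beq (tvC r x) x).toFinset := by
    intro i hi
    simp only [Finset.mem_map, Function.Embedding.trans_apply, Equiv.coe_toEmbedding, Fin.valEmbedding_apply] at hi
    obtain ⟨v, hv, rfl⟩ := hi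
    have key : ∀ s : Pt, v ∈ fixSet (tvV (ptHom ⟨γ, hγ⟩ s)) → tvC s (γ.symm v : Vec) = (γ.symm v : Vec) := by
      intro s hs
      rw [← tvV_conj hγ s, mem_fixSet] at hs
      have := congrArg γ.symm hs
      simp only [Perm.mul_apply, Equiv.Perm.inv_def, Equiv.symm_apply_apply] at this
      exact congrArg Fin.val this
    simp only [List.mem_toFinset, List.mem_filter, List.mem_range, Bool.and_eq_true, Nat.beq_eq]
    exact ⟨Fin.is_lt _, key ⟨0, by norm_num⟩ (hp0 ▸ hp hv), key r (hr ▸ hq hv)⟩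
  have := Finset.card_le_card hsub
  rw [Finset.card_map, List.toFinset_card_of_nodup (List.nodup_range.filter _), ← List.countP_eq_length_filter] at this
  omega

end Cfsg.Agent.U62Three.Close
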