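import Cfsg.Agent.Lib.U62Three.Close.Top
import Cfsg.Agent.Lib.U62Three.Close.Vectors

/-!
Coordinates: `A` carries the 256 vectors and its normaliser acts through the semilinear group containing the linear
one. Elementary consequences and lifting of elements of order three.
-/

set_option autoImplicit false
set_option linter.style.haveILetI false
set_option maxRecDepth 20000

namespace Cfsg.Agent.U62Three.Close

open Subgroup
open Cfsg.Agent.PermCert Cfsg.Agent.U62Rec.Model Cfsg.Agent.U62Aut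
open scoped commutatorElement

variable {H : Type*} [Group H]

/-- **The coordinates.** -/
structure Coords (A : Subgroup H) where
  /-- the vector of an element of `A` -/
  c : H → Vec
  c_mul : ∀ a ∈ A, ∀ b ∈ A, c (a * b) = xorV (c a) (c b)
  c_inj : ∀ a ∈ A, ∀ b ∈ A, c a = c b → a = b
  c_surj : ∀ v, ∃ a ∈ A, c a = v
  /-- the map of an element of the normaliser -/
  im : H → Equiv.Perm Vec
  im_mem : ∀ m ∈ normalizer (A : Set H), im m ∈ Agrp
  im_mul : ∀ m ∈ normalizer (A : Set H), ∀ n ∈ normalizer (A : Set H), im (m * n) = im m * im n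
  im_ker : ∀ m ∈ normalizer (A : Set H), im m = 1 ↔ m ∈ A
  im_conj : ∀ m ∈ normalizer (A : Set H), ∀ a ∈ A, c (m * a * m⁻¹) = im m (c a)
  im_surj : ∀ σ ∈ Lgrp, ∃ m ∈ normalizer (A : Set H), im m = σ
  /-- the control by the elements of order three -/
  three : ∀ x ∈ normalizer (A : Set H), orderOf x = 3 → Fixes A x → ∀ g : H,
    g * x * g⁻¹ ∈ normalizer (A : Set H) → g ∈ normalizer (A : Set H)

variable {A : Subgroup H} (C : Coords A)

theorem xorV_self' (v : Vec) : xorV v v = z0V := Fin.ext (Nat.xor_self _)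

theorem xorV_comm' (a b : Vec) : xorV a b = xorV b a := Fin.ext (Nat.xor_comm _ _)

theorem xorV_assoc' (a b c : Vec) : xorV (xorV a b) c = xorV a (xorV b c) := Fin.ext (Nat.xor_assoc _ _ _)

theorem xorV_cancel (a b : Vec) : xorV a (xorV a b) = b := by
  refine Fin.ext ?_
  show (a : ℕ) ^^^ ((a : ℕ) ^^^ b) = b
  rw [← Nat.xor_assoc, Nat.xor_self, Nat.zero_xor]

include C

theorem Coords.c_one : C.c 1 = z0V := by
  have h := C.c_mul 1 A.one_mem 1 A.one_mem
  rw [one_mul] at h
  rw [h]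
  exact xorV_self' _

theorem Coords.sq (a : H) (ha : a ∈ A) : a * a = 1 :=
  C.c_inj _ (A.mul_mem ha ha) _ A.one_mem (by rw [C.c_mul a ha a ha, xorV_self', C.c_one])

theorem Coords.inv_eq {a : H} (ha : a ∈ A) : a⁻¹ = a := inv_eq_of_mul_eq_one_right (C.sq a ha)

theorem Coords.comm {a b : H} (ha : a ∈ A) (hb : b ∈ A) : a * b = b * a :=
  C.c_inj _ (A.mul_mem ha hb) _ (A.mul_mem hb ha) (by rw [C.c_mul a ha b hb, C.c_mul b hb a ha, xorV_comm'])

/-- The element with given coordinates. -/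
noncomputable def Coords.el (v : Vec) : H := (C.c_surj v).choose

theorem Coords.el_mem (v : Vec) : C.el v ∈ A := (C.c_surj v).choose_spec.1

theorem Coords.c_el (v : Vec) : C.c (C.el v) = v := (C.c_surj v).choose_spec.2

theorem Coords.el_c {a : H} (ha : a ∈ A) : C.el (C.c a) = a := C.c_inj _ (C.el_mem _) _ ha (C.c_el _)

theorem Coords.im_one : C.im 1 = 1 := (C.im_ker 1 (one_mem _)).2 A.one_mem

theorem Coords.im_inv {m : H} (hm : m ∈ normalizer (A : Set H)) : C.im m⁻¹ = (C.im m)⁻¹ :=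
  eq_inv_of_mul_eq_one_left (by rw [← C.im_mul _ (inv_mem hm) _ hm, inv_mul_cancel, C.im_one])

theorem Coords.im_pow {m : H} (hm : m ∈ normalizer (A : Set H)) : ∀ k : ℕ, C.im (m ^ k) = C.im m ^ k
  | 0 => by rw [pow_zero, pow_zero, C.im_one]
  | k + 1 => by rw [pow_succ, pow_succ, C.im_mul _ (pow_mem hm k) _ hm, Coords.im_pow hm k]

theorem Coords.im_conjM {x m : H} (hx : x ∈ normalizer (A : Set H)) (hm : m ∈ normalizer (A : Set H)) :
    C.im (x * m * x⁻¹) = C.im x * C.im m * (C.im x)⁻¹ := by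
  rw [C.im_mul _ (mul_mem hx hm) _ (inv_mem hx), C.im_mul _ hx _ hm, C.im_inv hx]

theorem Coords.im_A {a : H} (ha : a ∈ A) : C.im a = 1 := (C.im_ker a (Subgroup.le_normalizer ha)).2 ha

theorem Coords.comm_iff {m a : H} (hm : m ∈ normalizer (A : Set H)) (ha : a ∈ A) :
    Commute a m ↔ C.im m (C.c a) = C.c a := by
  constructor
  · intro h
    rw [← C.im_conj m hm a ha, ← h.eq, mul_inv_cancel_right]
  · intro h
    exact (mul_inv_eq_iff_eq_mul.1 (C.c_inj _ (conjN hm ha) _ ha ((C.im_conj m hm a ha).trans h))).symm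

theorem Coords.self : centralizer (A : Set H) ≤ A := by
  intro x hx
  have hc : ∀ a ∈ A, x * a = a * x := fun a ha => (mem_centralizer_iff.1 hx a ha).symm
  have hxN : x ∈ normalizer (A : Set H) := mem_normalizer_iff.2 fun a => by
    constructor
    · intro ha; rwa [hc a ha, mul_inv_cancel_right]
    · intro ha
      have h := hc _ ha
      have e : x * a * x⁻¹ = a := by
        calc x * a * x⁻¹ = x⁻¹ * (x * (x * a * x⁻¹)) := by group
          _ = x⁻¹ * (x * a * x⁻¹ * x) := by rw [h]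
          _ = a := by group
      rwa [← e]
  refine (C.im_ker x hxN).1 (Equiv.ext fun v => ?_)
  obtain ⟨a, ha, rfl⟩ := C.c_surj v
  exact (C.comm_iff hxN ha).1 (hc a ha).symm

variable [Finite H]

theorem Coords.card_A : Nat.card A = 256 := by
  rw [Nat.card_congr
    { toFun := fun a : ↥A => C.c a
      invFun := fun v => ⟨C.el v, C.el_mem v⟩
      left_inv := fun a => Subtype.ext (C.el_c a.2)
      right_inv := fun v => C.c_el v }, Nat.card_eq_fintype_card, Fintype.card_fin]

theorem Coords.card_fix {m : H} (hm : m ∈ normalizer (A : Set H)) :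
    Nat.card ↥(A ⊓ centralizer ({m} : Set H)) = (fixSet (C.im m)).card := by
  rw [← Nat.card_eq_finsetCard]
  exact Nat.card_congr
    { toFun := fun a => ⟨C.c a, mem_fixSet.2 ((C.comm_iff hm (mem_inf.1 a.2).1).1
        (mem_cent_one.1 (mem_inf.1 a.2).2))⟩
      invFun := fun v => ⟨C.el v, mem_inf.2 ⟨C.el_mem _, mem_cent_one.2 ((C.comm_iff hm (C.el_mem _)).2 (by
        rw [C.c_el]; exact mem_fixSet.1 v.2))⟩⟩
      left_inv := fun a => Subtype.ext (C.el_c (mem_inf.1 a.2).1)
      right_inv := fun v => Subtype.ext (C.c_el v) }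

/-- The order of the normaliser divides `256 · 51840`. -/
theorem Coords.card_norm : Nat.card ↥(normalizer (A : Set H)) ∣ 256 * 51840 := by
  let f : ↥(normalizer (A : Set H)) →* Agrp :=
    { toFun := fun m => ⟨C.im m, C.im_mem m m.2⟩
      map_one' := Subtype.ext C.im_one
      map_mul' := fun m n => Subtype.ext (C.im_mul m m.2 n n.2) }
  have hker : f.ker = A.subgroupOf (normalizer (A : Set H)) := by
    ext m
    rw [MonoidHom.mem_ker, mem_subgroupOf, Subtype.ext_iff]
    exact C.im_ker m m.2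
  rw [← f.ker.card_mul_index, Subgroup.index_ker, hker,
    Nat.card_congr (Subgroup.subgroupOfEquivOfLe Subgroup.le_normalizer).toEquiv, C.card_A, ← card_Agrp]
  exact Nat.mul_dvd_mul_left _ (Subgroup.card_subgroup_dvd_card _)

theorem Coords.split : Split A := by
  refine split_of_orders C.card_A C.sq (fun h => ?_) (fun h => ?_) (fun h => ?_) (fun h => ?_)
    (fun y hy ho => ?_) fun y hy ho => ?_
  · exact absurd (h.trans C.card_norm) (by decide)
  · exact absurd (h.trans C.card_norm) (by decide)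
  · exact absurd (h.trans C.card_norm) (by decide)
  · exact absurd (h.trans C.card_norm) (by decide)
  · rw [C.card_fix hy]
    by_contra hlt
    have h1 : C.im y = 1 ∨ C.im y ^ 2 = 1 := by
      rcases (fix_facts (C.im_mem y hy) (by omega)).big (by omega) with h | ⟨p, h⟩
      · exact Or.inl h
      · exact Or.inr (by rw [h, pow_two, tvV_sq])
    have h3 : C.im y ^ 3 = 1 := by rw [← C.im_pow hy, ← ho, pow_orderOf_eq_one, C.im_one]
    have h0 : C.im y = 1 := h1.elim id fun h => by rwa [pow_succ, h, one_mul] at h3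
    have h2 := Nat.le_of_dvd two_pos
      (orderOf_dvd_of_pow_eq_one (by rw [pow_two]; exact C.sq y ((C.im_ker y hy).1 h0) : y ^ 2 = 1))
    omega
  · rw [C.card_fix hy]
    by_contra hlt
    have h24 := (fix_facts (C.im_mem y hy) (by omega)).pow
    have h5 : C.im y ^ 5 = 1 := by rw [← C.im_pow hy, ← ho, pow_orderOf_eq_one, C.im_one]
    have h0 : C.im y = 1 := orderOf_eq_one_iff.1 (Nat.eq_one_of_dvd_coprimes (by decide : Nat.Coprime 5 24)
      (orderOf_dvd_of_pow_eq_one h5) (orderOf_dvd_of_pow_eq_one h24))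
    have h2 := Nat.le_of_dvd two_pos
      (orderOf_dvd_of_pow_eq_one (by rw [pow_two]; exact C.sq y ((C.im_ker y hy).1 h0) : y ^ 2 = 1))
    omega

/-- An element over one of order three has a power of order three over it. -/
theorem Coords.three_pow {m : H} (hm : m ∈ normalizer (A : Set H)) (h : orderOf (C.im m) = 3) :
    orderOf (m ^ 4) = 3 ∧ C.im (m ^ 4) = C.im m := by
  haveI : Fact (Nat.Prime 3) := ⟨Nat.prime_three⟩
  have h3 : C.im m ^ 3 = 1 := by rw [← h, pow_orderOf_eq_one]
  have hA : m ^ 3 ∈ A := (C.im_ker _ (pow_mem hm 3)).1 (by rw [C.im_pow hm, h3])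
  have e4 : C.im (m ^ 4) = C.im m := by rw [C.im_pow hm, pow_succ, h3, one_mul]
  refine ⟨orderOf_eq_prime ?_ fun e => ?_, e4⟩
  · rw [← pow_mul, show 4 * 3 = (3 + 3) * 2 from rfl, pow_mul, pow_add, C.sq _ hA, one_pow]
  · rw [e, C.im_one] at e4
    rw [← e4, orderOf_one] at h
    omega

theorem Coords.fixed : ∀ a ∈ A, ∃ x ∈ normalizer (A : Set H), orderOf x = 3 ∧ Commute x a := by
  intro a ha
  have h := vec_ok
  simp only [vecOK, Bool.and_eq_true] at h
  have hv := allBelow_spec _ _ h.2 (C.c a) (C.c a).2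
  obtain ⟨w, hw, e⟩ := List.any_eq_true.1 hv
  obtain ⟨hwl, ho⟩ := threeB_spec (List.all_eq_true.1 h.1 w hw)
  obtain ⟨m, hm, em⟩ := C.im_surj _ (wordP_mem w)
  obtain ⟨o3, e4⟩ := C.three_pow hm (em ▸ ho)
  refine ⟨m ^ 4, pow_mem hm 4, o3, ((C.comm_iff (pow_mem hm 4) ha).2 ?_).symm⟩
  rw [e4, em]
  refine Fin.ext ?_
  rw [← wordP_val hwl]
  exact Nat.eq_of_beq_eq_true e

theorem Coords.base : Base A := ⟨C.sq, C.self, C.three, C.fixed⟩

/-- An element moving an involution by the commutator of an element of `A` has a companion commuting with it. -/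
theorem Coords.adjust {m r a : H} (hr : r ∈ normalizer (A : Set H)) (hr2 : r * r = 1)
    (hm : m ∈ normalizer (A : Set H)) (ha : a ∈ A) {d : H} (hd : d ∈ A) (he : m * r * m⁻¹ = r * d)
    (hc : C.c d = xorV (C.c a) (C.im r (C.c a))) :
    a * m ∈ normalizer (A : Set H) ∧ C.im (a * m) = C.im m ∧ Commute (a * m) r := by
  have haN := Subgroup.le_normalizer ha
  have hconj : a * r * a⁻¹ = r * ((r * a * r⁻¹) * a) := by
    rw [inv_eq_of_mul_eq_one_right hr2, C.inv_eq ha, show r * (r * a * r * a) = (r * r) * a * r * a by group, hr2,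
      one_mul]
  have hd' : (r * a * r⁻¹) * a = d := C.c_inj _ (A.mul_mem (conjN hr ha) ha) _ hd (by
    rw [C.c_mul _ (conjN hr ha) _ ha, C.im_conj r hr a ha, hc, xorV_comm'])
  refine ⟨mul_mem haN hm, by rw [C.im_mul _ haN _ hm, C.im_A ha, one_mul], mul_inv_eq_iff_eq_mul.1 ?_⟩
  rw [show a * m * r * (a * m)⁻¹ = a * (m * r * m⁻¹) * a⁻¹ by group, he,
    show a * (r * d) * a⁻¹ = a * r * a⁻¹ * (a * d * a⁻¹) by group, hconj, hd', C.comm ha hd, mul_inv_cancel_right,
    mul_assoc, C.sq d hd, mul_one]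

/-- A bad involution is no companion: it commutes with no element over one of order three. -/
theorem Coords.no_over {r y : H} (hb : Bad A r) (hy : y ∈ normalizer (A : Set H)) (hc : Commute y r) :
    orderOf (C.im y) ≠ 3 := fun h =>
  hb.no_three (y ^ 4) (pow_mem hy 4) (C.three_pow hy h).1 (hc.pow_left 4)

/-- A bad involution lies over a transvection. -/
theorem Coords.bad_tv {r : H} (hb : Bad A r) : ∃ p, C.im r = tvV p := by
  by_contra hne
  push Not at hne
  have hσ := C.im_mem r hb.mem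
  have h2 : C.im r * C.im r = 1 := by rw [← C.im_mul r hb.mem r hb.mem, hb.sq, C.im_one]
  have h1 : C.im r ≠ 1 := fun h => hb.not_mem ((C.im_ker r hb.mem).1 h)
  obtain ⟨hfix, ρ, hρ, ho, hc⟩ := (fix_facts hσ (invol_fix hσ h2)).inv h2 h1 hne
  obtain ⟨m, hm, em⟩ := C.im_surj ρ hρ
  have hmr : m * r * m⁻¹ ∈ normalizer (A : Set H) := mul_mem (mul_mem hm hb.mem) (inv_mem hm)
  have hd : r⁻¹ * (m * r * m⁻¹) ∈ A := (C.im_ker _ (mul_mem (inv_mem hb.mem) hmr)).1 (by
    rw [C.im_mul _ (inv_mem hb.mem) _ hmr, C.im_inv hb.mem, C.im_conjM hm hb.mem, em, ← hc.eq,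
      mul_inv_cancel_right, inv_mul_cancel])
  set d := r⁻¹ * (m * r * m⁻¹) with hdd
  have he : m * r * m⁻¹ = r * d := by rw [hdd, mul_inv_cancel_left]
  have hdf : C.c d ∈ fixSet (C.im r) := mem_fixSet.2 (by
    refine (C.comm_iff hb.mem hd).1 ?_
    have e : (r * d) * (r * d) = 1 := by
      rw [← he, show m * r * m⁻¹ * (m * r * m⁻¹) = m * (r * r) * m⁻¹ by group, hb.sq, mul_one, mul_inv_cancel]
    show d * r = r * d
    calc d * r = r⁻¹ * ((r * d) * (r * d)) * d⁻¹ := by group
      _ = r * d := by rw [e, mul_one, inv_eq_of_mul_eq_one_right hb.sq, C.inv_eq hd])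
  obtain ⟨v, hv⟩ := hfix _ hdf
  obtain ⟨hy, ey, hcy⟩ := C.adjust hb.mem hb.sq hm (C.el_mem v) hd he (by rw [C.c_el, hv])
  exact C.no_over hb hy hcy (by rw [ey, em, ho])

end Cfsg.Agent.U62Three.Close
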