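import Cfsg.Agent.Lib.U62Three.Close.Lin
import Cfsg.Agent.Lib.U62Rec.Model.Crd
import Cfsg.Agent.Lib.U62Aut.Model.Scalar

/-!
Coordinates on `W` modulo the involution in which the normal part acts as the linear group.
-/

set_option autoImplicit false
set_option maxRecDepth 20000
set_option linter.style.haveILetI false

namespace Cfsg.Agent.U62Three.Close

open Subgroup
open Co2Three (V4 e3)
open U62Rec.Model (Vec xorV q0 Lgrp)
open scoped commutatorElement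

/-- Coordinates for the normal part. -/
structure LinCrd {G : Type*} [Group G] [Finite G] (L : Loc G) (W D : Subgroup G) where
  /-- the vector of an element of `W` -/
  nv : G → Vec
  nv_mul : ∀ a ∈ W, ∀ b ∈ W, nv (a * b) = xorV (nv a) (nv b)
  nv_surj : ∀ v, ∃ a ∈ W, nv a = v
  nv_eq : ∀ a ∈ W, ∀ b ∈ W, nv a = nv b ↔ (b = a ∨ b = a * L.S.t)
  nv_sq : ∀ a ∈ W, (a * a = 1 ↔ q0 (nv a) = 0)
  /-- the map of an element of the normal part -/
  lin : G → Equiv.Perm Vec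
  lin_mem : ∀ d ∈ D, lin d ∈ Lgrp
  lin_mul : ∀ d ∈ D, ∀ d' ∈ D, lin (d * d') = lin d * lin d'
  lin_ker : ∀ d ∈ D, lin d = 1 ↔ d ∈ W
  lin_conj : ∀ d ∈ D, ∀ a ∈ W, nv (d * a * d⁻¹) = lin d (nv a)
  lin_surj : ∀ σ ∈ Lgrp, ∃ d ∈ D, lin d = σ

variable {G : Type*} [Group G] [Finite G] {L : Loc G} {W : Subgroup G} {c : G}

/-- The facts on `W`: the involution is inside, commutators lie in its group. -/
theorem w_facts (M : Mid L W) : L.S.t ∈ W ∧ (∀ x ∈ W, Commute x L.S.t) ∧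
    ∀ x ∈ W, ∀ y ∈ W, x * y * x⁻¹ = y ∨ x * y * x⁻¹ = y * L.S.t := by
  have ht : L.S.t ∈ W := M.P_le L.S.t_mem
  have hc : ∀ x ∈ W, Commute x L.S.t := fun x hx => mem_centralizer_singleton_iff.1 (M.le hx)
  refine ⟨ht, hc, fun x hx y hy => ?_⟩
  obtain ⟨⟨-, -, hcomm⟩, hZ⟩ := M.extra
  have hcen : ∀ u ∈ center ↥W, (u : G) = 1 ∨ (u : G) = L.S.t := by
    obtain ⟨a, -, huniq⟩ := (Nat.card_eq_two_iff' (1 : center ↥W)).1 hZ
    have htc : (⟨L.S.t, ht⟩ : ↥W) ∈ center ↥W := mem_center_iff.2 fun u => Subtype.ext (hc u u.2).eq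
    intro u hu
    by_cases h1 : (⟨u, hu⟩ : center ↥W) = 1
    · exact Or.inl (congrArg (fun z : center ↥W => ((z : ↥W) : G)) h1)
    · have h2 : (⟨_, htc⟩ : center ↥W) ≠ 1 := fun e =>
        L.S.t_ne (congrArg (fun z : center ↥W => ((z : ↥W) : G)) e)
      exact Or.inr (congrArg (fun z : center ↥W => ((z : ↥W) : G)) ((huniq _ h1).trans (huniq _ h2).symm))
  have h : ⁅(⟨x, hx⟩ : ↥W), ⟨y, hy⟩⁆ ∈ center ↥W :=
    hcomm ▸ commutator_mem_commutator (mem_top _) (mem_top _)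
  rcases hcen _ h with h | h
  · exact Or.inl (mul_inv_eq_one.1 (by simpa [commutatorElement_def, mul_assoc] using h))
  · refine Or.inr ?_
    have h' : x * y * x⁻¹ * y⁻¹ = L.S.t := by simpa [commutatorElement_def, mul_assoc] using h
    rw [(hc y hy).eq, ← h', inv_mul_cancel_right]

/-- An element of order three moving a vector at most by the involution commutes with it. -/
theorem commute_of_flip {g x : G} (h3 : g ^ 3 = 1) (hgt : Commute g L.S.t)
    (h : g * x * g⁻¹ = x ∨ g * x * g⁻¹ = x * L.S.t) : Commute g x := by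
  rcases h with h | h
  · exact mul_inv_eq_iff_eq_mul.1 h
  exfalso
  have e : g * (g * (g * x * g⁻¹) * g⁻¹) * g⁻¹ = g ^ 3 * x * (g ^ 3)⁻¹ := by
    simp [pow_succ, mul_assoc]
  have hm : ∀ u, g * (u * L.S.t) * g⁻¹ = g * u * g⁻¹ * L.S.t := fun u => by
    rw [show g * (u * L.S.t) * g⁻¹ = g * u * (L.S.t * g⁻¹) by group, ← hgt.inv_left.eq]
    group
  have h2 : g * (g * x * g⁻¹) * g⁻¹ = x := by rw [h, hm, h, mul_assoc, L.S.t_sq, mul_one]
  rw [h2, h3, one_mul, inv_one, mul_one, h] at e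
  exact L.S.t_ne (mul_left_cancel (e.trans (mul_one x).symm))

theorem exists_linCrd (q : Quot L W c) {D : Subgroup G} (P : LinPart L W c D) :
    Nonempty (LinCrd L W D) := by
  classical
  haveI : Fact (Nat.Prime 2) := ⟨Nat.prime_two⟩
  haveI : Fact (Nat.Prime 3) := ⟨Nat.prime_three⟩
  haveI hsim : IsSimpleGroup (Cfsg.PSp 2 (ZMod 3)) := U62Rec.Model.simple_X
  obtain ⟨htW, hWt, hWc⟩ := w_facts q.mid
  have hDt : ∀ d ∈ D, Commute d L.S.t := fun d hd =>
    mem_centralizer_singleton_iff.1 (topGroup_le_cent q.mid (P.le hd))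
  set t : ↥D := ⟨L.S.t, P.W_le htW⟩ with ht
  set C := centralizer ({t} : Set ↥D) with hC
  have hCtop : ∀ d : ↥D, d ∈ C := fun d => mem_centralizer_singleton_iff.2 (Subtype.ext (hDt d d.2).eq)
  set W' := W.subgroupOf D with hW'
  haveI hW'n : W'.Normal := normal_subgroupOf_of_le_normalizer (P.le.trans topGroup_le_norm)
  set W'' := W'.subgroupOf C with hW''
  haveI : W''.Normal := Subgroup.Normal.comap hW'n _
  let eW : ↥W'' ≃* ↥W :=
    (subgroupOfEquivOfLe (fun d _ => hCtop d : W' ≤ C)).trans (subgroupOfEquivOfLe P.W_le)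
  have hW''2 : IsPGroup 2 ↥W'' := (IsPGroup.of_card (p := 2) (n := 9) (by
    rw [q.mid.card]; norm_num) : IsPGroup 2 ↥W).of_equiv eW.symm
  let F : ↥C →* Cfsg.PSp 2 (ZMod 3) := P.f.comp C.subtype
  have hF : Function.Surjective F := fun x => by
    obtain ⟨d, hd⟩ := P.f_surj x
    exact ⟨⟨d, hCtop d⟩, hd⟩
  have hFker : F.ker = W'' := by
    ext x
    rw [MonoidHom.mem_ker, mem_subgroupOf, mem_subgroupOf]
    exact P.f_ker x.1
  have hcore : Cfsg.pCore 2 ↥C = W'' := by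
    refine le_antisymm ?_ (le_sSup ⟨inferInstance, hW''2⟩)
    have hp : IsPGroup 2 ↥((Cfsg.pCore 2 ↥C).map F) := (FiniteGroup.pCore_isPGroup 2).map F
    have hn : ((Cfsg.pCore 2 ↥C).map F).Normal := (FiniteGroup.pCore_normal 2).map F hF
    rcases IsSimpleGroup.eq_bot_or_eq_top_of_normal _ hn with h | h
    · rw [← hFker]
      exact fun x hx => MonoidHom.mem_ker.2 (mem_bot.1 (h ▸ mem_map_of_mem F hx))
    · obtain ⟨n, hn⟩ := IsPGroup.iff_card.1 hp
      rw [h, Subgroup.card_top, U62Rec.Model.card_X] at hn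
      exact absurd ((Nat.prime_three.dvd_of_dvd_pow (hn ▸ ⟨8640, rfl⟩ : 3 ∣ 2 ^ n))) (by norm_num)
  -- the centraliser of the core
  have hcent : centralizer (W' : Set ↥D) ≤ W' := by
    intro x hx
    haveI : (centralizer (W' : Set ↥D)).Normal := Subgroup.normal_centralizer
    rcases IsSimpleGroup.eq_bot_or_eq_top_of_normal _
      ((inferInstance : (centralizer (W' : Set ↥D)).Normal).map P.f P.f_surj) with h | h
    · exact mem_subgroupOf.2 ((P.f_ker x).1 (mem_bot.1 (h ▸ mem_map_of_mem P.f hx)))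
    exfalso
    obtain ⟨a, ha, e⟩ := h.symm ▸ mem_top (P.f ⟨L.S.z, P.z_mem⟩)
    have hw : (a : G)⁻¹ * L.S.z ∈ W := (P.f_ker (a⁻¹ * ⟨L.S.z, P.z_mem⟩)).1 (by
      rw [map_mul, map_inv, e, inv_mul_cancel])
    have hle : W ≤ L.S.P := by
      intro x hx
      refine q.mid.fix_point x hx (commute_of_flip (by rw [← L.S.core.ord, pow_orderOf_eq_one])
        (hDt _ P.z_mem) ?_).symm
      set w := (a : G)⁻¹ * L.S.z
      have hax : ∀ u ∈ W, Commute (a : G) u := fun u hu => (congrArg Subtype.val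
        (mem_centralizer_iff.1 ha ⟨u, P.W_le hu⟩ (mem_subgroupOf.2 hu))).symm
      have hz : L.S.z = (a : G) * w := (mul_inv_cancel_left _ _).symm
      rw [hz, show (a : G) * w * x * ((a : G) * w)⁻¹ = a * (w * x * w⁻¹) * (a : G)⁻¹ by group]
      rcases hWc w hw x hx with e' | e' <;> rw [e']
      · exact Or.inl (by rw [(hax x hx).eq, mul_inv_cancel_right])
      · exact Or.inr (by rw [(hax _ (W.mul_mem hx htW)).eq, mul_inv_cancel_right])
    have := Subgroup.card_le_of_le hle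
    rw [q.mid.card, L.S.card_P] at this
    omega
  haveI : (Cfsg.pCore 2 ↥C).Normal := FiniteGroup.pCore_normal 2
  have hJ : Cfsg.IsExtraspecial 2 ↥(Cfsg.pCore 2 ↥C) :=
    Qd.isExtraspecial_congr ((MulEquiv.subgroupCongr hcore).trans eW) q.mid.extra
  have hJc : Nat.card ↥(Cfsg.pCore 2 ↥C) = 2 ^ 9 := by
    rw [hcore, Nat.card_congr eW.toEquiv, q.mid.card]; norm_num
  have hCJ : centralizer ((Cfsg.pCore 2 ↥C) : Set ↥C) ≤ Cfsg.pCore 2 ↥C := by
    rw [hcore]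
    intro x hx
    refine mem_subgroupOf.2 (hcent (mem_centralizer_iff.2 fun w hw => ?_))
    exact congrArg Subtype.val (mem_centralizer_iff.1 hx ⟨w, hCtop w⟩ (mem_subgroupOf.2 hw))
  let e : (↥C ⧸ Cfsg.pCore 2 ↥C) ≃* Cfsg.PSp 2 (ZMod 3) :=
    (QuotientGroup.quotientMulEquivOfEq (hcore.trans hFker.symm)).trans
      (QuotientGroup.quotientKerEquivOfSurjective F hF)
  have hmem : ∀ d : ↥D, d ∈ LargeExtra.coreAt t ↔ (d : G) ∈ W := by
    intro d
    show d ∈ (Cfsg.pCore 2 ↥C).map C.subtype ↔ _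
    rw [hcore, hW'', subgroupOf_map_subtype, inf_eq_left.2 (fun x _ => hCtop x : W' ≤ C)]
    exact mem_subgroupOf
  have hord : orderOf t = 2 := orderOf_eq_prime (Subtype.ext (by simpa [pow_two] using L.S.t_sq))
    fun h => L.S.t_ne (congrArg Subtype.val h)
  obtain ⟨K⟩ := U62Rec.Model.exists_crd hord (ZMod.card 3) hJ hJc hCJ e fun x hx hfix => by
    have hxW := (hmem x).1 hx
    have hcomm : ∀ g : ↥D, (g : G) ^ 3 = 1 → Commute (g : G) x := fun g h3 =>
      commute_of_flip h3 (hDt g g.2) ((hfix g (Subtype.ext (hDt g g.2).eq.symm)).imp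
        (fun e => congrArg Subtype.val e) fun e => congrArg Subtype.val e)
    have hxP : (x : G) ∈ L.S.P := q.mid.fix_point _ hxW
      (hcomm ⟨L.S.z, P.z_mem⟩ (by rw [← L.S.core.ord, pow_orderOf_eq_one])).symm
    exact (L.P_move e3 (by decide) (by decide) _ hxP
      (hcomm ⟨L.el e3, P.e3_mem⟩ (L.K_exp _ (L.el_mem_K _))).symm).imp Subtype.ext Subtype.ext
  let nv : G → Vec := fun g => if h : g ∈ D then K.nv ⟨g, h⟩ else K.nv 1
  let lin : G → Equiv.Perm Vec := fun g => if h : g ∈ D then (K.lin ⟨g, h⟩).1 else 1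
  have hnv : ∀ d : ↥D, nv (d : G) = K.nv d := fun d => dif_pos d.2
  have hlin : ∀ d : ↥D, lin (d : G) = (K.lin d).1 := fun d => dif_pos d.2
  have hcom : ∀ d : ↥D, Commute t d := fun d => Subtype.ext (hDt d d.2).eq.symm
  refine ⟨⟨nv, fun a ha b hb => ?_, fun v => ?_, fun a ha b hb => ?_, fun a ha => ?_, lin, fun d hd => ?_,
    fun d hd d' hd' => ?_, fun d hd => ?_, fun d hd a ha => ?_, fun σ hσ => ?_⟩⟩
  · have h1 := hnv ⟨a, P.W_le ha⟩
    have h2 := hnv ⟨b, P.W_le hb⟩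
    have h3 := hnv (⟨a, P.W_le ha⟩ * ⟨b, P.W_le hb⟩)
    simp only [Subgroup.coe_mul] at h1 h2 h3
    rw [h1, h2, h3]
    exact K.nv_mul _ ((hmem _).2 ha) _ ((hmem _).2 hb)
  · obtain ⟨a, ha, e⟩ := K.nv_surj v
    exact ⟨a, (hmem a).1 ha, by rw [hnv, e]⟩
  · have h1 := hnv ⟨a, P.W_le ha⟩
    have h2 := hnv ⟨b, P.W_le hb⟩
    simp only at h1 h2
    rw [h1, h2, K.nv_eq _ ((hmem _).2 ha) _ ((hmem _).2 hb), Subtype.ext_iff, Subtype.ext_iff]
    exact Iff.rfl
  · have h1 := hnv ⟨a, P.W_le ha⟩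
    simp only at h1
    rw [h1, ← K.nv_sq _ ((hmem _).2 ha), Subtype.ext_iff]
    exact Iff.rfl
  · rw [hlin ⟨d, hd⟩]
    exact (K.lin ⟨d, hd⟩).2
  · have h := hlin (⟨d, hd⟩ * ⟨d', hd'⟩)
    simp only [Subgroup.coe_mul] at h
    rw [h, hlin ⟨d, hd⟩, hlin ⟨d', hd'⟩, K.lin_mul _ _ (hcom _) (hcom _), Subgroup.coe_mul]
  · rw [hlin ⟨d, hd⟩, ← hmem ⟨d, hd⟩, ← K.lin_one _ (hcom _)]
    exact OneMemClass.coe_eq_one
  · have h := K.lin_conj ⟨d, hd⟩ (hcom _) ⟨a, P.W_le ha⟩ ((hmem _).2 ha)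
    rw [← hnv, ← hnv, ← hlin] at h
    exact h
  · obtain ⟨d, -, e⟩ := K.lin_surj ⟨σ, hσ⟩
    exact ⟨d, d.2, by rw [hlin, e]⟩

end Cfsg.Agent.U62Three.Close
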