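import Cfsg.Agent.Lib.U62Three.Close.Crd
import Cfsg.Agent.Lib.U62Three.Close.Vectors

/-!
Coordinates on `W` modulo the involution for the whole subgroup: it acts by semilinear maps times scalars, the
scalar element by a scalar, and without the scalar element by semilinear maps.
-/

set_option autoImplicit false
set_option maxRecDepth 20000
set_option linter.style.haveILetI false

namespace Cfsg.Agent.U62Three.Close

open Subgroup
open U62Rec.Model (Vec xorV q0 Lgrp)
open U62Aut (Agrp omP Isom semi_of_normal scalar_of_comm)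
open scoped commutatorElement

theorem psp_perfect : commutator (Cfsg.PSp 2 (ZMod 3)) = ⊤ := by
  haveI := U62Rec.Model.simple_X
  refine (IsSimpleGroup.eq_bot_or_eq_top_of_normal _ inferInstance).resolve_left fun h => ?_
  have hc : center (Cfsg.PSp 2 (ZMod 3)) = ⊤ := eq_top_iff.2 fun x _ => mem_center_iff.2 fun y =>
    commutatorElement_eq_one_iff_mul_comm.1 (mem_bot.1 (h ▸ commutator_mem_commutator (mem_top y) (mem_top x)))
  rw [U62Aut.center_X] at hc
  have := U62Rec.Model.card_X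
  rw [← Subgroup.card_top (G := Cfsg.PSp 2 (ZMod 3)), ← hc, Subgroup.card_bot] at this
  omega

/-- Coordinates for the subgroup. -/
structure PreTop {G : Type*} [Group G] [Finite G] (L : Loc G) (W : Subgroup G) (c : G) (D : Subgroup G) where
  part : LinPart L W c D
  /-- the vector of an element of `W` -/
  nv : G → Vec
  nv_mul : ∀ a ∈ W, ∀ b ∈ W, nv (a * b) = xorV (nv a) (nv b)
  nv_surj : ∀ v, ∃ a ∈ W, nv a = v
  nv_eq : ∀ a ∈ W, ∀ b ∈ W, nv a = nv b ↔ (b = a ∨ b = a * L.S.t)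
  nv_sq : ∀ a ∈ W, (a * a = 1 ↔ q0 (nv a) = 0)
  /-- the map of an element of the subgroup -/
  im : G → Equiv.Perm Vec
  im_mul : ∀ g ∈ topGroup L W c, ∀ h ∈ topGroup L W c, im (g * h) = im g * im h
  im_conj : ∀ g ∈ topGroup L W c, ∀ a ∈ W, nv (g * a * g⁻¹) = im g (nv a)
  im_ker : ∀ g ∈ topGroup L W c, im g = 1 ↔ g ∈ W
  im_lin : ∀ d ∈ D, im d ∈ Lgrp
  im_surj : ∀ σ ∈ Lgrp, ∃ d ∈ D, im d = σ
  im_c : c ≠ 1 → im c = omP ∨ im c = omP ^ 2
  im_semi : ∀ g ∈ topGroup L W c, ∃ a ∈ Agrp, ∃ k : ℕ, im g = a * omP ^ k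

/-- Coordinates in which, without scalar element, the subgroup acts semilinearly. -/
structure TopCrd {G : Type*} [Group G] [Finite G] (L : Loc G) (W : Subgroup G) (c : G) (D : Subgroup G)
    extends PreTop L W c D where
  im_agrp : c = 1 → ∀ g ∈ topGroup L W c, im g ∈ Agrp

variable {G : Type*} [Group G] [Finite G] {L : Loc G} {W : Subgroup G} {c : G}

theorem omP_pow_cases (k : ℕ) : omP ^ k = 1 ∨ omP ^ k = omP ∨ omP ^ k = omP ^ 2 := by
  rw [← Nat.mod_add_div k 3, pow_add, pow_mul, U62Aut.omP_cube, one_pow, mul_one]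
  have := Nat.mod_lt k (show 3 > 0 by norm_num)
  interval_cases k % 3
  · exact Or.inl (pow_zero _)
  · exact Or.inr (Or.inl (pow_one _))
  · exact Or.inr (Or.inr rfl)

set_option maxHeartbeats 1000000 in
theorem exists_preTop (q : Quot L W c) (E : Ctl L W c) : ∃ D, Nonempty (PreTop L W c D) := by
  classical
  obtain ⟨D, ⟨P⟩⟩ := exists_linPart q E
  obtain ⟨K⟩ := exists_linCrd q P
  obtain ⟨htW, hWt, hWc⟩ := w_facts q.mid
  set Tg := topGroup L W c with hTg
  have hT : ∀ g ∈ Tg, ∀ a ∈ W, g * a * g⁻¹ ∈ W := fun g hg a ha =>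
    (mem_normalizer_iff.1 (topGroup_le_norm hg) a).1 ha
  have hTt : ∀ g ∈ Tg, Commute g L.S.t := fun g hg =>
    mem_centralizer_singleton_iff.1 (topGroup_le_cent q.mid hg)
  have hconj : ∀ g ∈ Tg, ∀ a ∈ W, ∀ b ∈ W, K.nv a = K.nv b → K.nv (g * a * g⁻¹) = K.nv (g * b * g⁻¹) := by
    intro g hg a ha b hb h
    refine (K.nv_eq _ (hT g hg a ha) _ (hT g hg b hb)).2 ?_
    rcases (K.nv_eq a ha b hb).1 h with rfl | rfl
    · exact Or.inl rfl
    · exact Or.inr (by simp only [mul_assoc, (hTt g hg).inv_left.eq])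
  let sec : Vec → G := fun v => (K.nv_surj v).choose
  have hsec : ∀ v, sec v ∈ W ∧ K.nv (sec v) = v := fun v => (K.nv_surj v).choose_spec
  let act : G → Vec → Vec := fun g v => K.nv (g * sec v * g⁻¹)
  have hact : ∀ g ∈ Tg, ∀ a ∈ W, act g (K.nv a) = K.nv (g * a * g⁻¹) := fun g hg a ha =>
    hconj g hg _ (hsec _).1 a ha (hsec _).2
  have hactmul : ∀ g ∈ Tg, ∀ h ∈ Tg, ∀ v, act (g * h) v = act g (act h v) := fun g hg h hh v => by
    show K.nv _ = act g (K.nv _)
    rw [hact g hg _ (hT h hh _ (hsec v).1)]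
    congr 1
    group
  have hinv : ∀ g ∈ Tg, ∀ v, act g⁻¹ (act g v) = v := fun g hg v => by
    rw [← hactmul _ (inv_mem hg) _ hg, inv_mul_cancel]
    show K.nv _ = v
    rw [one_mul, inv_one, mul_one, (hsec v).2]
  let im : G → Equiv.Perm Vec := fun g => if hg : g ∈ Tg then
    { toFun := act g, invFun := act g⁻¹, left_inv := hinv g hg
      right_inv := fun v => by simpa using hinv g⁻¹ (inv_mem hg) v } else 1
  have him : ∀ g ∈ Tg, ∀ v, im g v = act g v := fun g hg v => by simp only [im, dif_pos hg]; rfl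
  have hmul : ∀ g ∈ Tg, ∀ h ∈ Tg, im (g * h) = im g * im h := fun g hg h hh => Equiv.ext fun v => by
    rw [Equiv.Perm.mul_apply, him _ (mul_mem hg hh), him g hg, him h hh, hactmul g hg h hh]
  have him_conj : ∀ g ∈ Tg, ∀ a ∈ W, K.nv (g * a * g⁻¹) = im g (K.nv a) := fun g hg a ha => by
    rw [him g hg, hact g hg a ha]
  have hD : ∀ d ∈ D, d ∈ Tg := fun d hd => P.le hd
  have hlin : ∀ d ∈ D, im d = K.lin d := fun d hd => Equiv.ext fun v => by
    obtain ⟨a, ha, rfl⟩ := K.nv_surj v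
    rw [← him_conj d (hD d hd) a ha, K.lin_conj d hd a ha]
  let φ : ↥Tg →* Equiv.Perm Vec :=
    MonoidHom.mk' (fun g => im g) fun g h => hmul g g.2 h h.2
  have hφ : ∀ g (hg : g ∈ Tg), φ ⟨g, hg⟩ = im g := fun g hg => rfl
  have hone : im 1 = 1 := map_one φ
  have hinvim : ∀ g ∈ Tg, im g⁻¹ = (im g)⁻¹ := fun g hg => map_inv φ ⟨g, hg⟩
  have hisom : ∀ g ∈ Tg, Isom (im g) := by
    intro g hg
    refine ⟨fun u v => ?_, fun u => ?_⟩
    · obtain ⟨a, ha, rfl⟩ := K.nv_surj u
      obtain ⟨b, hb, rfl⟩ := K.nv_surj v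
      rw [← K.nv_mul a ha b hb, ← him_conj g hg _ (W.mul_mem ha hb), ← him_conj g hg a ha, ← him_conj g hg b hb,
        ← K.nv_mul _ (hT g hg a ha) _ (hT g hg b hb)]
      congr 1
      group
    · obtain ⟨a, ha, rfl⟩ := K.nv_surj u
      rw [← him_conj g hg a ha]
      have h1 : g * a * g⁻¹ * (g * a * g⁻¹) = 1 ↔ a * a = 1 := by
        rw [show g * a * g⁻¹ * (g * a * g⁻¹) = g * (a * a) * g⁻¹ by group]
        exact conj_eq_one_iff
      have hiff : q0 (K.nv (g * a * g⁻¹)) = 0 ↔ q0 (K.nv a) = 0 :=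
        (K.nv_sq _ (hT g hg a ha)).symm.trans (h1.trans (K.nv_sq a ha))
      rcases q0_two _ (K.nv (g * a * g⁻¹)).2 with h | h <;> rcases q0_two _ (K.nv a).2 with h' | h' <;>
        rw [h, h'] at hiff ⊢ <;> omega
  have hWker : ∀ w ∈ W, im w = 1 := fun w hw => by
    rw [hlin w (P.W_le hw)]
    exact (K.lin_ker w (P.W_le hw)).2 hw
  have hcT : c ∈ Tg := Kt_le_top q q.c_mem
  have hccT : ∀ cc ∈ zpowers c, cc ∈ Tg := fun cc hcc => zpowers_le.2 hcT hcc
  -- the scalar
  have hcD : ∀ d ∈ D, Commute (im d) (im c) := fun d hd => by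
    have h := hWker _ (P.c_central d hd)
    rw [← hφ _ (W_le_top q (P.c_central d hd)), show (⟨⁅d, c⁆, W_le_top q (P.c_central d hd)⟩ : ↥Tg) =
      ⁅(⟨d, hD d hd⟩ : ↥Tg), ⟨c, hcT⟩⁆ from Subtype.ext rfl, map_commutatorElement,
      commutatorElement_eq_one_iff_mul_comm] at h
    exact h
  have hccD : ∀ d ∈ D, ∀ cc ∈ zpowers c, Commute (im d) (im cc) := fun d hd cc hcc => by
    obtain ⟨i, rfl⟩ := mem_zpowers_iff.1 hcc
    rw [show im (c ^ i) = im c ^ i from map_zpow φ ⟨c, hcT⟩ i]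
    exact (hcD d hd).zpow_right i
  have hcne : c ≠ 1 → im c ≠ 1 := by
    intro hc e
    rcases q.c_case with ⟨-, h⟩ | ⟨-, -, hfpf⟩
    · exact hc h
    have hsub : W ≤ zpowers L.S.t := fun x hx => by
      have h := (K.nv_eq x hx _ (hT c hcT x hx)).1 (by rw [him_conj c hcT x hx, e]; rfl)
      rcases hfpf x hx (commute_of_flip (L.K_exp c (L.mem_Kt.1 q.c_mem).1) (hTt c hcT) h).symm with rfl | rfl
      · exact one_mem _
      · exact mem_zpowers _
    have := Subgroup.card_le_of_le hsub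
    rw [q.mid.card, Nat.card_zpowers] at this
    have h2 : orderOf L.S.t ≤ 2 := orderOf_le_of_pow_eq_one two_pos (by rw [pow_two]; exact L.S.t_sq)
    omega
  have hcc1 : ∀ cc ∈ zpowers c, im cc = 1 → cc = 1 := by
    intro cc hcc e
    by_contra hne
    haveI : Fact (Nat.Prime 3) := ⟨Nat.prime_three⟩
    have hc : c ≠ 1 := fun h => hne (by simpa [h] using hcc)
    have hc3 : ∀ x ∈ zpowers c, x ≠ 1 → orderOf x = 3 := fun x hx =>
      orderOf_eq_prime (L.K_exp x (zpowers_le.2 (L.mem_Kt.1 q.c_mem).1 hx))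
    have h : c ∈ zpowers cc := by
      rw [eq_of_le_of_card_ge (zpowers_le.2 hcc) (by
        rw [Nat.card_zpowers, Nat.card_zpowers, hc3 cc hcc hne, hc3 c (mem_zpowers c) hc])]
      exact mem_zpowers c
    obtain ⟨i, hi⟩ := mem_zpowers_iff.1 h
    refine hcne hc ?_
    rw [← hi, show im (cc ^ i) = im cc ^ i from map_zpow φ ⟨cc, hccT cc hcc⟩ i, e, one_zpow]
  -- a scalar inside is trivial
  have hcentral : ∀ e ∈ D, (∀ d ∈ D, Commute (im e) (im d)) → e ∈ W := by
    intro e he hcomm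
    refine (P.f_ker ⟨e, he⟩).1 (mem_bot.1 (U62Aut.center_X ▸ mem_center_iff.2 fun x => ?_))
    obtain ⟨d, rfl⟩ := P.f_surj x
    refine (commutatorElement_eq_one_iff_mul_comm.1 ?_).symm
    rw [← map_commutatorElement, P.f_ker, ← K.lin_ker _ (⁅(⟨e, he⟩ : ↥D), d⁆).2, ← hlin _ (⁅(⟨e, he⟩ : ↥D), d⁆).2,
      ← hφ _ (hD _ (⁅(⟨e, he⟩ : ↥D), d⁆).2), show (⟨((⁅(⟨e, he⟩ : ↥D), d⁆ : ↥D) : G),
        hD _ (⁅(⟨e, he⟩ : ↥D), d⁆).2⟩ : ↥Tg) = ⁅(⟨e, hD e he⟩ : ↥Tg), ⟨d, hD d d.2⟩⁆ from Subtype.ext rfl,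
      map_commutatorElement, commutatorElement_eq_one_iff_mul_comm]
    exact (hcomm d d.2).eq
  -- the kernel
  have hker : ∀ g ∈ Tg, im g = 1 → g ∈ W := by
    intro g hg e
    have hgW : g ∈ W ⊔ zpowers c := by
      refine P.cent g hg fun d hd => ?_
      have hgd : g * d * g⁻¹ ∈ P.T1 := P.T1_conj g hg d (P.le_T1 hd)
      obtain ⟨d', hd', cc, hcc, e'⟩ := P.T1_cover _ hgd
      have hde : d⁻¹ * d' ∈ D := mul_mem (inv_mem hd) hd'
      have h1 : im (g * d * g⁻¹) = im d := by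
        rw [hmul _ (mul_mem hg (hD d hd)) _ (inv_mem hg), hmul g hg d (hD d hd), hinvim g hg, e, inv_one, mul_one,
          one_mul]
      rw [e', hmul d' (hD d' hd') cc (hccT cc hcc)] at h1
      have h2 : im (d⁻¹ * d') = (im cc)⁻¹ := by
        rw [hmul _ (inv_mem (hD d hd)) d' (hD d' hd'), hinvim d (hD d hd), ← h1, mul_inv_rev, mul_assoc,
          inv_mul_cancel, mul_one]
      have hW := hcentral _ hde fun x hx => by rw [h2]; exact (hccD x hx cc hcc).symm.inv_left
      have hcc' := hcc1 cc hcc (inv_eq_one.1 (h2.symm.trans (hWker _ hW)))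
      rw [hcc', mul_one] at e'
      rw [commutatorElement_def, e', show d' * d⁻¹ = d * (d⁻¹ * d') * d⁻¹ by group]
      exact hT d (hD d hd) _ hW
    rw [← SetLike.mem_coe, coe_mul_of_right_le_normalizer_left W (zpowers c)
      (zpowers_le.2 (q.mid.norm_Kt q.c_mem))] at hgW
    obtain ⟨w, hw, cc, hcc, hwc⟩ := Set.mem_mul.1 hgW
    have hcc' := hcc1 cc hcc (by
      rw [← hwc, hmul w (W_le_top q hw) cc (hccT cc hcc), hWker w hw, one_mul] at e
      exact e)
    rw [← hwc, hcc', mul_one]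
    exact hw
  -- the normaliser of the linear group
  have hnormal : ∀ g ∈ Tg, ∀ d ∈ D, im g * im d * (im g)⁻¹ ∈ Lgrp := by
    intro g hg
    let h : ↥D →* Equiv.Perm Vec :=
      (MulAut.conj (im g)).toMonoidHom.comp (φ.comp (Subgroup.inclusion P.le))
    have hh : ∀ d : ↥D, h d = im g * im d * (im g)⁻¹ := fun d => rfl
    have hcom : commutator ↥D ≤ Lgrp.comap h := by
      rw [_root_.commutator_def, Subgroup.commutator_le]
      rintro x - y -
      rw [mem_comap, map_commutatorElement]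
      have hsplit : ∀ u : ↥D, ∃ d ∈ D, ∃ cc ∈ zpowers c, h u = im d * im cc := fun u => by
        obtain ⟨d, hd, cc, hcc, e'⟩ := P.T1_cover _ (P.T1_conj g hg u (P.le_T1 u.2))
        refine ⟨d, hd, cc, hcc, ?_⟩
        rw [hh, ← hinvim g hg, ← hmul g hg u (hD u u.2), ← hmul _ (mul_mem hg (hD u u.2)) _ (inv_mem hg), e',
          hmul d (hD d hd) cc (hccT cc hcc)]
      obtain ⟨d1, hd1, c1, hc1, e1⟩ := hsplit x
      obtain ⟨d2, hd2, c2, hc2, e2⟩ := hsplit y
      have hcc : Commute (im c1) (im c2) := by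
        obtain ⟨i, rfl⟩ := mem_zpowers_iff.1 hc1
        obtain ⟨j, rfl⟩ := mem_zpowers_iff.1 hc2
        rw [show im (c ^ i) = im c ^ i from map_zpow φ ⟨c, hcT⟩ i,
          show im (c ^ j) = im c ^ j from map_zpow φ ⟨c, hcT⟩ j]
        exact (Commute.refl _).zpow_zpow i j
      have k1 : Commute (im d2) (im c1) := hccD d2 hd2 c1 hc1
      have k2 : Commute (im d1) (im c2) := hccD d1 hd1 c2 hc2
      have k3 : Commute (im c1) (im d1) := (hccD d1 hd1 c1 hc1).symm
      have k4 : Commute (im c2) (im d2) := (hccD d2 hd2 c2 hc2).symm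
      have : ⁅im d1 * im c1, im d2 * im c2⁆ = ⁅im d1, im d2⁆ := by
        rw [commutatorElement_def, commutatorElement_def, mul_inv_rev, mul_inv_rev]
        calc im d1 * im c1 * (im d2 * im c2) * ((im c1)⁻¹ * (im d1)⁻¹) * ((im c2)⁻¹ * (im d2)⁻¹)
            = im d1 * (im c1 * (im d2 * im c2) * (im c1)⁻¹) * (im d1)⁻¹ * (im c2)⁻¹ * (im d2)⁻¹ := by group
          _ = im d1 * (im d2 * im c2) * (im d1)⁻¹ * (im c2)⁻¹ * (im d2)⁻¹ := by
            rw [((k1.symm).mul_right hcc).eq, mul_inv_cancel_right]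
          _ = im d1 * im d2 * (im c2 * (im d1)⁻¹) * (im c2)⁻¹ * (im d2)⁻¹ := by group
          _ = im d1 * im d2 * (im d1)⁻¹ * (im d2)⁻¹ := by
            rw [k2.symm.inv_right.eq]; group
      rw [e1, e2, this, commutatorElement_def, hlin d1 hd1, hlin d2 hd2]
      exact Lgrp.mul_mem (Lgrp.mul_mem (Lgrp.mul_mem (K.lin_mem d1 hd1) (K.lin_mem d2 hd2))
        (Lgrp.inv_mem (K.lin_mem d1 hd1))) (Lgrp.inv_mem (K.lin_mem d2 hd2))
    intro d hd
    have htop : (commutator ↥D).map P.f = ⊤ := by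
      rw [_root_.commutator_def, Subgroup.map_commutator, Subgroup.map_top_of_surjective _ P.f_surj, ← _root_.commutator_def,
        psp_perfect]
    obtain ⟨x, hx, hxe⟩ := htop.symm ▸ mem_top (P.f ⟨d, hd⟩)
    have hw : ((x⁻¹ * ⟨d, hd⟩ : ↥D) : G) ∈ W := (P.f_ker _).1 (by rw [map_mul, map_inv, hxe, inv_mul_cancel])
    rw [← hh ⟨d, hd⟩, show (⟨d, hd⟩ : ↥D) = x * (x⁻¹ * ⟨d, hd⟩) from (mul_inv_cancel_left _ _).symm, map_mul,
      show h (x⁻¹ * ⟨d, hd⟩) = 1 by rw [hh, hWker _ hw, mul_one, mul_inv_cancel], mul_one]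
    exact hcom hx
  -- the linear group
  let h1 : ↥D →* ↥Lgrp := MonoidHom.mk' (fun d => ⟨K.lin d, K.lin_mem d d.2⟩)
    fun a b => Subtype.ext (K.lin_mul a a.2 b b.2)
  have h1surj : Function.Surjective h1 := fun σ => by
    obtain ⟨d, hd, e⟩ := K.lin_surj σ σ.2
    exact ⟨⟨d, hd⟩, Subtype.ext e⟩
  have h1ker : h1.ker = P.f.ker := Subgroup.ext fun d => by
    rw [MonoidHom.mem_ker, MonoidHom.mem_ker, P.f_ker]
    exact (Subtype.ext_iff).trans (K.lin_ker d d.2)
  let eL : ↥Lgrp ≃* Cfsg.PSp 2 (ZMod 3) :=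
    (QuotientGroup.quotientKerEquivOfSurjective h1 h1surj).symm.trans
      ((QuotientGroup.quotientMulEquivOfEq h1ker).trans (QuotientGroup.quotientKerEquivOfSurjective P.f P.f_surj))
  have hcard : Nat.card (MulAut ↥Lgrp) = 51840 := by
    rw [Nat.card_congr (MulAut.congr eL).toEquiv]
    exact U62Aut.card_autX
  have hnormL : ∀ g ∈ Tg, ∀ x ∈ Lgrp, im g * x * (im g)⁻¹ ∈ Lgrp := fun g hg x hx => by
    obtain ⟨d, hd, rfl⟩ := K.lin_surj x hx
    rw [← hlin d hd]
    exact hnormal g hg d hd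
  have hnormLi : ∀ g ∈ Tg, ∀ x ∈ Lgrp, (im g)⁻¹ * x * im g ∈ Lgrp := fun g hg x hx => by
    have := hnormL g⁻¹ (inv_mem hg) x hx
    rwa [hinvim g hg, inv_inv] at this
  refine ⟨D, ⟨{
    part := P, nv := K.nv, nv_mul := K.nv_mul, nv_surj := K.nv_surj, nv_eq := K.nv_eq,
    nv_sq := K.nv_sq, im := im, im_mul := hmul, im_conj := him_conj, im_ker := fun g hg => ⟨hker g hg, hWker g⟩,
    im_lin := fun d hd => hlin d hd ▸ K.lin_mem d hd, im_surj := fun σ hσ => ?_, im_c := fun hc => ?_,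
    im_semi := fun g hg => ?_ }⟩⟩
  · obtain ⟨d, hd, e⟩ := K.lin_surj σ hσ
    exact ⟨d, hd, (hlin d hd).trans e⟩
  · obtain ⟨k, hk⟩ := scalar_of_comm (hisom c hcT) fun x hx => by
      obtain ⟨d, hd, rfl⟩ := K.lin_surj x hx
      rw [← hlin d hd]
      exact hcD d hd
    rcases omP_pow_cases k with h | h | h
    · exact absurd (hk.trans h) (hcne hc)
    · exact Or.inl (hk.trans h)
    · exact Or.inr (hk.trans h)
  · let θ : MulAut ↥Lgrp :=
      { toFun := fun x => ⟨im g * x * (im g)⁻¹, hnormL g hg x x.2⟩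
        invFun := fun x => ⟨(im g)⁻¹ * x * im g, hnormLi g hg x x.2⟩
        left_inv := fun x => Subtype.ext (by
          show (im g)⁻¹ * (im g * x * (im g)⁻¹) * im g = x
          group)
        right_inv := fun x => Subtype.ext (by
          show im g * ((im g)⁻¹ * x * im g) * (im g)⁻¹ = x
          group)
        map_mul' := fun x y => Subtype.ext (by
          show im g * (x * y) * (im g)⁻¹ = im g * x * (im g)⁻¹ * (im g * y * (im g)⁻¹)
          group) }
    obtain ⟨a, k, hk, -⟩ := semi_of_normal hcard (hisom g hg) θ fun x => rfl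
    exact ⟨a, a.2, k, hk⟩

theorem exists_topCrd (q : Quot L W c) (E : Ctl L W c) : ∃ D, Nonempty (TopCrd L W c D) := by
  classical
  obtain ⟨D, ⟨K⟩⟩ := exists_preTop q E
  by_cases hc : c = 1
  swap
  · exact ⟨D, ⟨{ toPreTop := K, im_agrp := fun h => absurd h hc }⟩⟩
  by_cases hall : ∀ g ∈ topGroup L W c, K.im g ∈ Agrp
  · exact ⟨D, ⟨{ toPreTop := K, im_agrp := fun _ => hall }⟩⟩
  push Not at hall
  obtain ⟨g0, hg0, hg0A⟩ := hall
  let φ : ↥(topGroup L W c) →* Equiv.Perm Vec := MonoidHom.mk' (fun g => K.im g) fun g h => K.im_mul g g.2 h h.2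
  -- an inner map carries no scalar
  have hinner : ∀ g ∈ topGroup L W c, ∀ a ∈ Lgrp, ∀ k : ℕ, K.im g = a * omP ^ k → omP ^ k = 1 := by
    intro g hg a ha k hk
    obtain ⟨d, hd, rfl⟩ := K.im_surj a ha
    set g' := d⁻¹ * g
    have hg' : g' ∈ topGroup L W c := mul_mem (inv_mem (K.part.le hd)) hg
    have him : K.im g' = omP ^ k := by
      show φ (⟨d, K.part.le hd⟩⁻¹ * ⟨g, hg⟩) = _
      rw [map_mul, map_inv]
      show (K.im d)⁻¹ * K.im g = _
      rw [hk, inv_mul_cancel_left]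
    have hW : g' ∈ W ⊔ zpowers c := by
      refine K.part.cent g' hg' fun x hx => ?_
      have hm : ⁅g', x⁆ ∈ topGroup L W c := by
        rw [commutatorElement_def]
        exact mul_mem (mul_mem (mul_mem hg' (K.part.le hx)) (inv_mem hg')) (inv_mem (K.part.le hx))
      refine (K.im_ker _ hm).1 ?_
      show φ ⁅(⟨g', hg'⟩ : ↥(topGroup L W c)), ⟨x, K.part.le hx⟩⁆ = 1
      rw [map_commutatorElement, commutatorElement_eq_one_iff_mul_comm]
      show K.im g' * K.im x = K.im x * K.im g'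
      rw [him]
      exact ((U62Aut.omP_comm (K.im_lin x hx)).pow_right k).symm.eq
    rw [hc, zpowers_one_eq_bot, sup_bot_eq] at hW
    rw [← him]
    exact (K.im_ker g' hg').2 hW
  obtain ⟨a0, ha0, k, hk⟩ := K.im_semi g0 hg0
  have ha0' : a0 ∉ Lgrp := fun h => hg0A (by rw [hk, hinner g0 hg0 a0 h k hk, mul_one]; exact ha0)
  set σ := omP ^ (2 * k) with hσ
  have hσi : Isom σ := U62Aut.isom_omP_pow _
  have hsw : ∀ n : ℕ, omP ^ n * a0 = a0 * omP ^ (2 * n) := fun n => by
    induction n with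
    | zero => simp
    | succ n ih =>
      have h1 : omP * a0 = a0 * omP ^ 2 := by
        have h := U62Aut.omP_swap ha0 ha0'
        have h3 : omP⁻¹ * omP⁻¹ = omP := by
          rw [← mul_inv_rev, inv_eq_iff_mul_eq_one, ← pow_two, ← pow_succ]
          exact U62Aut.omP_cube
        rw [pow_two, ← mul_assoc, h, mul_assoc, h, ← mul_assoc, h3]
      rw [pow_succ, mul_assoc, h1, ← mul_assoc, ih, mul_assoc, ← pow_add, mul_add, mul_one]
  have h0 : σ * K.im g0 * σ⁻¹ = a0 := by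
    have h3 : omP ^ (2 * (2 * k) + k) = omP ^ (2 * k) := by
      rw [show 2 * (2 * k) + k = 3 * k + 2 * k by ring, pow_add, pow_mul, U62Aut.omP_cube, one_pow, one_mul]
    rw [hk, hσ, ← mul_assoc, hsw, mul_assoc a0, ← pow_add, h3, mul_inv_cancel_right]
  have hLfix : ∀ x ∈ Lgrp, σ * x * σ⁻¹ = x := fun x hx => by
    rw [← ((U62Aut.omP_comm hx).pow_right (2 * k)).eq, mul_inv_cancel_right]
  refine ⟨D, ⟨{
    part := K.part, nv := fun a => σ (K.nv a)
    nv_mul := fun a ha b hb => by rw [K.nv_mul a ha b hb, hσi.1]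
    nv_surj := fun v => by
      obtain ⟨a, ha, e⟩ := K.nv_surj (σ⁻¹ v)
      exact ⟨a, ha, by rw [e]; exact σ.apply_symm_apply v⟩
    nv_eq := fun a ha b hb => σ.injective.eq_iff.trans (K.nv_eq a ha b hb)
    nv_sq := fun a ha => by rw [hσi.2]; exact K.nv_sq a ha
    im := fun g => σ * K.im g * σ⁻¹
    im_mul := fun g hg h hh => by rw [K.im_mul g hg h hh]; group
    im_conj := fun g hg a ha => by
      rw [K.im_conj g hg a ha, Equiv.Perm.mul_apply, Equiv.Perm.mul_apply]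
      exact congrArg σ (congrArg (K.im g) (σ.symm_apply_apply _).symm)
    im_ker := fun g hg => by rw [conj_eq_one_iff]; exact K.im_ker g hg
    im_lin := fun d hd => by rw [hLfix _ (K.im_lin d hd)]; exact K.im_lin d hd
    im_surj := fun x hx => by
      obtain ⟨d, hd, e⟩ := K.im_surj x hx
      exact ⟨d, hd, by rw [e, hLfix x hx]⟩
    im_c := fun h => absurd hc h
    im_semi := fun g hg => ?_
    im_agrp := fun _ g hg => ?_ }⟩⟩
  all_goals
    have hmain : σ * K.im g * σ⁻¹ ∈ Agrp := by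
      obtain ⟨a, ha, j, hj⟩ := K.im_semi g hg
      by_cases haL : a ∈ Lgrp
      · rw [hj, hinner g hg a haL j hj, mul_one, hLfix a haL]
        exact ha
      -- an outer map differs from the chosen one by an inner one
      have hgT : ∀ x (a' : Equiv.Perm Vec), x ∈ topGroup L W c → a' ∈ Agrp → a' ∉ Lgrp →
          ∀ i : ℕ, K.im x = a' * omP ^ i → x ∉ K.part.T1 := by
        intro x a' hx ha' ha'L i hi hxT
        obtain ⟨d, hd, cc, hcc, rfl⟩ := K.part.T1_cover x hxT
        have hcc1 : cc = 1 := by simpa [hc] using hcc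
        rw [hcc1, mul_one] at hi
        have hmem : omP ^ i = a'⁻¹ * K.im d := by rw [hi, inv_mul_cancel_left]
        rcases omP_pow_cases i with e | e | e
        · rw [e, mul_one] at hi
          exact ha'L (hi ▸ K.im_lin d hd)
        all_goals
          have hA : omP ^ i ∈ Agrp := hmem ▸ mul_mem (inv_mem ha') (U62Aut.lin_le (K.im_lin d hd))
          by_cases hin : omP ^ i ∈ Lgrp
          · exact ha'L (by
              rw [show a' = K.im d * (omP ^ i)⁻¹ from eq_mul_inv_of_mul_eq hi.symm]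
              exact mul_mem (K.im_lin d hd) (inv_mem hin))
          · have h2 : omP ^ i = omP⁻¹ * omP ^ i * omP⁻¹ := by
              rw [← U62Aut.omP_swap hA hin, mul_inv_cancel_right]
            rw [((Commute.refl omP).inv_right.pow_left i).symm.eq, mul_assoc] at h2
            have h4 : omP⁻¹ * omP⁻¹ = 1 := by
              rw [← mul_eq_left (a := omP ^ i)]
              exact h2.symm
            have h5 : omP = 1 := by
              rw [← mul_inv_rev, inv_eq_one, ← pow_two] at h4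
              rw [← U62Aut.omP_cube, pow_succ, h4, one_mul]
            exact absurd (congrArg (fun s : Equiv.Perm Vec => s (1 : Vec)) h5) (by decide)
      have hin : g * g0 ∈ K.part.T1 := K.part.index_two g hg g0 hg0
        (hgT g a hg ha haL j hj) (hgT g0 a0 hg0 ha0 ha0' k hk)
      obtain ⟨d, hd, cc, hcc, e⟩ := K.part.T1_cover _ hin
      have hcc1 : cc = 1 := by simpa [hc] using hcc
      rw [hcc1, mul_one] at e
      have h2 : K.im g = K.im d * (K.im g0)⁻¹ := by
        rw [← e, K.im_mul g hg g0 hg0, mul_inv_cancel_right]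
      rw [h2, show σ * (K.im d * (K.im g0)⁻¹) * σ⁻¹ = σ * K.im d * σ⁻¹ * (σ * K.im g0 * σ⁻¹)⁻¹ by group, h0,
        hLfix _ (K.im_lin d hd)]
      exact mul_mem (U62Aut.lin_le (K.im_lin d hd)) (inv_mem ha0)
  · exact ⟨_, hmain, 0, by rw [pow_zero, mul_one]⟩
  · exact hmain

end Cfsg.Agent.U62Three.Close
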