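import Cfsg.Agent.Lib.U62Three.Close.CrdTop
import Cfsg.Agent.Lib.U62Three.Close.Coords

/-!
An element of the plane with square one moves every element of `W` outside the group of the involution: a count of
fixed vectors over two groups of order nine.
-/

set_option autoImplicit false
set_option maxRecDepth 20000
set_option linter.style.haveILetI false

namespace Cfsg.Agent.U62Three.Close

open Subgroup
open Co2Three (V4 qf e0 e2 e3)
open U62Rec.Model (Vec xorV)
open U62Aut (z0V)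
open scoped commutatorElement

/-- The sum over the group generated by a permutation of order three. -/
def avg (s : Equiv.Perm Vec) (v : Vec) : Vec := xorV v (xorV (s v) (s (s v)))

theorem bool_nine : ∀ v a b c d e f g h : Bool,
    (v ^^ ((a ^^ b) ^^ ((c ^^ d) ^^ ((e ^^ f) ^^ ((g ^^ h) ^^ (v ^^ (a ^^ (b ^^ (c ^^ (d ^^ (e ^^ (f ^^
      (g ^^ h))))))))))))) = false := by decide

theorem xor_nine (v a b c d e f g h : ℕ) :
    v ^^^ ((a ^^^ b) ^^^ ((c ^^^ d) ^^^ ((e ^^^ f) ^^^ ((g ^^^ h) ^^^ (v ^^^ (a ^^^ (b ^^^ (c ^^^ (d ^^^ (e ^^^ (f ^^^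
      (g ^^^ h)))))))))))) = 0 := by
  refine Nat.eq_of_testBit_eq fun i => ?_
  simp only [Nat.testBit_xor, Nat.zero_testBit]
  exact bool_nine _ _ _ _ _ _ _ _ _

theorem xorV_ac (a b : Vec) : (xorV a b : ℕ) = (a : ℕ) ^^^ (b : ℕ) := rfl

section Pair

variable {s t : Equiv.Perm Vec} (hs : Additive s) (ht : Additive t) (hst : Commute s t)
  (hs3 : s ^ 3 = 1) (ht3 : t ^ 3 = 1)

theorem three_app (h : s ^ 3 = 1) (v : Vec) : s (s (s v)) = v := by
  have e := congrArg (fun p : Equiv.Perm Vec => p v) h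
  simpa [pow_succ] using e

theorem avg_fix (hs : Additive s) (h : s ^ 3 = 1) (v : Vec) : s (avg s v) = avg s v := by
  unfold avg
  rw [hs, hs, three_app h]
  refine Fin.ext ?_
  simp only [xorV_ac]
  ac_rfl

theorem avg_of_fix {v : Vec} (h : s v = v) : avg s v = v := by
  unfold avg
  rw [h, h, xorV_self', xorV_comm']
  exact Fin.ext (Nat.zero_xor _)

theorem avg_add (hs : Additive s) (a b : Vec) : avg s (xorV a b) = xorV (avg s a) (avg s b) := by
  unfold avg
  rw [hs, hs]
  refine Fin.ext ?_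
  simp only [xorV_ac]
  ac_rfl

theorem avg_zero (hs : Additive s) : avg s z0V = z0V := avg_of_fix hs.zero

include hst in
theorem comm_app (v : Vec) : t (s v) = s (t v) :=
  (congrArg (fun p : Equiv.Perm Vec => p v) hst.eq).symm

include ht hst in
theorem avg_comm (v : Vec) : t (avg s v) = avg s (t v) := by
  unfold avg
  rw [ht, ht, comm_app hst, comm_app hst, comm_app hst]

include hs ht hst hs3 ht3 in
/-- Composites of two averages. -/
theorem avg_avg (v : Vec) : avg s (avg (s * t) v) = avg s (avg t v) := by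
  unfold avg
  simp only [Equiv.Perm.mul_apply, hs _ _, comm_app hst, three_app hs3]
  refine Fin.ext ?_
  simp only [xorV_ac]
  ac_rfl

include hs ht hst hs3 ht3 in
/-- A vector is the sum of its averages. -/
theorem avg_sum (v : Vec) : v = xorV (avg s v) (xorV (avg t v) (xorV (avg (s * t) v)
    (xorV (avg (s * s * t) v) (avg s (avg t v))))) := by
  unfold avg
  simp only [Equiv.Perm.mul_apply, hs _ _, comm_app hst, three_app hs3]
  refine Fin.ext ?_
  simp only [xorV_ac]
  have h := xor_nine (v : ℕ) (s v) (s (s v)) (t v) (t (t v)) (s (t v)) (s (s (t (t v)))) (s (s (t v))) (s (t (t v)))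
  have key : ∀ a b : ℕ, a ^^^ b = 0 → a = b := fun a b e => Nat.xor_eq_zero_iff.1 e
  refine key _ _ ?_
  rw [← h]
  simp [Nat.xor_comm, Nat.xor_left_comm, Nat.xor_assoc]

theorem card_le_of_sum {A B C D : Finset Vec}
    (h : ∀ v : Vec, ∃ a ∈ A, ∃ b ∈ B, ∃ c ∈ C, ∃ d ∈ D, v = xorV a (xorV b (xorV c d))) :
    256 ≤ A.card * (B.card * (C.card * D.card)) := by
  classical
  rw [← Finset.card_product, ← Finset.card_product, ← Finset.card_product]
  refine le_of_eq_of_le (Fintype.card_fin 256).symm ?_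
  refine le_trans ?_ (Finset.card_image_le (f := fun p : Vec × Vec × Vec × Vec =>
    xorV p.1 (xorV p.2.1 (xorV p.2.2.1 p.2.2.2))))
  rw [← Finset.card_univ]
  refine Finset.card_le_card fun v _ => ?_
  obtain ⟨a, ha, b, hb, c, hc, d, hd, rfl⟩ := h v
  exact Finset.mem_image.2 ⟨(a, b, c, d), by simp [ha, hb, hc, hd], rfl⟩

theorem mul_cube (hst : Commute s t) (hs3 : s ^ 3 = 1) (ht3 : t ^ 3 = 1) :
    (s * t) ^ 3 = 1 ∧ (s * s * t) ^ 3 = 1 ∧ Commute s (s * t) ∧ Commute s (s * s * t) :=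
  ⟨by rw [hst.mul_pow, hs3, ht3, one_mul],
    by rw [((hst.mul_left hst)).mul_pow, ← pow_two, ← pow_mul, pow_mul', hs3, one_pow, ht3, one_mul],
    (Commute.refl s).mul_right hst, ((Commute.refl s).mul_right (Commute.refl s)).mul_right hst⟩

include hs ht hst hs3 ht3 in
/-- With the fixed vectors of one inside those of three others, these have many. -/
theorem fix_lower (hsub : ∀ v, s v = v → t v = v) {d : ℕ}
    (hk : 4 ≤ (fixSet s).card) (h1 : (fixSet t).card = d) (h2 : (fixSet (s * t)).card = d)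
    (h3 : (fixSet (s * s * t)).card = d) (hk' : (fixSet s).card ≤ 4) : 16 ≤ d := by
  classical
  obtain ⟨c3, d3, -, -⟩ := mul_cube hst hs3 ht3
  let Dof : Equiv.Perm Vec → Finset Vec := fun u => (fixSet u).filter fun v => avg s v = z0V
  have hD : ∀ u : Equiv.Perm Vec, Additive u → (∀ v, s v = v → u v = v) →
      (fixSet s).card * (Dof u).card ≤ (fixSet u).card := by
    intro u hu hsu
    rw [← Finset.card_product]
    refine Finset.card_le_card_of_injOn (fun p => xorV p.1 p.2) (fun p hp => ?_) fun p hp p' hp' e => ?_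
    · obtain ⟨ha, hb⟩ := Finset.mem_product.1 hp
      exact fixSet_xor hu (mem_fixSet.2 (hsu _ (mem_fixSet.1 ha))) (Finset.mem_filter.1 hb).1
    · obtain ⟨ha, hb⟩ := Finset.mem_product.1 hp
      obtain ⟨ha', hb'⟩ := Finset.mem_product.1 hp'
      have e' := congrArg (avg s) e
      simp only [avg_add hs, avg_of_fix (mem_fixSet.1 ha), avg_of_fix (mem_fixSet.1 ha'),
        (Finset.mem_filter.1 hb).2, (Finset.mem_filter.1 hb').2] at e'
      have h1 : p.1 = p'.1 := by
        have z : ∀ a : Vec, xorV a z0V = a := fun a => Fin.ext (Nat.xor_zero _)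
        rwa [z, z] at e'
      refine Prod.ext h1 ?_
      have e'' : xorV p.1 p.2 = xorV p.1 p'.2 := by rw [show xorV p.1 p.2 = xorV p'.1 p'.2 from e, h1]
      rw [← xorV_cancel p.1 p.2, e'', xorV_cancel]
  -- the three kernels and the fixed vectors of the first cover
  have hE : ∀ v, avg s (avg s (avg t v)) = avg s (avg t v) := fun v => avg_of_fix (avg_fix hs hs3 _)
  have hmem : ∀ u : Equiv.Perm Vec, Additive u → u ^ 3 = 1 → (∀ v, s v = v → u v = v) →
      (∀ v, avg s (avg u v) = avg s (avg t v)) → ∀ v, xorV (avg u v) (avg s (avg t v)) ∈ Dof u := by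
    intro u hu hu3 hsu hav v
    refine Finset.mem_filter.2 ⟨fixSet_xor hu (mem_fixSet.2 (avg_fix hu hu3 v))
      (mem_fixSet.2 (hsu _ (avg_fix hs hs3 _))), ?_⟩
    rw [avg_add hs, hav, hE, xorV_self']
  have hadd2 : Additive (s * t) := hs.mul ht
  have hadd3 : Additive (s * s * t) := (hs.mul hs).mul ht
  have hsub2 : ∀ v, s v = v → (s * t) v = v := fun v h => by
    rw [Equiv.Perm.mul_apply, hsub v h, h]
  have hsub3 : ∀ v, s v = v → (s * s * t) v = v := fun v h => by
    rw [Equiv.Perm.mul_apply, hsub v h, Equiv.Perm.mul_apply, h, h]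
  have hav3 : ∀ v, avg s (avg (s * s * t) v) = avg s (avg t v) := fun v => by
    rw [mul_assoc, avg_avg hs hadd2 ((Commute.refl s).mul_right hst) hs3 c3, avg_avg hs ht hst hs3 ht3]
  have hcov : 256 ≤ (fixSet s).card * ((Dof t).card * ((Dof (s * t)).card * (Dof (s * s * t)).card)) :=
    card_le_of_sum fun v => ⟨avg s v, mem_fixSet.2 (avg_fix hs hs3 v),
      _, hmem t ht ht3 hsub (fun _ => rfl) v,
      _, hmem _ hadd2 c3 hsub2 (avg_avg hs ht hst hs3 ht3) v,
      _, hmem _ hadd3 d3 hsub3 hav3 v, by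
        conv_lhs => rw [avg_sum hs ht hst hs3 ht3 v]
        refine Fin.ext ?_
        simp only [xorV_ac]
        simp [Nat.xor_comm, Nat.xor_left_comm, Nat.xor_assoc]⟩
  have b1 := hD t ht hsub
  have b2 := hD _ hadd2 hsub2
  have b3 := hD _ hadd3 hsub3
  rw [h1] at b1
  rw [h2] at b2
  rw [h3] at b3
  have hk4 : (fixSet s).card = 4 := le_antisymm hk' hk
  rw [hk4] at b1 b2 b3 hcov
  by_contra hlt
  have e1 : (Dof t).card ≤ 3 := by omega
  have e2 : (Dof (s * t)).card ≤ 3 := by omega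
  have e3 : (Dof (s * s * t)).card ≤ 3 := by omega
  have := Nat.mul_le_mul e1 (Nat.mul_le_mul e2 e3)
  omega

include hs ht hst hs3 ht3 in
/-- Without common fixed vector the four sets of fixed vectors are independent. -/
theorem fix_upper (h0 : ∀ v, s v = v → t v = v → v = z0V) :
    (fixSet s).card * ((fixSet t).card * ((fixSet (s * t)).card * (fixSet (s * s * t)).card)) ≤ 256 := by
  classical
  obtain ⟨c3, d3, hs2, -⟩ := mul_cube hst hs3 ht3
  rw [← Finset.card_product, ← Finset.card_product, ← Finset.card_product]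
  refine le_of_le_of_eq (Finset.card_le_card_of_injOn (t := (Finset.univ : Finset Vec))
    (fun p => xorV p.1 (xorV p.2.1 (xorV p.2.2.1 p.2.2.2))) (fun p _ => Finset.mem_univ _) ?_) (Fintype.card_fin 256)
  have hE : ∀ v, avg s (avg t v) = z0V := fun v => h0 _ (avg_fix hs hs3 _) (by
    rw [avg_comm ht hst, avg_fix ht ht3])
  -- each average recovers its summand
  have hz : ∀ u u' : Equiv.Perm Vec, Additive u → u' ^ 3 = 1 → ∀ x, u' x = x →
      (∀ v, avg u (avg u' v) = z0V) → avg u x = z0V := fun u u' _ _ x hx h => by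
    rw [← avg_of_fix hx]
    exact h x
  have hadd2 : Additive (s * t) := hs.mul ht
  have hadd3 : Additive (s * s * t) := (hs.mul hs).mul ht
  have hts : ∀ v, avg t (avg s v) = z0V := fun v => h0 _ (by rw [avg_comm hs hst.symm, avg_fix hs hs3])
    (avg_fix ht ht3 _)
  intro p hp p' hp' e
  simp only [Finset.coe_product, Set.mem_prod, Finset.mem_coe, mem_fixSet] at hp hp'
  obtain ⟨ha, hb, hc, hd⟩ := hp
  obtain ⟨ha', hb', hc', hd'⟩ := hp'
  have e' : xorV p.1 (xorV p.2.1 (xorV p.2.2.1 p.2.2.2)) = xorV p'.1 (xorV p'.2.1 (xorV p'.2.2.1 p'.2.2.2)) := e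
  have z : ∀ a : Vec, xorV a z0V = a := fun a => Fin.ext (Nat.xor_zero _)
  have z' : ∀ a : Vec, xorV z0V a = a := fun a => Fin.ext (Nat.zero_xor _)
  have s2 := avg_avg hs ht hst hs3 ht3
  have s3 : ∀ v, avg s (avg (s * s * t) v) = avg s (avg t v) := fun v => by
    rw [mul_assoc, avg_avg hs hadd2 hs2 hs3 c3, s2]
  have ts : Commute t s := hst.symm
  have t2 : ∀ v, avg t (avg (s * t) v) = z0V := fun v => by
    rw [show s * t = t * s from hst.eq, avg_avg ht hs ts ht3 hs3]
    exact hts v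
  have t3 : ∀ v, avg t (avg (s * s * t) v) = z0V := fun v => by
    rw [show s * s * t = t * (s * s) from (hst.mul_left hst).eq,
      avg_avg ht (hs.mul hs) (ts.mul_right ts) ht3 (by rw [← pow_two, ← pow_mul, pow_mul', hs3, one_pow])]
    rw [show avg (s * s) v = avg s v by
      unfold avg
      simp only [Equiv.Perm.mul_apply, three_app hs3]
      rw [xorV_comm' (s (s v)) (s v)]]
    exact hts v
  have eA := congrArg (avg s) e'
  simp only [avg_add hs, avg_of_fix ha, avg_of_fix ha',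
    hz s t hs ht3 _ hb hE, hz s t hs ht3 _ hb' hE,
    hz s _ hs c3 _ hc (fun v => (s2 v).trans (hE v)), hz s _ hs c3 _ hc' (fun v => (s2 v).trans (hE v)),
    hz s _ hs d3 _ hd (fun v => (s3 v).trans (hE v)), hz s _ hs d3 _ hd' (fun v => (s3 v).trans (hE v)), z] at eA
  have eB := congrArg (avg t) e'
  simp only [avg_add ht, avg_of_fix hb, avg_of_fix hb',
    hz t s ht hs3 _ ha hts, hz t s ht hs3 _ ha' hts,
    hz t _ ht c3 _ hc t2, hz t _ ht c3 _ hc' t2,
    hz t _ ht d3 _ hd t3, hz t _ ht d3 _ hd' t3, z, z'] at eB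
  rw [eA, eB] at e'
  have h1 := congrArg (fun w => xorV p'.2.1 (xorV p'.1 w)) e'
  simp only [xorV_cancel] at h1
  -- the last two
  have u2 : ∀ v, avg (s * t) (avg (s * s * t) v) = z0V := fun v => by
    have hc23 : Commute (s * t) (s * s * t) :=
      ((hs2.symm.mul_right hs2.symm).mul_right ((hst.mul_left (Commute.refl t))))
    refine h0 _ ?_ ?_
    all_goals
      set w := avg (s * t) (avg (s * s * t) v) with hw
      have w1 : (s * t) w = w := avg_fix hadd2 c3 _
      have w2 : (s * s * t) w = w := by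
        rw [hw, avg_comm hadd3 hc23, avg_fix hadd3 d3]
      have e5 : (s * s * t) w = s ((s * t) w) := rfl
      rw [w1, w2] at e5
    · exact e5.symm
    · have e6 : s (t w) = w := w1
      rw [← comm_app hst, ← e5] at e6
      exact e6
  have eC := congrArg (avg (s * t)) h1
  simp only [avg_add hadd2, avg_of_fix hc, avg_of_fix hc', hz (s * t) _ hadd2 d3 _ hd u2,
    hz (s * t) _ hadd2 d3 _ hd' u2, z] at eC
  rw [eC] at h1
  have h2 := congrArg (xorV p'.2.2.1) h1
  simp only [xorV_cancel] at h2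
  exact Prod.ext eA (Prod.ext eB (Prod.ext eC h2))

end Pair

/-- A word in the translations moves every vector of square one of the plane to one line. -/
theorem to_ci : ∀ v : V4, v 1 = 0 → qf v = 1 → ∃ a b d : ZMod 3,
    let w := (trM 0 a).mulVec ((tr3M 0 b).mulVec ((trM 0 d).mulVec v))
    w = e0 + e3 ∨ w = -(e0 + e3) := by decide +kernel

theorem minus_facts : (e0 + (e0 + e3)) 1 = 0 ∧ qf (e0 + (e0 + e3)) = 2 ∧ e0 + (e0 + e3) ≠ 0 ∧ qf e3 = 0 ∧
    e3 1 = 0 ∧ e3 ≠ 0 ∧ e2 1 = 0 ∧ (e0 + e3) 1 = 0 ∧ e0 1 = 0 := by decide +kernel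

variable {G : Type*} [Group G] [Finite G] {L : Loc G} {W : Subgroup G} {c : G} {D : Subgroup G}

theorem PreTop.additive (K : PreTop L W c D) {g : G} (hg : g ∈ topGroup L W c) : Additive (K.im g) := by
  obtain ⟨a, ha, k, e⟩ := K.im_semi g hg
  rw [e]
  exact (additive_of_mem ha).mul (U62Aut.isom_omP_pow k).1

theorem PreTop.im_one (K : PreTop L W c D) : K.im 1 = 1 := (K.im_ker 1 (one_mem _)).2 W.one_mem

theorem PreTop.im_inv (K : PreTop L W c D) {g : G} (hg : g ∈ topGroup L W c) : K.im g⁻¹ = (K.im g)⁻¹ :=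
  eq_inv_of_mul_eq_one_left (by rw [← K.im_mul _ (inv_mem hg) _ hg, inv_mul_cancel, K.im_one])

theorem PreTop.im_conj_fix (K : PreTop L W c D) {g m : G} (hg : g ∈ topGroup L W c) (hm : m ∈ topGroup L W c) :
    (fixSet (K.im (m * g * m⁻¹))).card = (fixSet (K.im g)).card := by
  rw [K.im_mul _ (mul_mem hm hg) _ (inv_mem hm), K.im_mul m hm g hg, K.im_inv hm, fix_conj]

theorem fix_inv (s : Equiv.Perm Vec) : fixSet s⁻¹ = fixSet s := by
  ext v
  rw [mem_fixSet, mem_fixSet]
  exact Equiv.Perm.inv_eq_iff_eq.trans eq_comm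

variable (q : Quot L W c) (K : PreTop L W c D)
include q K

/-- Negatives have the same fixed vectors. -/
theorem fix_el_neg {v : V4} (h : v 1 = 0) :
    (fixSet (K.im (L.el (-v)))).card = (fixSet (K.im (L.el v))).card := by
  rw [L.el_neg, K.im_inv (Kt_le_top q (L.el_mem_Kt.2 h)), fix_inv]

/-- The translations keep the number of fixed vectors. -/
theorem fix_el_word (E : Ctl L W c) {v w : V4} (h : v 1 = 0) {a b d : ZMod 3}
    (hw : (trM 0 a).mulVec ((tr3M 0 b).mulVec ((trM 0 d).mulVec v)) = w) :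
    (fixSet (K.im (L.el w))).card = (fixSet (K.im (L.el v))).card := by
  obtain ⟨m1, hm1, x1⟩ := exists_word q E _ (isRot_tr 0 d) fun v => (tr_plane' d v).1
  obtain ⟨m2, hm2, x2⟩ := exists_word q E _ (isRot_tr3 0 b) fun v => (tr_plane' b v).2
  obtain ⟨m3, hm3, x3⟩ := exists_word q E _ (isRot_tr 0 a) fun v => (tr_plane' a v).1
  rw [← hw, ← x3, ← x2, ← x1,
    show m3 * (m2 * (m1 * L.el v * m1⁻¹) * m2⁻¹) * m3⁻¹ = (m3 * m2 * m1) * L.el v * (m3 * m2 * m1)⁻¹ by group]
  exact K.im_conj_fix (Kt_le_top q (L.el_mem_Kt.2 h)) (mul_mem (mul_mem hm3 hm2) hm1)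

/-- **An element of square one moves all of `W` outside the involution.** -/
theorem el_fpf (E : Ctl L W c) {v : V4} (h1 : v 1 = 0) (hv : qf v = 1) :
    (fixSet (K.im (L.el v))).card = 1 := by
  classical
  obtain ⟨f1, f2, f3, f4, f5, f6, f7, f8, f9⟩ := minus_facts
  have hTop : ∀ u : V4, u 1 = 0 → L.el u ∈ topGroup L W c := fun u hu => Kt_le_top q (L.el_mem_Kt.2 hu)
  have hz : L.S.z ∈ topGroup L W c := L.z_eq ▸ hTop e0 f9
  have hcube : ∀ u : V4, u 1 = 0 → K.im (L.el u) ^ 3 = 1 := fun u hu => by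
    have h3 : L.el u ^ 3 = 1 := L.K_exp _ (L.el_mem_K u)
    rw [pow_succ, pow_two, ← K.im_mul _ (hTop u hu) _ (hTop u hu), ← K.im_mul _ (mul_mem (hTop u hu) (hTop u hu)) _
      (hTop u hu), ← pow_two, ← pow_succ, h3, K.im_one]
  have hmul : ∀ u w : V4, u 1 = 0 → w 1 = 0 → K.im (L.el (u + w)) = K.im (L.el u) * K.im (L.el w) :=
    fun u w hu hw => by rw [L.jd.el_add, K.im_mul _ (hTop u hu) _ (hTop w hw)]
  have hcomm : ∀ u w : V4, u 1 = 0 → w 1 = 0 → Commute (K.im (L.el u)) (K.im (L.el w)) := fun u w hu hw => by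
    show _ * _ = _ * _
    rw [← hmul u w hu hw, ← hmul w u hw hu, add_comm]
  -- fixed vectors come from commuting elements
  have hcom : ∀ u : V4, u 1 = 0 → ∀ a ∈ W, K.im (L.el u) (K.nv a) = K.nv a → Commute a (L.el u) := fun u hu a ha e => by
    refine (commute_of_flip (L.K_exp _ (L.el_mem_K u)) (L.el_commute_t.2 hu)
      ((K.nv_eq a ha _ ?_).1 (by rw [K.im_conj _ (hTop u hu) a ha, e]))).symm
    exact (mem_normalizer_iff.1 (topGroup_le_norm (hTop u hu)) a).1 ha
  set s := K.im (L.el e0) with hs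
  haveI : Fintype ↥L.S.P := Fintype.ofFinite _
  -- the fixed vectors at the point
  have hsP : fixSet s ⊆ (Finset.univ.filter fun w : Vec => ∃ p ∈ L.S.P, K.nv p = w) := fun w hw => by
    obtain ⟨a, ha, rfl⟩ := K.nv_surj w
    refine Finset.mem_filter.2 ⟨Finset.mem_univ _, a, q.mid.fix_point a ha ?_, rfl⟩
    rw [← L.z_eq]
    exact hcom e0 f9 a ha (mem_fixSet.1 hw)
  have hPs : ∀ p ∈ L.S.P, K.nv p ∈ fixSet s := fun p hp => mem_fixSet.2 (by
    rw [hs, ← K.im_conj _ (hTop e0 f9) p (q.mid.P_le hp), L.z_eq]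
    congr 1
    rw [← (mem_centralizer_singleton_iff.1 (L.S.P_le hp) : p * L.S.z = L.S.z * p), mul_inv_cancel_right])
  have hfib : ∀ w, (Finset.univ.filter fun p : ↥L.S.P => K.nv p = w).card ≤ 2 := fun w => by
    by_cases h : ∃ p : ↥L.S.P, K.nv p = w
    · obtain ⟨p, rfl⟩ := h
      refine le_trans (Finset.card_le_card (t := {p, p * ⟨L.S.t, L.S.t_mem⟩}) fun p' hp' => ?_) Finset.card_le_two
      have := (K.nv_eq p (q.mid.P_le p.2) p' (q.mid.P_le p'.2)).1 (Finset.mem_filter.1 hp').2.symm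
      rw [Finset.mem_insert, Finset.mem_singleton]
      exact this.imp Subtype.ext Subtype.ext
    · rw [Finset.card_eq_zero.2 (Finset.filter_eq_empty_iff.2 fun p _ e => h ⟨p, e⟩)]
      exact Nat.zero_le _
  have hk : 4 ≤ (fixSet s).card := by
    have h8 : (Finset.univ : Finset ↥L.S.P).card = 8 := by
      rw [Finset.card_univ, ← Nat.card_eq_fintype_card, L.S.card_P]
    have := Finset.card_le_mul_card_image_of_maps_to (f := fun p : ↥L.S.P => K.nv p) (s := Finset.univ)
      (t := fixSet s) (fun p _ => hPs p p.2) 2 fun w _ => hfib w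
    omega
  have hk' : (fixSet s).card ≤ 4 := by
    have h8 : (Finset.univ : Finset ↥L.S.P).card = 8 := by
      rw [Finset.card_univ, ← Nat.card_eq_fintype_card, L.S.card_P]
    set I := Finset.univ.filter fun w : Vec => ∃ p ∈ L.S.P, K.nv p = w
    have := Finset.mul_card_image_le_card_of_maps_to (f := fun p : ↥L.S.P => K.nv p) (s := Finset.univ) (t := I)
      (fun p _ => Finset.mem_filter.2 ⟨Finset.mem_univ _, p, p.2, rfl⟩) 2 fun w hw => by
        obtain ⟨-, p, hp, rfl⟩ := Finset.mem_filter.1 hw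
        rw [← Finset.card_pair (show (⟨p, hp⟩ : ↥L.S.P) ≠ ⟨p, hp⟩ * ⟨L.S.t, L.S.t_mem⟩ from fun e =>
          L.S.t_ne (mul_left_cancel ((mul_one p).trans (congrArg Subtype.val e)).symm))]
        refine Finset.card_le_card fun p' hp' => Finset.mem_filter.2 ⟨Finset.mem_univ _, ?_⟩
        rcases Finset.mem_insert.1 hp' with rfl | h'
        · rfl
        · rw [Finset.mem_singleton.1 h']
          exact ((K.nv_eq p (q.mid.P_le hp) _ (q.mid.P_le (mul_mem hp L.S.t_mem))).2 (Or.inr rfl)).symm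
    have hle := Finset.card_le_card hsP
    omega
  -- the axis
  set t2 := K.im (L.el e2) with ht2
  obtain ⟨g, hg, hgm⟩ : ∃ g ∈ L.S.Q2, ¬ Commute g (L.el e2) := by
    obtain ⟨a, ha, b, hb, hab⟩ := L.exists_comm_z
    by_contra hall
    push Not at hall
    have ka := L.Q2_axis ha (hall a ha)
    have kb := L.Q2_axis hb (hall b hb)
    rw [commutatorElement_eq_one_iff_mul_comm.2 (L.Kt_commute ka kb).eq, zpowers_one_eq_bot, mem_bot] at hab
    have := L.S.core.ord
    rw [hab, orderOf_one] at this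
    omega
  have hgT : g ∈ topGroup L W c := centZ_le_top q E (mem_inf.2
    ⟨mem_centralizer_singleton_iff.2 (L.Q2_commute_z hg).eq, mem_centralizer_singleton_iff.2 (L.Q2_commute_t hg).eq⟩)
  obtain ⟨k, hk0, hgk⟩ : ∃ k : ZMod 3, k ≠ 0 ∧ g * L.el e2 * g⁻¹ = L.el (k • e0 + e2) := by
    have hm : ⁅g, L.el e2⁆ ∈ zpowers L.S.z := Core.comm' L.S.core (L.S.le2 hg) (L.S.le2 L.e2_mem)
    obtain ⟨k, hk⟩ := L.zpowers_z.1 hm
    have hge : g * L.el e2 * g⁻¹ = L.el (k • e0 + e2) := by
      rw [L.jd.el_add, ← hk, commutatorElement_def, inv_mul_cancel_right]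
    refine ⟨k, fun h => hgm (mul_inv_eq_iff_eq_mul.1 ?_), hge⟩
    rw [hge, h, zero_smul, zero_add]
  have hshift : ∀ k : ZMod 3, (k • e0 + e2) 1 = 0 := by decide +kernel
  have hgk' : g⁻¹ * L.el e2 * g⁻¹⁻¹ = L.el ((-k) • e0 + e2) := by
    have hgz : g⁻¹ * L.el (k • e0) * g⁻¹⁻¹ = L.el (k • e0) := by
      have hcz : Commute g⁻¹ (L.el (k • e0)) := by
        rw [← ZMod.natCast_rightInverse k, el_natCast_smul L.el L.jd.el_add, L.z_eq]
        exact (L.Q2_commute_z hg).inv_left.pow_right _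
      rw [hcz.eq, mul_inv_cancel_right]
    have hel : L.el (k • e0) * (g⁻¹ * L.el e2 * g⁻¹⁻¹) = L.el e2 := by
      conv_rhs => rw [show L.el e2 = g⁻¹ * (g * L.el e2 * g⁻¹) * g⁻¹⁻¹ by group, hgk, L.jd.el_add]
      conv_lhs => rw [← hgz]
      group
    rw [L.jd.el_add, eq_inv_mul_of_mul_eq hel, ← L.el_neg, neg_smul]
  set d := (fixSet t2).card with hd
  have hd1 : ∀ j : ZMod 3, (fixSet (K.im (L.el (j • e0 + e2)))).card = d := by
    intro j
    have h3 : ∀ j k : ZMod 3, k ≠ 0 → j = 0 ∨ j = k ∨ j = -k := by decide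
    rcases h3 j k hk0 with rfl | rfl | rfl
    · rw [zero_smul, zero_add]
    · rw [← hgk, K.im_conj_fix (hTop e2 f7) hgT]
    · rw [← hgk', K.im_conj_fix (hTop e2 f7) (inv_mem hgT)]
  have hsub : ∀ w, s w = w → t2 w = w := fun w hw => by
    obtain ⟨p, hp, rfl⟩ := (Finset.mem_filter.1 (hsP (mem_fixSet.2 hw))).2
    rw [ht2, ← K.im_conj _ (hTop e2 f7) p (q.mid.P_le hp), ← (L.S.P_Q2 p hp _ L.e2_mem).eq, mul_inv_cancel_right]
  have he : (1 : ZMod 3) • e0 + e2 = e0 + e2 ∧ (2 : ZMod 3) • e0 + e2 = e0 + e0 + e2 ∧ (e0 + e0) 1 = 0 := by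
    decide +kernel
  have hd16 : 16 ≤ d := by
    refine fix_lower (K.additive (hTop e0 f9)) (K.additive (hTop e2 f7)) (hcomm e0 e2 f9 f7) (hcube e0 f9)
      (hcube e2 f7) hsub hk rfl ?_ ?_ hk'
    · rw [← hmul e0 e2 f9 f7, ← he.1, hd1]
    · rw [← hmul e0 e0 f9 f9, ← hmul (e0 + e0) e2 he.2.2 f7, ← he.2.1, hd1]
  -- the other group
  set r := K.im (L.el e3) with hr
  have h0 : ∀ w, s w = w → r w = w → w = z0V := by
    intro w hw hw'
    obtain ⟨p, hp, rfl⟩ := (Finset.mem_filter.1 (hsP (mem_fixSet.2 hw))).2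
    have hc := hcom e3 f5 p (q.mid.P_le hp) hw'
    have h1 : K.nv 1 = z0V := by
      have := K.nv_mul 1 W.one_mem 1 W.one_mem
      rw [one_mul] at this
      rw [this]
      exact xorV_self' _
    rcases L.P_move e3 f5 (by decide) p hp hc with rfl | rfl
    · exact h1
    · rw [← h1, eq_comm]
      exact (K.nv_eq 1 W.one_mem _ (q.mid.P_le L.S.t_mem)).2 (Or.inr (one_mul _).symm)
  have hr4 : 4 ≤ (fixSet r).card := by
    obtain ⟨a, b, e, hw, -⟩ := to_axis e3 f5 f6 (by rw [f4]; decide)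
    rcases hw f4 with hw' | hw'
    · rw [hr, ← fix_el_word q K E f5 hw']
      exact hk
    · rw [hr, ← fix_el_word q K E f5 hw', fix_el_neg q K f9]
      exact hk
  have hdm : (fixSet (K.im (L.el (e0 + (e0 + e3))))).card = d := by
    obtain ⟨a, b, e, -, hw⟩ := to_axis _ f1 f3 (by rw [f2]; decide)
    rcases hw (by rw [f2]; decide) with hw' | hw'
    · rw [← fix_el_word q K E f1 hw']
    · rw [← fix_el_word q K E f1 hw', fix_el_neg q K f7]
  have hprod := fix_upper (K.additive (hTop e0 f9)) (K.additive (hTop e3 f5)) (hcomm e0 e3 f9 f5) (hcube e0 f9)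
    (hcube e3 f5) h0
  rw [mul_assoc (K.im (L.el e0)) (K.im (L.el e0)), ← hmul e0 e3 f9 f5, ← hmul e0 _ f9 f8, hdm, ← hs, ← hr] at hprod
  have hone : 1 ≤ (fixSet (K.im (L.el (e0 + e3)))).card :=
    Finset.card_pos.2 ⟨z0V, mem_fixSet.2 (K.additive (hTop _ f8)).zero⟩
  have hu : (fixSet (K.im (L.el (e0 + e3)))).card = 1 := by
    by_contra hne
    have h2 : 2 ≤ (fixSet (K.im (L.el (e0 + e3)))).card := by omega
    have := Nat.mul_le_mul hk (Nat.mul_le_mul hr4 (Nat.mul_le_mul h2 hd16))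
    omega
  obtain ⟨a, b, e, hw⟩ := to_ci v h1 hv
  rcases hw with hw' | hw'
  · rw [← fix_el_word q K E h1 hw', hu]
  · rw [← fix_el_word q K E h1 hw', fix_el_neg q K f8, hu]

/-- So it commutes with no element of `W` outside the group of the involution. -/
theorem el_moves (E : Ctl L W c) {v : V4} (h1 : v 1 = 0) (hv : qf v = 1) {a : G} (ha : a ∈ W)
    (hca : Commute (L.el v) a) : a = 1 ∨ a = L.S.t := by
  have hT : L.el v ∈ topGroup L W c := Kt_le_top q (L.el_mem_Kt.2 h1)
  have hn1 : K.nv 1 = z0V := by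
    have := K.nv_mul 1 W.one_mem 1 W.one_mem
    rw [one_mul] at this
    rw [this]
    exact xorV_self' _
  have hfix : K.nv a ∈ fixSet (K.im (L.el v)) := mem_fixSet.2 (by
    rw [← K.im_conj _ hT a ha, hca.eq, mul_inv_cancel_right])
  have h0 : z0V ∈ fixSet (K.im (L.el v)) := mem_fixSet.2 (K.additive hT).zero
  have he := Finset.card_le_one.1 (el_fpf q K E h1 hv).le _ h0 _ hfix
  rcases (K.nv_eq 1 W.one_mem a ha).1 (hn1.trans he) with h | h
  · exact Or.inl h
  · exact Or.inr (h.trans (one_mul _))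

end Cfsg.Agent.U62Three.Close
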