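import Cfsg.Agent.Lib.U62Three.Close.Three
import Cfsg.Agent.Lib.CentrallyLarge.Basic

/-!
The subgroup which becomes the centraliser of the involution contains a Sylow 3-subgroup of that centraliser, and
the normaliser of its abelian part; hence it controls the fusion of that part.
-/

set_option autoImplicit false
set_option maxRecDepth 20000
set_option linter.style.haveILetI false

namespace Cfsg.Agent.U62Three

open Subgroup
open Co2Three (V4 qf bf e0 e1 e2 e3 refl1 IsSim isSim_mult)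
open scoped commutatorElement Pointwise

namespace Close

theorem low_e2 : ∀ v : V4, v 1 = 0 → v 3 = 0 → v 2 ≠ 0 → e2 = v 2 • v + (-(v 2 * v 0)) • e0 := by decide +kernel

theorem low_count : (Finset.univ.filter fun v : V4 => v 1 = 0 ∧ v 3 = 0 ∧ v 2 = 0).card ≤ 3 := by decide +kernel

end Close

namespace Loc

variable {G : Type*} [Group G] [Finite G] (L : Loc G)

theorem Q2_conj {g : G} (hz : Commute g L.S.z) (he : Commute g (L.el e2)) :
    ∀ b ∈ L.S.Q2, g * b * g⁻¹ ∈ L.S.Q2 := by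
  rcases L.S.perm g (by rw [hz.eq, mul_inv_cancel_right]; exact mem_zpowers _) with ⟨-, h⟩ | ⟨-, h⟩
  · exact h
  · have h1 := h _ L.e2_mem
    rw [he.eq, mul_inv_cancel_right] at h1
    have h2 : L.el e2 ∈ zpowers L.S.z := L.S.inf12 ▸ mem_inf.2 ⟨h1, L.e2_mem⟩
    obtain ⟨n, hn⟩ := mem_powers_iff_mem_zpowers.2 h2
    have hn' : L.el e0 ^ n = L.el e2 := by rw [L.z_eq]; exact hn
    rw [← el_natCast_smul L.el L.jd.el_add] at hn'
    exact absurd (congrFun (L.jd.el_inj hn') 2) (by simp [e0, e2])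

theorem Kt_conj_Q2 {k : G} (hk : k ∈ L.Kt) : ∀ b ∈ L.S.Q2, k * b * k⁻¹ ∈ L.S.Q2 :=
  L.Q2_conj (L.K_commute (L.mem_Kt.1 hk).1 (L.mem_Kt.1 L.z_mem_Kt).1)
    (L.K_commute (L.mem_Kt.1 hk).1 (L.el_mem_K e2))

theorem Kt_le_normalizer_Q2 : L.Kt ≤ normalizer (L.S.Q2 : Set G) := fun k hk =>
  mem_normalizer_iff.2 fun b => ⟨L.Kt_conj_Q2 hk b, fun h => by
    have := L.Kt_conj_Q2 (inv_mem hk) _ h
    rwa [show k⁻¹ * (k * b * k⁻¹) * k⁻¹⁻¹ = b by group] at this⟩

/-- The Sylow 3-subgroup. -/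
def T3 : Subgroup G := L.S.Q2 ⊔ L.Kt

theorem exists_T3 {x : G} (hx : x ∈ L.T3) : ∃ q ∈ L.S.Q2, ∃ k ∈ L.Kt, x = q * k := by
  have h : x ∈ ((L.S.Q2 ⊔ L.Kt : Subgroup G) : Set G) := hx
  rw [coe_mul_of_right_le_normalizer_left _ _ L.Kt_le_normalizer_Q2] at h
  obtain ⟨q, hq, k, hk, e⟩ := Set.mem_mul.1 h
  exact ⟨q, hq, k, hk, e.symm⟩

theorem Kt_le_T3 : L.Kt ≤ L.T3 := le_sup_right

theorem Q2_le_T3 : L.S.Q2 ≤ L.T3 := le_sup_left

theorem card_inf_Q2 : Nat.card ↥(L.S.Q2 ⊓ L.Kt) = 9 := by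
  classical
  let f : {u : V4 // u 1 = 0 ∧ u 3 = 0} → ↥(L.S.Q2 ⊓ L.Kt) := fun u =>
    ⟨L.el u.1, mem_inf.2 ⟨L.el_low u.2.1 u.2.2, L.el_mem_Kt.2 u.2.1⟩⟩
  have hb : Function.Bijective f := ⟨fun a b e => Subtype.ext (L.jd.el_inj (congrArg Subtype.val e)), fun x => by
    obtain ⟨hQ, hK⟩ := mem_inf.1 x.2
    obtain ⟨v, hv⟩ := L.K_Q _ (L.mem_Kt.1 hK).1 (L.S.le2 hQ)
    exact ⟨⟨v, L.el_mem_Kt.1 (hv ▸ hK), (L.jd.Q_J v).1 (hv ▸ L.S.le2 hQ)⟩, Subtype.ext hv.symm⟩⟩
  rw [← Nat.card_congr (Equiv.ofBijective f hb), Nat.card_eq_fintype_card]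
  decide +kernel

theorem card_T3 : Nat.card L.T3 = 3 * Nat.card L.Kt := by
  have h := CLarge.card_of_coe_sup_eq (coe_mul_of_right_le_normalizer_left L.S.Q2 L.Kt L.Kt_le_normalizer_Q2)
  rw [L.card_inf_Q2, L.S.card2] at h
  show Nat.card ↥(L.S.Q2 ⊔ L.Kt) = _
  omega

theorem card_K : Nat.card L.K = 3 * Nat.card L.Kt := by
  classical
  let f : ↥L.Kt × ZMod 3 → ↥L.K := fun p =>
    ⟨p.1 * L.el (p.2 • e1), L.K.mul_mem (L.mem_Kt.1 p.1.2).1 (L.el_mem_K _)⟩
  have hb : Function.Bijective f := by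
    refine ⟨fun p r e => ?_, fun x => ?_⟩
    · have e' : (p.1 : G) * L.el (p.2 • e1) = r.1 * L.el (r.2 • e1) := congrArg Subtype.val e
      have h1 : (r.1 : G)⁻¹ * p.1 = L.el (r.2 • e1 - p.2 • e1) := by
        rw [sub_eq_add_neg, L.jd.el_add, L.el_neg, eq_mul_inv_iff_mul_eq, mul_assoc, e', inv_mul_cancel_left]
      have h2 := L.el_mem_Kt.1 (h1 ▸ L.Kt.mul_mem (inv_mem r.1.2) p.1.2)
      have h3 : r.2 = p.2 := (by decide : ∀ a b : ZMod 3, (a • e1 - b • e1) 1 = 0 → a = b) _ _ h2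
      rw [h3, sub_self, L.el_zero, inv_mul_eq_one] at h1
      exact Prod.ext (Subtype.ext h1.symm) h3.symm
    · obtain ⟨a, ha⟩ := L.exists_fix x.2
      refine ⟨(⟨_, ha⟩, -a), Subtype.ext ?_⟩
      show x.1 * L.el (a • e1) * L.el (-a • e1) = x.1
      rw [mul_assoc, ← L.jd.el_add, neg_smul, add_neg_cancel, L.el_zero, mul_one]
  rw [← Nat.card_congr (Equiv.ofBijective f hb), Nat.card_prod, Nat.card_eq_fintype_card (α := ZMod 3),
    ZMod.card, mul_comm]

theorem Kt_commute {x y : G} (hx : x ∈ L.Kt) (hy : y ∈ L.Kt) : Commute x y :=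
  L.K_commute (L.mem_Kt.1 hx).1 (L.mem_Kt.1 hy).1

theorem Kt_pGroup : IsPGroup 3 L.Kt := fun x =>
  ⟨1, Subtype.ext (by rw [pow_one]; exact L.K_exp _ (L.mem_Kt.1 x.2).1)⟩

theorem T3_pGroup : IsPGroup 3 L.T3 := by
  rcases L.K_card with h | h <;> rw [L.card_K] at h
  · exact IsPGroup.of_card (n := 4) (by rw [L.card_T3]; omega)
  · exact IsPGroup.of_card (n := 5) (by rw [L.card_T3]; omega)

/-- In the Sylow subgroup the abelian part is the only abelian subgroup of its order. -/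
theorem Kt_unique {A : Subgroup G} (hA : A ≤ L.T3) (hc : ∀ a ∈ A, ∀ b ∈ A, Commute a b)
    (hcard : Nat.card A = Nat.card L.Kt) : A = L.Kt := by
  classical
  haveI : Fact (Nat.Prime 3) := ⟨Nat.prime_three⟩
  refine eq_of_le_of_card_ge (fun x hx => ?_) hcard.ge
  by_contra hxK
  obtain ⟨q, hq, k, hk, rfl⟩ := L.exists_T3 (hA hx)
  have hqK : q ∉ L.Kt := fun h => hxK (L.Kt.mul_mem h hk)
  set D := A ⊓ L.Kt with hD
  -- the elements of the plane in the intersection are low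
  let π : Finset V4 := Finset.univ.filter fun v : V4 => v 1 = 0 ∧ L.el v ∈ D
  have hlow : ∀ v ∈ π, v 3 = 0 ∧ v 2 = 0 := by
    intro v hv
    obtain ⟨h1, hvD⟩ := (Finset.mem_filter.1 hv).2
    have hcv : Commute q (L.el v) := by
      have h := hc _ hx _ (mem_inf.1 hvD).1
      have h' : Commute k (L.el v) := L.Kt_commute hk (mem_inf.1 hvD).2
      have := h.mul_left h'.inv_left
      rwa [mul_inv_cancel_right] at this
    by_cases h3 : v 3 = 0
    · refine ⟨h3, ?_⟩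
      by_contra h2
      refine hqK (L.Q2_axis hq ?_)
      have hz : Commute q (L.el e0) := L.z_eq ▸ L.Q2_commute_z hq
      have e : e2 = v 2 • v + (-(v 2 * v 0)) • e0 :=
        Close.low_e2 v h1 h3 h2
      rw [e, L.jd.el_add, ← ZMod.natCast_rightInverse (v 2), el_natCast_smul L.el L.jd.el_add,
        ← ZMod.natCast_rightInverse (-(_ * v 0)), el_natCast_smul L.el L.jd.el_add]
      exact (hcv.pow_right _).mul_right (hz.pow_right _)
    · exact absurd (L.Q2_cent hq h1 h3 hcv) hqK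
  have hπ : π.card ≤ 3 := by
    refine le_trans (Finset.card_le_card (t := Finset.univ.filter fun v : V4 => v 1 = 0 ∧ v 3 = 0 ∧ v 2 = 0)
      fun v hv => ?_) Close.low_count
    simp only [Finset.mem_filter, Finset.mem_univ, true_and]
    exact ⟨(Finset.mem_filter.1 hv).2.1, hlow v hv⟩
  -- but there are at least nine
  have hDle : D ≤ L.Kt := inf_le_right
  have hrel : D.relIndex L.Kt ≤ 3 := by
    have h1 : D.relIndex L.Kt = A.relIndex L.Kt := by
      rw [hD]; exact inf_relIndex_right A L.Kt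
    rw [h1]
    have h2 : A.relIndex L.Kt ≤ A.relIndex L.T3 := relIndex_le_of_le_right L.Kt_le_T3 Subgroup.index_ne_zero_of_finite
    have h3 : Nat.card A * A.relIndex L.T3 = Nat.card L.T3 := by
      rw [← Nat.card_congr (subgroupOfEquivOfLe hA).toEquiv]
      exact card_mul_index _
    rw [hcard, L.card_T3, mul_comm 3] at h3
    exact h2.trans (le_of_eq (Nat.eq_of_mul_eq_mul_left Nat.card_pos h3))
  let P : Subgroup ↥L.Kt := D.subgroupOf L.Kt
  let ι : {v : V4 // v 1 = 0} → ↥L.Kt ⧸ P := fun v => ((⟨L.el v.1, L.el_mem_Kt.2 v.2⟩ : ↥L.Kt) : ↥L.Kt ⧸ P)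
  have hfib : ∀ b, (Finset.univ.filter fun v => ι v = b).card ≤ 3 := by
    intro b
    rcases (Finset.univ.filter fun v => ι v = b).eq_empty_or_nonempty with e | ⟨v0, hv0⟩
    · rw [e]; simp
    refine le_trans (Finset.card_le_card_of_injOn (fun v => v.1 - v0.1) (fun v hv => ?_) fun a _ b _ e =>
      Subtype.ext (sub_left_injective e)) hπ
    simp only [Finset.coe_filter, Finset.mem_univ, true_and, Set.mem_setOf_eq] at hv ⊢
    have h := mem_subgroupOf.1 (QuotientGroup.eq.1 ((Finset.mem_filter.1 hv0).2.trans hv.symm))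
    refine Finset.mem_coe.2 (Finset.mem_filter.2 ⟨Finset.mem_univ _, by rw [Pi.sub_apply, v.2, v0.2, sub_zero], ?_⟩)
    rw [sub_eq_neg_add, L.jd.el_add, L.el_neg]
    exact h
  haveI : Fintype (↥L.Kt ⧸ P) := Fintype.ofFinite _
  have h27 := Finset.card_le_mul_card_image_of_maps_to (s := (Finset.univ : Finset {v : V4 // v 1 = 0}))
    (t := (Finset.univ : Finset (↥L.Kt ⧸ P))) (f := ι) (fun _ _ => Finset.mem_univ _) 3 fun b _ => hfib b
  rw [Finset.card_univ, Fintype.card_subtype, Close.plane_card.1, Finset.card_univ, ← Nat.card_eq_fintype_card]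
    at h27
  have hi : Nat.card (↥L.Kt ⧸ P) = D.relIndex L.Kt := rfl
  omega

end Loc

namespace Close

variable {G : Type*} [Group G] [Finite G] {L : Loc G} {W : Subgroup G} {c : G}

theorem topGroup_le_cent (M : Mid L W) : topGroup L W c ≤ centralizer {L.S.t} :=
  sup_le M.le (inf_le_left.trans inf_le_right)

theorem topGroup_le_norm : topGroup L W c ≤ normalizer (W : Set G) :=
  sup_le Subgroup.le_normalizer (inf_le_left.trans inf_le_left)

theorem mem_topGroup {g : G} (h1 : g ∈ normalizer (W : Set G)) (h2 : Commute g L.S.t)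
    (h3 : g ∈ normalizer (zpowers c : Set G)) : g ∈ topGroup L W c :=
  mem_sup_right (mem_inf.2 ⟨mem_inf.2 ⟨h1, mem_centralizer_singleton_iff.2 h2.eq⟩, h3⟩)

theorem norm_of_commute {g : G} (h : Commute g c) : g ∈ normalizer (zpowers c : Set G) :=
  zpowers_le.2 (mem_centralizer_singleton_iff.2 h.symm.eq : c ∈ centralizer ({g} : Set G)) |> fun hle =>
    mem_normalizer_iff.2 fun x => by
      constructor
      · intro hx
        rwa [(mem_centralizer_singleton_iff.1 (hle hx)).symm, mul_inv_cancel_right]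
      · intro hx
        have h2 := (mem_centralizer_singleton_iff.1 (hle hx))
        have e : g * x * g⁻¹ = x := by
          calc g * x * g⁻¹ = g⁻¹ * (g * (g * x * g⁻¹)) := by group
            _ = g⁻¹ * (g * x * g⁻¹ * g) := by rw [← h2]
            _ = x := by group
        rwa [e] at hx

variable (q : Quot L W c)
include q

theorem W_le_top : W ≤ topGroup L W c := le_sup_left

theorem c_commute {k : G} (hk : k ∈ L.Kt) : Commute k c := L.Kt_commute hk q.c_mem

theorem Kt_le_top : L.Kt ≤ topGroup L W c := fun k hk =>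
  mem_topGroup (q.mid.norm_Kt hk) (L.mem_Kt.1 hk).2 (norm_of_commute (c_commute q hk))

theorem P_le_top : L.S.P ≤ topGroup L W c := q.mid.P_le.trans (W_le_top q)

variable (E : Ctl L W c)
include E

theorem Q2_le_top : L.S.Q2 ≤ topGroup L W c := fun x hx =>
  mem_topGroup (q.mid.cent_point (mem_inf.2 ⟨mem_centralizer_singleton_iff.2 (L.Q2_commute_z hx).eq,
    mem_centralizer_singleton_iff.2 (L.Q2_commute_t hx).eq⟩)) (L.Q2_commute_t hx) (norm_of_commute (E.comm_Q2 x hx))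

theorem P'_le_top : L.S.P' ≤ topGroup L W c := fun x hx => by
  have hz := mem_centralizer_singleton_iff.1 (L.S.P'_le hx)
  have ht := (L.S.PP'_comm _ L.S.t_mem x hx).symm
  exact mem_topGroup (q.mid.cent_point (mem_inf.2 ⟨L.S.P'_le hx, mem_centralizer_singleton_iff.2 ht.eq⟩)) ht
    (norm_of_commute (E.comm_P' x hx))

/-- The centraliser of the central element lies in it. -/
theorem centZ_le_top : centralizer ({L.S.z} : Set G) ⊓ centralizer {L.S.t} ≤ topGroup L W c := fun g hg => by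
  obtain ⟨hz, ht⟩ := mem_inf.1 hg
  obtain ⟨a, ha, p, hp, p', hp', k, hk, rfl⟩ :=
    L.centT g (mem_centralizer_singleton_iff.1 hz) (mem_centralizer_singleton_iff.1 ht)
  exact mul_mem (mul_mem (mul_mem (Q2_le_top q E ha) (P_le_top q hp)) (P'_le_top q E hp')) (Kt_le_top q hk)

theorem T3_le_top : L.T3 ≤ topGroup L W c := sup_le (Q2_le_top q E) (Kt_le_top q)

/-- An element of the centraliser of `t` normalising the abelian part acts on it as one normalising `J`, and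
normalises `W`. -/
theorem exists_normJ {g : G} (ht : Commute g L.S.t) (hg : g ∈ normalizer (L.Kt : Set G)) :
    ∃ (n : G) (M : Matrix (Fin 4) (Fin 4) (ZMod 3)), Commute n L.S.t ∧
      (∀ v, n * L.el v * n⁻¹ = L.el (M.mulVec v)) ∧ (∀ v, qf (M.mulVec v) = qf v) ∧
      (∀ x ∈ L.Kt, n * x * n⁻¹ = g * x * g⁻¹) := by
  classical
  haveI : Fact (Nat.Prime 3) := ⟨Nat.prime_three⟩
  set Y := centralizer (L.Kt : Set G) with hY
  have hKY : L.K ≤ Y := fun x hx => mem_centralizer_iff.2 fun y hy => (L.K_commute (L.mem_Kt.1 hy).1 hx).eq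
  have hgY : L.K.map (MulAut.conj g).toMonoidHom ≤ Y := by
    rintro _ ⟨x, hx, rfl⟩
    refine mem_centralizer_iff.2 fun y hy => ?_
    have hy' : g⁻¹ * y * g ∈ L.Kt := by simpa using (mem_normalizer_iff.1 (inv_mem hg) y).1 hy
    have h := (L.K_commute (L.mem_Kt.1 hy').1 hx).map (MulAut.conj g).toMonoidHom
    rw [show (MulAut.conj g).toMonoidHom (g⁻¹ * y * g) = y by simp [mul_assoc]] at h
    exact h.eq
  have hK3 : IsPGroup 3 L.K := fun x => ⟨1, Subtype.ext (by rw [pow_one]; exact L.K_exp _ x.2)⟩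
  obtain ⟨R, hR⟩ := (hK3.comap_subtype (K := Y)).exists_le_sylow
  obtain ⟨R', hR'⟩ := ((hK3.map (MulAut.conj g).toMonoidHom).comap_subtype (K := Y)).exists_le_sylow
  obtain ⟨d, hd⟩ := MulAction.exists_smul_eq ↥Y R' R
  set n := (d : G) * g with hn
  have hmap : L.K.map (MulAut.conj n).toMonoidHom = L.K := by
    refine L.K_unique ((R : Subgroup ↥Y).map Y.subtype) (R.2.map _)
      (fun x hx => ⟨⟨x, hKY hx⟩, hR (mem_subgroupOf.2 hx), rfl⟩) _ ?_ ?_ ?_
    · rintro _ ⟨x, hx, rfl⟩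
      have hxR : (⟨_, hgY ⟨x, hx, rfl⟩⟩ : ↥Y) ∈ (R' : Subgroup ↥Y) := hR' (mem_subgroupOf.2 ⟨x, hx, rfl⟩)
      refine ⟨d * ⟨_, hgY ⟨x, hx, rfl⟩⟩ * d⁻¹, by rw [← hd]; exact ⟨_, hxR, rfl⟩, ?_⟩
      simp [hn, mul_assoc]
    · haveI := L.K_comm
      exact Subgroup.map_isMulCommutative L.K _
    · exact Nat.card_congr (equivMapOfInjective L.K _ (MulAut.conj n).injective).toEquiv.symm
  have hnorm : ∀ v, ∃ w, n * L.el v * n⁻¹ = L.el w := fun v => by
    have h : n * L.el v * n⁻¹ ∈ L.K := by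
      have := mem_map_of_mem (MulAut.conj n).toMonoidHom (L.el_mem_K v)
      rw [hmap] at this
      simpa using this
    obtain ⟨m, hm, e⟩ := L.K_fusion _ (L.el_mem_K v) n h
    obtain ⟨w, hw⟩ := hm v
    exact ⟨w, e ▸ hw⟩
  obtain ⟨M, hMq, hM⟩ := L.norm_iso n hnorm
  have hact : ∀ x ∈ L.Kt, n * x * n⁻¹ = g * x * g⁻¹ := fun x hx => by
    have h := mem_centralizer_iff.1 d.2 _ ((mem_normalizer_iff.1 hg x).1 hx)
    calc n * x * n⁻¹ = (d : G) * (g * x * g⁻¹) * (d : G)⁻¹ := by rw [hn]; group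
      _ = g * x * g⁻¹ := by rw [← h, mul_inv_cancel_right]
  have hinj : Function.Injective M.mulVec := fun u v e => L.jd.el_inj (by
    have h := (hM u).trans ((congrArg L.el e).trans (hM v).symm)
    exact mul_left_cancel (mul_right_cancel h))
  have hp : ∀ v : V4, v 1 = 0 → (M.mulVec v) 1 = 0 := fun v hv => L.el_mem_Kt.1 (by
    rw [← hM, hact _ (L.el_mem_Kt.2 hv)]
    exact (mem_normalizer_iff.1 hg _).1 (L.el_mem_Kt.2 hv))
  obtain ⟨b, hb, hbM⟩ := L.exists_into hM hinj (refl_comm hMq hp hinj)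
  refine ⟨_, M, hb, hbM, hMq, fun x hx => ?_⟩
  rw [show L.el (b • e1) * n * x * (L.el (b • e1) * n)⁻¹ = L.el (b • e1) * (n * x * n⁻¹) * (L.el (b • e1))⁻¹ by
    group, hact x hx, (L.K_commute (L.el_mem_K _) (L.mem_Kt.1 ((mem_normalizer_iff.1 hg x).1 hx)).1).eq,
    mul_inv_cancel_right]

/-- **The normaliser of the abelian part lies in it.** -/
theorem normKt_le_top {g : G} (ht : Commute g L.S.t) (hg : g ∈ normalizer (L.Kt : Set G)) :
    g ∈ topGroup L W c := by
  classical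
  obtain ⟨n, M, hnt, hnM, hMq, hact⟩ := exists_normJ q E ht hg
  have hinj : Function.Injective M.mulVec := fun u v e => L.jd.el_inj (by
    have h := (hnM u).trans ((congrArg L.el e).trans (hnM v).symm)
    exact mul_left_cancel (mul_right_cancel h))
  have hp : ∀ v : V4, v 1 = 0 → (M.mulVec v) 1 = 0 := fun v hv => L.el_commute_t.1 (by
    rw [← hnM]
    exact (hnt.mul_left (L.el_commute_t.2 hv)).mul_left hnt.inv_left)
  have hW : g ∈ normalizer (W : Set G) := q.mid.norm_plane g ht fun v hv =>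
    ⟨M.mulVec v, by rw [← hact _ (L.el_mem_Kt.2 hv), hnM]⟩
  refine mem_topGroup hW ht ?_
  rcases q.c_case with ⟨-, rfl⟩ | ⟨h243, hcJ, -⟩
  · exact norm_of_commute (Commute.one_right g)
  have h243' := L.card_K
  rw [h243] at h243'
  set c' := g * c * g⁻¹ with hc'
  have hc'K : c' ∈ L.Kt := (mem_normalizer_iff.1 hg c).1 q.c_mem
  have hcK : c ∈ L.K := (L.mem_Kt.1 q.c_mem).1
  -- the two translations commute with the conjugate
  have hfix : ∀ R : Matrix (Fin 4) (Fin 4) (ZMod 3), IsRot R →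
      (∀ v, R.mulVec (refl1 v) = refl1 (R.mulVec v)) →
      ∃ g0 : G, Commute g0 L.S.t ∧ (∀ v, g0 * L.el v * g0⁻¹ = L.el (R.mulVec v)) ∧ Commute g0 c ∧
        Commute g0 c' := by
    intro R hR hRr
    obtain ⟨r, hr⟩ := L.jd.rot R hR
    have hRi : Function.Injective R.mulVec := fun u v e => L.jd.el_inj (by
      have h := (hr u).trans ((congrArg L.el e).trans (hr v).symm)
      exact mul_left_cancel (mul_right_cancel h))
    obtain ⟨b, hb, hg0⟩ := L.exists_into hr hRi hRr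
    set g0 := L.el (b • e1) * r with hg0'
    have hs6 : IsS6 R := Or.inl hR
    refine ⟨g0, hb, hg0, E.comm_S6 g0 hb R hs6 hg0, ?_⟩
    -- the conjugate by `n` induces an isometry of the same sign
    have hconj : ∀ v, ∃ w, n⁻¹ * g0 * n * L.el v * (n⁻¹ * g0 * n)⁻¹ = L.el w := by
      intro v
      obtain ⟨u, hu⟩ := (Finite.surjective_of_injective hinj) (R.mulVec (M.mulVec v))
      refine ⟨u, ?_⟩
      rw [show n⁻¹ * g0 * n * L.el v * (n⁻¹ * g0 * n)⁻¹ = n⁻¹ * (g0 * (n * L.el v * n⁻¹) * g0⁻¹) * n by group,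
        hnM, hg0, ← hu, ← hnM]
      group
    obtain ⟨R', -, hR'⟩ := L.norm_iso _ hconj
    have hR'6 : IsS6 R' := by
      rcases L.sign h243 _ R' hR' with h | ⟨-, hinv⟩
      · exact h.1
      exfalso
      have hfix : ∀ x ∈ L.K, ∃ v, n⁻¹ * g0 * n * x * (n⁻¹ * g0 * n)⁻¹ = x * L.el v := by
        intro x hx
        obtain ⟨a, ha⟩ := L.exists_fix hx
        rcases L.sign h243 g0 R hg0 with ⟨-, h⟩ | ⟨h, -⟩
        · have hy : n * (x * L.el (a • e1)) * n⁻¹ ∈ L.K := by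
            rw [hact _ ha]; exact (L.mem_Kt.1 ((mem_normalizer_iff.1 hg _).1 ha)).1
          obtain ⟨w, hw⟩ := h _ hy
          obtain ⟨u, hu⟩ := (Finite.surjective_of_injective hinj) w
          obtain ⟨u', hu'⟩ := hconj (a • e1)
          refine ⟨a • e1 + u + -u', ?_⟩
          have e1' : n⁻¹ * g0 * n * (x * L.el (a • e1)) * (n⁻¹ * g0 * n)⁻¹ = x * L.el (a • e1) * L.el u := by
            rw [show n⁻¹ * g0 * n * (x * L.el (a • e1)) * (n⁻¹ * g0 * n)⁻¹ =
              n⁻¹ * (g0 * (n * (x * L.el (a • e1)) * n⁻¹) * g0⁻¹) * n by group, hw, ← hu, ← hnM]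
            group
          rw [L.jd.el_add, L.jd.el_add, L.el_neg, ← hu']
          calc n⁻¹ * g0 * n * x * (n⁻¹ * g0 * n)⁻¹ = n⁻¹ * g0 * n * (x * L.el (a • e1)) * (n⁻¹ * g0 * n)⁻¹ *
                (n⁻¹ * g0 * n * L.el (a • e1) * (n⁻¹ * g0 * n)⁻¹)⁻¹ := by group
            _ = _ := by rw [e1']; group
        · exact absurd hs6 h
      obtain ⟨v1, h1⟩ := hfix c hcK
      obtain ⟨v2, h2⟩ := hinv c hcK
      rw [h1] at h2
      refine hcJ (-(v2 - v1)) ?_
      have hcc : c * c = L.el (v2 - v1) := by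
        rw [sub_eq_add_neg, L.jd.el_add, L.el_neg, ← h2,
          (L.K_commute (L.K.mul_mem (L.K.mul_mem hcK (L.el_mem_K v1)) hcK) (L.K.inv_mem (L.el_mem_K v1))).eq,
          (L.K_commute hcK (L.el_mem_K v1)).eq, mul_assoc, inv_mul_cancel_left]
      rw [L.el_neg, ← hcc]
      refine eq_inv_of_mul_eq_one_left ?_
      rw [← mul_assoc, ← pow_three']
      exact L.K_exp c hcK
    have hct : Commute (n⁻¹ * g0 * n) L.S.t := (hnt.inv_left.mul_left hb).mul_left hnt
    have := (E.comm_S6 _ hct R' hR'6 hR').map (MulAut.conj n).toMonoidHom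
    rw [show (MulAut.conj n).toMonoidHom (n⁻¹ * g0 * n) = g0 by simp [mul_assoc],
      show (MulAut.conj n).toMonoidHom c = c' by rw [hc', ← hact c q.c_mem]; rfl] at this
    exact this
  -- coordinates of the conjugate
  have hcov : ∀ x ∈ L.K, ∃ (i : ℕ) (v : V4), x = c ^ i * L.el v := by
    let f : Fin 3 × V4 → ↥L.K := fun p =>
      ⟨c ^ (p.1 : ℕ) * L.el p.2, L.K.mul_mem (L.K.pow_mem hcK _) (L.el_mem_K _)⟩
    have hf : Function.Injective f := by
      rintro ⟨i, u⟩ ⟨j, v⟩ e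
      have e' : c ^ (i : ℕ) * L.el u = c ^ (j : ℕ) * L.el v := congrArg Subtype.val e
      by_cases hij : i = j
      · subst hij; rw [L.jd.el_inj (mul_left_cancel e')]
      exfalso
      have hc3 : c ^ 3 = 1 := L.K_exp c hcK
      have key : ∀ (a b : Fin 3) (x y : V4), (a : ℕ) < b → c ^ (a : ℕ) * L.el x = c ^ (b : ℕ) * L.el y → False := by
        intro a b x y hab h
        have h1 : c ^ ((b : ℕ) - a) = L.el (x - y) := by
          rw [sub_eq_add_neg, L.jd.el_add, L.el_neg, eq_mul_inv_iff_mul_eq]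
          refine mul_left_cancel (a := c ^ (a : ℕ)) ?_
          rw [← mul_assoc, ← pow_add, Nat.add_sub_cancel' hab.le, h]
        have hb := b.2
        rcases (show (b : ℕ) - a = 1 ∨ (b : ℕ) - a = 2 by omega) with e | e <;> rw [e] at h1
        · exact hcJ _ (by rwa [pow_one] at h1)
        · refine hcJ (-(x - y)) ?_
          rw [L.el_neg, ← h1]
          exact eq_inv_of_mul_eq_one_left (by rw [← pow_succ', hc3])
      rcases lt_or_gt_of_ne (fun h => hij (Fin.ext h) : (i : ℕ) ≠ j) with h | h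
      · exact key i j u v h e'
      · exact key j i v u h e'.symm
    have hs : Function.Surjective f := by
      haveI : Fintype ↥L.K := Fintype.ofFinite _
      refine ((Fintype.bijective_iff_injective_and_card f).2 ⟨hf, ?_⟩).2
      rw [← Nat.card_eq_fintype_card (α := ↥L.K), h243]
      rfl
    intro x hx
    obtain ⟨⟨i, v⟩, e⟩ := hs ⟨x, hx⟩
    exact ⟨i, v, (congrArg Subtype.val e).symm⟩
  obtain ⟨i, u, hu⟩ := hcov c' (L.mem_Kt.1 hc'K).1
  have hu1 : u 1 = 0 := by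
    refine L.el_mem_Kt.1 ?_
    rw [show L.el u = (c ^ i)⁻¹ * c' by rw [hu, inv_mul_cancel_left]]
    exact L.Kt.mul_mem (L.Kt.inv_mem (L.Kt.pow_mem q.c_mem i)) hc'K
  have hfixu : ∀ R : Matrix (Fin 4) (Fin 4) (ZMod 3), IsRot R →
      (∀ v, R.mulVec (refl1 v) = refl1 (R.mulVec v)) → R.mulVec u = u := by
    intro R hR hRr
    obtain ⟨g0, -, hg0, hgc, hgc'⟩ := hfix R hR hRr
    refine L.jd.el_inj ?_
    rw [← hg0]
    have := (hgc.pow_right i).inv_right.mul_right hgc'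
    rw [show (c ^ i)⁻¹ * c' = L.el u by rw [hu, inv_mul_cancel_left]] at this
    rw [this.eq, mul_inv_cancel_right]
  have hu0 := fix_lines u hu1 (hfixu _ (isRot_tr 0 1) fun v => (tr_plane v).1)
    (hfixu _ (isRot_tr3 0 1) fun v => (tr_plane v).2)
  rw [hu0, L.el_zero, mul_one] at hu
  have h3 : c ≠ 1 := fun e => hcJ 0 (by rw [L.el_zero, e])
  refine mem_normalizer_iff_map_conj_eq.2 (eq_of_le_of_card_ge ?_
    (card_map_of_injective (MulAut.conj g).injective).ge)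
  rw [MonoidHom.map_zpowers, zpowers_le]
  show c' ∈ zpowers c
  rw [hu]
  exact pow_mem (mem_zpowers c) i

/-- The order of the subgroup. -/
theorem card_top : ∃ d, Nat.card (topGroup L W c) = 512 * (orderOf c * d) ∧ d ∣ 51840 := by
  classical
  haveI : Fact (Nat.Prime 3) := ⟨Nat.prime_three⟩
  obtain ⟨φ, hker, -⟩ := q.quot (ZMod 3) (ZMod.card 3)
  refine ⟨Nat.card φ.range, ?_, U62Aut.card_autX ▸ Subgroup.card_subgroup_dvd_card _⟩
  have hcN : zpowers c ≤ normalizer (W : Set G) := zpowers_le.2 (q.mid.norm_Kt q.c_mem)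
  have hle : W ⊔ zpowers c ≤ topGroup L W c :=
    sup_le (W_le_top q) (zpowers_le.2 (Kt_le_top q q.c_mem))
  have hk : φ.ker = (W ⊔ zpowers c).subgroupOf (topGroup L W c) := by
    ext x; rw [MonoidHom.mem_ker, mem_subgroupOf]; exact hker x
  rw [← φ.ker.card_mul_index, Subgroup.index_ker, hk, Nat.card_congr (subgroupOfEquivOfLe hle).toEquiv]
  have h1 := CLarge.card_of_coe_sup_eq (coe_mul_of_right_le_normalizer_left W (zpowers c) hcN)
  have h2 : Nat.card ↥(W ⊓ zpowers c) = 1 := by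
    have hco : (512 : ℕ).Coprime (orderOf c) := by
      refine Nat.Coprime.coprime_dvd_right (orderOf_dvd_of_pow_eq_one (L.K_exp c (L.mem_Kt.1 q.c_mem).1)) ?_
      norm_num
    refine Nat.eq_one_of_dvd_coprimes hco ?_ ?_
    · exact q.mid.card ▸ Subgroup.card_dvd_of_le inf_le_left
    · exact Nat.card_zpowers c ▸ Subgroup.card_dvd_of_le inf_le_right
  rw [h2, mul_one, q.mid.card, Nat.card_zpowers] at h1
  rw [h1, mul_assoc]

/-- No larger 3-subgroup lies in it. -/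
theorem card_le_T3 {R : Subgroup G} (hR : IsPGroup 3 R) (hRT : R ≤ topGroup L W c) :
    Nat.card R ≤ Nat.card L.T3 := by
  haveI : Fact (Nat.Prime 3) := ⟨Nat.prime_three⟩
  obtain ⟨n, hn⟩ := IsPGroup.iff_card.1 hR
  obtain ⟨d, hd, hdd⟩ := card_top q E
  have h : 3 ^ n ∣ 512 * (orderOf c * d) := hd ▸ hn ▸ Subgroup.card_dvd_of_le hRT
  have h' : 3 ^ n ∣ orderOf c * d := (Nat.Coprime.pow_left n (by norm_num)).dvd_of_dvd_mul_left h
  have hK := L.card_K
  rw [hn, L.card_T3]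
  rcases q.c_case with ⟨h81, rfl⟩ | ⟨h243, -⟩
  · rw [h81] at hK
    rw [orderOf_one, one_mul] at h'
    have h2 : 3 ^ n ∣ 81 * 640 := h'.trans hdd
    have := Nat.le_of_dvd (by norm_num) ((Nat.Coprime.pow_left n (by norm_num)).dvd_of_dvd_mul_right h2)
    omega
  · rw [h243] at hK
    have h2 : 3 ^ n ∣ 243 * 640 := h'.trans (by
      rw [show 243 * 640 = 3 * 51840 by norm_num]
      exact Nat.mul_dvd_mul (orderOf_dvd_of_pow_eq_one (L.K_exp c (L.mem_Kt.1 q.c_mem).1)) hdd)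
    have := Nat.le_of_dvd (by norm_num) ((Nat.Coprime.pow_left n (by norm_num)).dvd_of_dvd_mul_right h2)
    omega

/-- A 3-subgroup of the centraliser of `t` containing the Sylow subgroup is equal to it. -/
theorem T3_max {R : Subgroup G} (hR : IsPGroup 3 R) (hT : L.T3 ≤ R) (hRt : R ≤ centralizer {L.S.t}) :
    R = L.T3 := by
  classical
  haveI : Fact (Nat.Prime 3) := ⟨Nat.prime_three⟩
  haveI := hR.isNilpotent
  by_contra hne
  have hN' : L.T3.subgroupOf R ≠ ⊤ := fun e => hne (le_antisymm (fun x hx =>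
    mem_subgroupOf.1 (e ▸ mem_top (⟨x, hx⟩ : R))) hT)
  obtain ⟨u, hu, huT⟩ := SetLike.exists_of_lt
    (Group.normalizerCondition_of_isNilpotent _ (lt_top_iff_ne_top.2 hN'))
  have hmap : L.T3.map (MulAut.conj (u : G)).toMonoidHom ≤ L.T3 := by
    rintro _ ⟨x, hx, rfl⟩
    exact mem_subgroupOf.1 ((mem_normalizer_iff.1 hu ⟨x, hT hx⟩).1 (mem_subgroupOf.2 hx))
  have huK : (u : G) ∈ normalizer (L.Kt : Set G) := by
    rw [mem_normalizer_iff_map_conj_eq]
    refine L.Kt_unique ((Subgroup.map_mono L.Kt_le_T3).trans hmap) ?_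
      (card_map_of_injective (MulAut.conj (u : G)).injective)
    rintro _ ⟨a, ha, rfl⟩ _ ⟨b, hb, rfl⟩
    exact (L.Kt_commute ha hb).map _
  have hu' := normKt_le_top q E (mem_centralizer_singleton_iff.1 (hRt u.2)) huK
  have hle : L.T3 ⊔ zpowers (u : G) ≤ R := sup_le hT (zpowers_le.2 u.2)
  have hlt : Nat.card L.T3 < Nat.card ↥(L.T3 ⊔ zpowers (u : G)) := by
    refine lt_of_le_of_ne (Nat.le_of_dvd Nat.card_pos (Subgroup.card_dvd_of_le le_sup_left)) fun e =>
      huT (mem_subgroupOf.2 ?_)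
    rw [eq_of_le_of_card_ge le_sup_left e.ge]
    exact mem_sup_right (mem_zpowers _)
  exact absurd (card_le_T3 q E (hR.to_le hle) (sup_le (T3_le_top q E) (zpowers_le.2 hu'))) (not_le.2 hlt)

/-- In a 3-subgroup of the centraliser of `t` the abelian part is the only abelian subgroup of its order. -/
theorem unique_abelian {R : Subgroup G} (hR : IsPGroup 3 R) (hKR : L.Kt ≤ R)
    (hRt : R ≤ centralizer {L.S.t}) {A : Subgroup G} (hA : A ≤ R) (hc : ∀ a ∈ A, ∀ b ∈ A, Commute a b)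
    (hcard : Nat.card A = Nat.card L.Kt) : A = L.Kt := by
  classical
  haveI : Fact (Nat.Prime 3) := ⟨Nat.prime_three⟩
  set H := centralizer ({L.S.t} : Set G) with hH
  obtain ⟨S0, hS0⟩ := (L.T3_pGroup.comap_subtype (K := H)).exists_le_sylow
  have hT3H : L.T3 ≤ H := (T3_le_top q E).trans (topGroup_le_cent q.mid)
  have hS0eq : (S0 : Subgroup ↥H).map H.subtype = L.T3 := T3_max q E (S0.2.map _)
    (fun x hx => ⟨⟨x, hT3H hx⟩, hS0 (mem_subgroupOf.2 hx), rfl⟩) (map_subtype_le _)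
  obtain ⟨S1, hS1⟩ := (hR.comap_subtype (K := H)).exists_le_sylow
  obtain ⟨d, hd⟩ := MulAction.exists_smul_eq ↥H S1 S0
  have hto : ∀ x ∈ R, (d : G) * x * (d : G)⁻¹ ∈ L.T3 := fun x hx => by
    rw [← hS0eq]
    exact ⟨d * ⟨x, hRt hx⟩ * d⁻¹, by rw [← hd]; exact ⟨_, hS1 (mem_subgroupOf.2 hx), rfl⟩, rfl⟩
  have key : ∀ B : Subgroup G, B ≤ R → (∀ a ∈ B, ∀ b ∈ B, Commute a b) → Nat.card B = Nat.card L.Kt →
      B.map (MulAut.conj (d : G)).toMonoidHom = L.Kt := by
    intro B hB hBc hBcard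
    refine L.Kt_unique ?_ ?_ ((card_map_of_injective (MulAut.conj (d : G)).injective).trans hBcard)
    · rintro _ ⟨x, hx, rfl⟩; exact hto x (hB hx)
    · rintro _ ⟨a, ha, rfl⟩ _ ⟨b, hb, rfl⟩
      exact (hBc a ha b hb).map _
  exact map_injective (MulAut.conj (d : G)).injective
    ((key A hA hc hcard).trans (key L.Kt hKR (fun a ha b hb => L.Kt_commute ha hb) rfl).symm)

/-- **Fusion in the abelian part is by its normaliser.** -/
theorem fusion {X : Set G} (hX : X ⊆ L.Kt) {g : G} (hg : Commute g L.S.t)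
    (hgX : ∀ x ∈ X, g * x * g⁻¹ ∈ L.Kt) :
    ∃ n : G, Commute n L.S.t ∧ n ∈ normalizer (L.Kt : Set G) ∧ ∀ x ∈ X, n * x * n⁻¹ = g * x * g⁻¹ := by
  classical
  haveI : Fact (Nat.Prime 3) := ⟨Nat.prime_three⟩
  set Y := centralizer ((fun x => g * x * g⁻¹) '' X) ⊓ centralizer ({L.S.t} : Set G) with hY
  have hKY : L.Kt ≤ Y := fun y hy => mem_inf.2 ⟨mem_centralizer_iff.2 (by
    rintro _ ⟨x, hx, rfl⟩
    exact (L.Kt_commute (hgX x hx) hy).eq), (mem_inf.1 hy).2⟩
  have hgY : L.Kt.map (MulAut.conj g).toMonoidHom ≤ Y := by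
    rintro _ ⟨y, hy, rfl⟩
    refine mem_inf.2 ⟨mem_centralizer_iff.2 ?_, mem_centralizer_singleton_iff.2 ?_⟩
    · rintro _ ⟨x, hx, rfl⟩
      exact ((L.Kt_commute (hX hx) hy).map (MulAut.conj g).toMonoidHom).eq
    · exact ((hg.mul_left (L.mem_Kt.1 hy).2).mul_left hg.inv_left).eq
  obtain ⟨R, hR⟩ := (L.Kt_pGroup.comap_subtype (K := Y)).exists_le_sylow
  obtain ⟨R', hR'⟩ := ((L.Kt_pGroup.map (MulAut.conj g).toMonoidHom).comap_subtype (K := Y)).exists_le_sylow
  obtain ⟨d, hd⟩ := MulAction.exists_smul_eq ↥Y R' R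
  have hmap : L.Kt.map (MulAut.conj ((d : G) * g)).toMonoidHom = L.Kt := by
    refine unique_abelian q E (R.2.map Y.subtype) (fun x hx => ⟨⟨x, hKY hx⟩, hR (mem_subgroupOf.2 hx), rfl⟩)
      ((map_subtype_le _).trans inf_le_right) ?_ ?_ (card_map_of_injective (MulAut.conj ((d : G) * g)).injective)
    · rintro _ ⟨x, hx, rfl⟩
      refine ⟨d * ⟨_, hgY ⟨x, hx, rfl⟩⟩ * d⁻¹,
        by rw [← hd]; exact ⟨_, hR' (mem_subgroupOf.2 ⟨x, hx, rfl⟩), rfl⟩, ?_⟩
      simp [mul_assoc]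
    · rintro _ ⟨a, ha, rfl⟩ _ ⟨b, hb, rfl⟩
      exact (L.Kt_commute ha hb).map _
  refine ⟨(d : G) * g, (show Commute (d : G) L.S.t from
    mem_centralizer_singleton_iff.1 (mem_inf.1 d.2).2).mul_left hg,
    mem_normalizer_iff_map_conj_eq.2 hmap, fun x hx => ?_⟩
  have h := mem_centralizer_iff.1 (mem_inf.1 d.2).1 _ ⟨x, hx, rfl⟩
  calc (d : G) * g * x * ((d : G) * g)⁻¹ = (d : G) * (g * x * g⁻¹) * (d : G)⁻¹ := by group
    _ = g * x * g⁻¹ := by rw [← h, mul_inv_cancel_right]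

end Close

end Cfsg.Agent.U62Three
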