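import Cfsg.Agent.Lib.U62Three.Close.Vectors

/-!
The group of the isometries of the 256 vectors has order 348364800: each stabiliser in a chain along the basis is
transitive on the possible images of the next basis vector, by reflections and one exchange of two coordinates. So
a subgroup of it over the linear group with scalars whose index is one modulo 81 is that subgroup.
-/

set_option autoImplicit false
set_option maxRecDepth 20000

namespace Cfsg.Agent.U62Three.Close

open Equiv
open Cfsg.Agent.PermCert Cfsg.Agent.U62Rec.Model Cfsg.Agent.U62Aut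

/-- A possible image of a basis vector. -/
def candB (k x : ℕ) : Bool :=
  Nat.beq (q0 x) (q0 (2 ^ k)) && allBelow (fun i => Nat.beq (polC x (2 ^ i)) (polC (2 ^ k) (2 ^ i))) k

/-- At most two reflections lead to the basis vector. -/
def linkB (k x : ℕ) : Bool := Nat.beq (polC x (2 ^ k)) 1 ||
  (List.range 256).any fun y => candB k y && Nat.beq (polC x y) 1 && Nat.beq (polC y (2 ^ k)) 1

/-- The exchange of the last two coordinates. -/
def swapC (v : ℕ) : ℕ := linC [1, 2, 4, 8, 64, 128, 16, 32] v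

/-- The basis vector is reached. -/
def reachB (k x : ℕ) : Bool :=
  Nat.beq x (2 ^ k) || linkB k x || (Nat.beq k 4 && (Nat.beq (swapC x) (2 ^ k) || linkB k (swapC x)))

theorem stages : allBelow (fun k => allBelow (fun x => !candB k x || reachB k x) 256) 8 = true := by
  decide +kernel

theorem sizes : ∀ k < 8, (Finset.univ.filter fun x : Vec => candB k x = true).card =
    [120, 56, 36, 20, 6, 2, 3, 2].getD k 0 := by decide +kernel

theorem swap_ok : ∀ v < 256, swapC v < 256 ∧ swapC (swapC v) = v ∧ q0 (swapC v) = q0 v := by decide +kernel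

theorem swap_basis : ∀ i < 4, swapC (2 ^ i) = 2 ^ i := by decide +kernel

/-- The isometries. -/
def Ogrp : Subgroup (Perm Vec) where
  carrier := {σ | Isom σ}
  one_mem' := isom_one
  mul_mem' := fun h h' => isom_mul h h'
  inv_mem' := fun h => isom_inv h

/-- A basis vector. -/
def bV (i : ℕ) : Vec := ⟨2 ^ i % 256, Nat.mod_lt _ (by norm_num)⟩

theorem bV_val {i : ℕ} (h : i < 8) : ((bV i : Vec) : ℕ) = 2 ^ i :=
  Nat.mod_eq_of_lt (Nat.pow_lt_pow_right (m := i) (n := 8) (by norm_num) h)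

/-- The isometries fixing the first basis vectors. -/
def Fix (k : ℕ) : Subgroup (Perm Vec) where
  carrier := {σ | Isom σ ∧ ∀ i, i < k → σ (bV i) = bV i}
  one_mem' := ⟨isom_one, fun _ _ => rfl⟩
  mul_mem' := fun {a b} h h' => ⟨isom_mul h.1 h'.1, fun i hi => by
    rw [Perm.mul_apply, h'.2 i hi, h.2 i hi]⟩
  inv_mem' := fun {a} h => ⟨isom_inv h.1, fun i hi => by
    conv_lhs => rw [← h.2 i hi]
    exact perm_inv_self a _⟩

theorem isom_pol {σ : Perm Vec} (h : Isom σ) (a b : Vec) : polC (σ a) (σ b) = polC a b := by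
  show Nat.xor (q0 (xorV (σ a) (σ b))) (Nat.xor (q0 (σ a)) (q0 (σ b))) = _
  rw [← h.1, h.2, h.2, h.2]
  rfl

theorem cand_spec {k : ℕ} {x : Vec} (h : candB k x = true) :
    q0 x = q0 (2 ^ k) ∧ ∀ i, i < k → polC x (2 ^ i) = polC (2 ^ k) (2 ^ i) := by
  rw [candB, Bool.and_eq_true, Nat.beq_eq] at h
  exact ⟨h.1, fun i hi => Nat.eq_of_beq_eq_true (allBelow_spec _ _ h.2 i hi)⟩

theorem cand_intro {k : ℕ} {x : Vec} (h1 : q0 x = q0 (2 ^ k))
    (h2 : ∀ i, i < k → polC x (2 ^ i) = polC (2 ^ k) (2 ^ i)) : candB k x = true := by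
  rw [candB, Bool.and_eq_true, Nat.beq_eq]
  exact ⟨h1, allBelow_intro fun i hi => by rw [Nat.beq_eq]; exact h2 i hi⟩

theorem cand_self {k : ℕ} (hk : k < 8) : candB k (bV k) = true :=
  cand_intro (by rw [bV_val hk]) fun i _ => by rw [bV_val hk]

theorem cand_apply {k : ℕ} (hk : k ≤ 8) {σ : Perm Vec} (hσ : σ ∈ Fix k) {x : Vec} (h : candB k x = true) :
    candB k (σ x) = true := by
  obtain ⟨h1, h2⟩ := cand_spec h
  refine cand_intro ((hσ.1.2 x).trans h1) fun i hi => ?_
  have e := isom_pol hσ.1 x (bV i)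
  rw [hσ.2 i hi, bV_val (by omega)] at e
  exact e.trans (h2 i hi)

theorem pol_two (a b : Vec) : polC a b = 0 ∨ polC a b = 1 := by
  have h : ∀ u v w : ℕ, (u = 0 ∨ u = 1) → (v = 0 ∨ v = 1) → (w = 0 ∨ w = 1) →
      u ^^^ (v ^^^ w) = 0 ∨ u ^^^ (v ^^^ w) = 1 := by
    rintro u v w (rfl | rfl) (rfl | rfl) (rfl | rfl) <;> decide
  exact h _ _ _ (q0_two _ (xorV a b).2) (q0_two _ a.2) (q0_two _ b.2)

theorem pol_self (a : ℕ) : polC a a = 0 := by
  rw [polC_eq, Nat.xor_self, Nat.xor_self, Nat.xor_zero]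
  decide

/-- The map of a reflection. -/
def reflV (a v : Vec) : Vec := if polC v a = 1 then xorV v a else v

theorem reflV_reflV (a v : Vec) : reflV a (reflV a v) = v := by
  unfold reflV
  by_cases h : polC v a = 1
  · rw [if_pos h, if_pos (show polC (xorV v a) a = 1 by
      show polC ((v : ℕ) ^^^ a) a = 1
      rw [polC_add, pol_self, h]; rfl)]
    exact Fin.ext (show ((v : ℕ) ^^^ a) ^^^ a = v by rw [Nat.xor_assoc, Nat.xor_self, Nat.xor_zero])
  · rw [if_neg h, if_neg h]

/-- The reflection in a vector of norm one. -/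
def reflP (a : Vec) : Perm Vec := ⟨reflV a, reflV a, reflV_reflV a, reflV_reflV a⟩

theorem isom_refl {a : Vec} (ha : q0 a = 1) : Isom (reflP a) := by
  refine ⟨fun u v => ?_, fun v => ?_⟩
  · show reflV a (xorV u v) = xorV (reflV a u) (reflV a v)
    have e : polC (xorV u v) a = polC u a ^^^ polC v a := polC_add _ _ _
    unfold reflV
    rcases pol_two u a with hu | hu <;> rcases pol_two v a with hv | hv <;>
      simp only [e, hu, hv, Nat.xor_self, Nat.xor_zero, Nat.zero_xor, zero_ne_one, if_true, if_false] <;>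
      refine Fin.ext ?_
    · show ((u : ℕ) ^^^ v) ^^^ a = (u : ℕ) ^^^ ((v : ℕ) ^^^ a)
      rw [Nat.xor_assoc]
    · show ((u : ℕ) ^^^ v) ^^^ a = ((u : ℕ) ^^^ a) ^^^ v
      ac_rfl
    · show (u : ℕ) ^^^ v = ((u : ℕ) ^^^ a) ^^^ ((v : ℕ) ^^^ a)
      calc (u : ℕ) ^^^ v = (u : ℕ) ^^^ v ^^^ ((a : ℕ) ^^^ a) := by rw [Nat.xor_self, Nat.xor_zero]
        _ = _ := by ac_rfl
  · show q0 (reflV a v : Vec) = q0 v
    unfold reflV
    split_ifs with h
    · show q0 ((v : ℕ) ^^^ a) = q0 v
      rw [polC_eq, ha] at h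
      rcases q0_two _ v.2 with e | e <;> rcases q0_two _ (xorV v a).2 with e' | e' <;>
        change q0 ((v : ℕ) ^^^ a) = _ at e' <;> rw [e, e'] at h <;>
          first | exact absurd h (by decide) | rw [e, e']
    · rfl

theorem refl_step {k : ℕ} (hk : k ≤ 8) {x y : Vec} (hx : candB k x = true) (hy : candB k y = true)
    (h : polC x y = 1) : ∃ σ ∈ Fix k, σ x = y := by
  obtain ⟨x1, x2⟩ := cand_spec hx
  obtain ⟨y1, y2⟩ := cand_spec hy
  refine ⟨reflP (xorV x y), ⟨isom_refl ?_, fun i hi => ?_⟩, ?_⟩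
  · show q0 ((x : ℕ) ^^^ y) = 1
    rw [polC_eq, x1, y1, Nat.xor_self, Nat.xor_zero] at h
    exact h
  · show reflV (xorV x y) (bV i) = bV i
    have e : polC (bV i) (xorV x y) = 0 := by
      rw [polC_symm]
      show polC ((x : ℕ) ^^^ y) (bV i) = 0
      rw [polC_add, bV_val (by omega), x2 i hi, y2 i hi, Nat.xor_self]
    rw [reflV, if_neg (by rw [e]; decide)]
  · show reflV (xorV x y) x = y
    have e : polC x (xorV x y) = 1 := by
      rw [polC_symm]
      show polC ((x : ℕ) ^^^ y) x = 1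
      rw [polC_add, pol_self, Nat.zero_xor, polC_symm, h]
    rw [reflV, if_pos e]
    exact Fin.ext (show (x : ℕ) ^^^ ((x : ℕ) ^^^ y) = y by rw [← Nat.xor_assoc, Nat.xor_self, Nat.zero_xor])

theorem link_spec {k : ℕ} (hk : k < 8) {x : Vec} (hx : candB k x = true)
    (h : Nat.beq x (2 ^ k) = true ∨ linkB k x = true) : ∃ σ ∈ Fix k, σ x = bV k := by
  rcases h with h | h
  · exact ⟨1, one_mem _, Fin.ext (by rw [Perm.one_apply, bV_val hk]; exact Nat.eq_of_beq_eq_true h)⟩
  simp only [linkB, Bool.or_eq_true, Nat.beq_eq, List.any_eq_true, List.mem_range, Bool.and_eq_true] at h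
  rcases h with h | ⟨y, hy, ⟨⟨hyc, hxy⟩, hye⟩⟩
  · exact refl_step hk.le hx (cand_self hk) (by rw [bV_val hk]; exact h)
  · obtain ⟨σ, hσ, e⟩ := refl_step hk.le hx (y := ⟨y, hy⟩) hyc hxy
    obtain ⟨τ, hτ, e'⟩ := refl_step hk.le (x := ⟨y, hy⟩) hyc (cand_self hk) (by rw [bV_val hk]; exact hye)
    exact ⟨τ * σ, mul_mem hτ hσ, by rw [Perm.mul_apply, e, e']⟩

/-- The exchange of two coordinates as a permutation. -/
def swapP : Perm Vec where
  toFun v := ⟨swapC v, (swap_ok v v.2).1⟩
  invFun v := ⟨swapC v, (swap_ok v v.2).1⟩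
  left_inv v := Fin.ext (swap_ok v v.2).2.1
  right_inv v := Fin.ext (swap_ok v v.2).2.1

theorem swapP_fix : swapP ∈ Fix 4 :=
  ⟨⟨fun _ _ => Fin.ext (linC_xor _ _ _), fun a => (swap_ok a a.2).2.2⟩, fun i hi => Fin.ext (by
    show swapC (bV i : Vec) = (bV i : Vec)
    rw [bV_val (by omega)]
    exact swap_basis i hi)⟩

theorem exists_reach {k : ℕ} (hk : k < 8) {x : Vec} (hx : candB k x = true) :
    ∃ σ ∈ Fix k, σ x = bV k := by
  have h := allBelow_spec _ _ (allBelow_spec _ _ stages k hk) x x.2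
  rw [hx, Bool.not_true, Bool.false_or] at h
  simp only [reachB, Bool.or_eq_true, Bool.and_eq_true] at h
  rcases h with h | ⟨h4, h⟩
  · exact link_spec hk hx h
  · obtain rfl : k = 4 := Nat.eq_of_beq_eq_true h4
    obtain ⟨σ, hσ, e⟩ := link_spec hk (cand_apply hk.le swapP_fix hx) h
    exact ⟨σ * swapP, mul_mem hσ swapP_fix, by rw [Perm.mul_apply, e]⟩

theorem card_step {k : ℕ} (hk : k < 8) :
    Nat.card (Fix k) = [120, 56, 36, 20, 6, 2, 3, 2].getD k 0 * Nat.card (Fix (k + 1)) := by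
  classical
  have hst : MulAction.stabilizer (Fix k) (bV k) = (Fix (k + 1)).subgroupOf (Fix k) := by
    ext σ
    rw [MulAction.mem_stabilizer_iff, Subgroup.mem_subgroupOf]
    constructor
    · intro h
      refine ⟨σ.2.1, fun i hi => ?_⟩
      rcases Nat.lt_succ_iff_lt_or_eq.1 hi with hi | rfl
      · exact σ.2.2 i hi
      · exact h
    · exact fun h => h.2 k (Nat.lt_succ_self k)
  have hle : Fix (k + 1) ≤ Fix k := fun σ h => ⟨h.1, fun i hi => h.2 i (hi.trans (Nat.lt_succ_self k))⟩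
  have horb : MulAction.orbit (Fix k) (bV k) = {x : Vec | candB k x = true} := by
    ext x
    constructor
    · rintro ⟨σ, rfl⟩
      exact cand_apply hk.le σ.2 (cand_self hk)
    · intro hx
      obtain ⟨σ, hσ, e⟩ := exists_reach hk hx
      refine ⟨⟨σ⁻¹, inv_mem hσ⟩, ?_⟩
      show σ⁻¹ (bV k) = x
      rw [← e, perm_inv_self]
  have h := (MulAction.stabilizer (Fix k) (bV k)).card_mul_index
  rw [MulAction.index_stabilizer, horb, hst, Nat.card_congr (Subgroup.subgroupOfEquivOfLe hle).toEquiv,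
    Set.ncard_eq_toFinset_card', Set.toFinset_setOf, sizes k hk] at h
  rw [← h, mul_comm]

theorem card_fix_eight : Nat.card (Fix 8) = 1 := by
  have hbot : Fix 8 = ⊥ := by
    rw [Subgroup.eq_bot_iff_forall]
    intro σ hσ
    refine Additive.ext_basis hσ.1.1 (fun _ _ => rfl) (fun v => if h : v < 256 then (σ ⟨v, h⟩ : ℕ) else 0) id
      (fun v => by simp [v.2]) (fun _ => rfl) ?_
    refine allBelow_intro fun j hj => ?_
    rw [Nat.beq_eq]
    show (if h : 2 ^ j < 256 then (σ ⟨2 ^ j, h⟩ : ℕ) else 0) = 2 ^ j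
    rw [dif_pos (show 2 ^ j < 256 from Nat.pow_lt_pow_right (m := j) (n := 8) (by norm_num) hj)]
    have e := hσ.2 j hj
    have e2 : (bV j : Vec) = ⟨2 ^ j, Nat.pow_lt_pow_right (m := j) (n := 8) (by norm_num) hj⟩ :=
      Fin.ext (bV_val hj)
    rw [e2] at e
    exact congrArg Fin.val e
  rw [hbot, Subgroup.card_bot]

/-- The order of the group of the isometries. -/
theorem card_Ogrp : Nat.card Ogrp = 348364800 := by
  have e : Ogrp = Fix 0 := by
    ext σ
    exact ⟨fun h => ⟨h, fun i hi => absurd hi (Nat.not_lt_zero i)⟩, fun h => h.1⟩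
  rw [e, card_step (k := 0) (by norm_num), card_step (k := 1) (by norm_num), card_step (k := 2) (by norm_num),
    card_step (k := 3) (by norm_num), card_step (k := 4) (by norm_num), card_step (k := 5) (by norm_num),
    card_step (k := 6) (by norm_num), card_step (k := 7) (by norm_num), card_fix_eight]
  rfl

/-- A group of isometries over a subgroup of order 77760 or 155520 with index one modulo 81 is that subgroup. -/
theorem eq_of_index {T S : Subgroup (Perm Vec)} (hT : ∀ σ ∈ T, Isom σ) (hS : S ≤ T)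
    (hc : Nat.card S = 77760 ∨ Nat.card S = 155520) (hn : S.relIndex T % 81 = 1) : T = S := by
  have h1 := (S.subgroupOf T).card_mul_index
  rw [Nat.card_congr (Subgroup.subgroupOfEquivOfLe hS).toEquiv] at h1
  have hd : Nat.card S * S.relIndex T ∣ 348364800 := by
    rw [← card_Ogrp, show Nat.card S * S.relIndex T = Nat.card T from h1]
    exact Subgroup.card_dvd_of_le fun σ h => hT σ h
  have key : ∀ n < 4481, 4480 % n = 0 → n % 81 = 1 → n = 1 := by decide +kernel
  have h4 : S.relIndex T ∣ 4480 := by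
    rcases hc with h | h <;> rw [h] at hd
    · exact Nat.dvd_of_mul_dvd_mul_left (by norm_num) (show 77760 * S.relIndex T ∣ 77760 * 4480 from hd)
    · exact (Nat.dvd_of_mul_dvd_mul_left (by norm_num)
        (show 155520 * S.relIndex T ∣ 155520 * 2240 from hd)).trans (by norm_num)
  have hone : S.relIndex T = 1 := key _ (Nat.lt_succ_of_le (Nat.le_of_dvd (by norm_num) h4))
    (Nat.mod_eq_zero_of_dvd h4) hn
  exact le_antisymm (Subgroup.relIndex_eq_one.1 hone) hS

end Cfsg.Agent.U62Three.Close
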