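import Cfsg.Agent.Lib.U62Three.Close.Main

/-!
The closing step in the group itself: the centraliser of an involution `t` normalises a subgroup `W` containing `t`,
whose normaliser there acts on `W` modulo `t` through the semilinear group, given the control of the elements of
order three.
-/

set_option autoImplicit false
set_option linter.style.haveILetI false

namespace Cfsg.Agent.U62Three.Close

open Subgroup
open Cfsg.Agent.U62Rec.Model Cfsg.Agent.U62Aut

variable {G : Type*} [Group G]

/-- The normaliser of `W` in the centraliser of `t`. -/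
def MT (t : G) (W : Subgroup G) : Subgroup G := normalizer (W : Set G) ⊓ centralizer ({t} : Set G)

/-- The coordinates on `W` modulo `t`. -/
structure Upper (t : G) (W : Subgroup G) where
  sq : t * t = 1
  mem : t ∈ W
  le : W ≤ centralizer ({t} : Set G)
  /-- the vector of an element of `W` -/
  nv : G → Vec
  nv_mul : ∀ a ∈ W, ∀ b ∈ W, nv (a * b) = xorV (nv a) (nv b)
  nv_surj : ∀ v, ∃ a ∈ W, nv a = v
  nv_eq : ∀ a ∈ W, ∀ b ∈ W, nv a = nv b ↔ (b = a ∨ b = a * t)
  /-- the map of an element of the normaliser -/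
  lin : G → Equiv.Perm Vec
  lin_mem : ∀ g ∈ MT t W, lin g ∈ Agrp
  lin_mul : ∀ g ∈ MT t W, ∀ h ∈ MT t W, lin (g * h) = lin g * lin h
  lin_ker : ∀ g ∈ MT t W, lin g = 1 ↔ g ∈ W
  lin_conj : ∀ g ∈ MT t W, ∀ a ∈ W, nv (g * a * g⁻¹) = lin g (nv a)
  lin_surj : ∀ σ ∈ Lgrp, ∃ g ∈ MT t W, lin g = σ
  /-- the control by the elements of order three -/
  three : ∀ x ∈ MT t W, orderOf x = 3 → (∃ a ∈ W, a ≠ 1 ∧ a ≠ t ∧ Commute x a) →
    ∀ g ∈ centralizer ({t} : Set G), g * x * g⁻¹ ∈ MT t W → g ∈ MT t W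

variable {t : G} {W : Subgroup G}

theorem Upper.t_mem (U : Upper t W) : t ∈ centralizer ({t} : Set G) := U.le U.mem

theorem Upper.le_MT (U : Upper t W) : W ≤ MT t W := le_inf Subgroup.le_normalizer U.le

theorem Upper.nv_t (U : Upper t W) {a : G} (ha : a ∈ W) : U.nv (a * t) = U.nv a :=
  ((U.nv_eq a ha _ (W.mul_mem ha U.mem)).2 (Or.inr rfl)).symm

/-- **The centraliser of `t` normalises `W`.** -/
theorem Upper.cent_le [Finite G] (U : Upper t W) :
    centralizer ({t} : Set G) ≤ normalizer (W : Set G) := by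
  classical
  set C := centralizer ({t} : Set G) with hC
  set N := zpowers (⟨t, U.t_mem⟩ : ↥C) with hN
  haveI : N.Normal := ⟨fun n hn g => by
    obtain ⟨k, rfl⟩ := mem_zpowers_iff.1 hn
    have e : g * ⟨t, U.t_mem⟩ * g⁻¹ = (⟨t, U.t_mem⟩ : ↥C) := Subtype.ext (by
      show (g : G) * t * (g : G)⁻¹ = t
      rw [mem_centralizer_singleton_iff.1 g.2, mul_inv_cancel_right])
    rw [← conj_zpow, e]
    exact zpow_mem (mem_zpowers _) k⟩
  set π := QuotientGroup.mk' N with hπ
  have hsurj : Function.Surjective π := QuotientGroup.mk'_surjective N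
  have hNt : ∀ x : ↥C, x ∈ N → (x : G) = 1 ∨ (x : G) = t := fun x hx => by
    obtain ⟨k, rfl⟩ := mem_zpowers_iff.1 hx
    rcases Int.even_or_odd k with ⟨j, rfl⟩ | ⟨j, rfl⟩
    · exact Or.inl (by rw [SubgroupClass.coe_zpow, ← two_mul, zpow_mul, zpow_two, U.sq, one_zpow])
    · exact Or.inr (by rw [SubgroupClass.coe_zpow, zpow_add, zpow_mul, zpow_two, U.sq, one_zpow, one_mul, zpow_one])
  have hfib : ∀ x y : ↥C, π x = π y → (y : G) = x ∨ (y : G) = x * t := fun x y e => by
    have h : x⁻¹ * y ∈ N := QuotientGroup.eq.1 e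
    rcases hNt _ h with h | h <;> rw [Subgroup.coe_mul, InvMemClass.coe_inv, inv_mul_eq_iff_eq_mul] at h
    · exact Or.inl (h.trans (mul_one _))
    · exact Or.inr h
  set A := (W.subgroupOf C).map π with hA
  have hAmem : ∀ x : ↥C, π x ∈ A ↔ (x : G) ∈ W := fun x => by
    refine ⟨fun ⟨y, hy, e⟩ => ?_, fun hx => ⟨x, hx, rfl⟩⟩
    rcases hfib y x e with e | e <;> rw [e]
    · exact mem_subgroupOf.1 hy
    · exact W.mul_mem (mem_subgroupOf.1 hy) U.mem
  have hNmem : ∀ x : ↥C, π x ∈ normalizer (A : Set (↥C ⧸ N)) ↔ (x : G) ∈ MT t W := fun x => by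
    constructor
    · intro hx
      refine mem_inf.2 ⟨mem_normalizer_iff.2 fun w => ?_, x.2⟩
      constructor
      · intro hw
        have h := (mem_normalizer_iff.1 hx (π ⟨w, U.le hw⟩)).1 ((hAmem _).2 hw)
        rw [← map_mul, ← map_inv, ← map_mul] at h
        exact (hAmem _).1 h
      · intro hw
        have hwC : w ∈ C := by
          have := C.mul_mem (C.mul_mem (C.inv_mem x.2) (U.le hw)) x.2
          simpa [mul_assoc] using this
        have h := (mem_normalizer_iff.1 hx (π ⟨w, hwC⟩)).2 (by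
          rw [← map_mul, ← map_inv, ← map_mul]
          exact (hAmem _).2 hw)
        exact (hAmem _).1 h
    · intro hx
      refine mem_normalizer_iff.2 fun q => ?_
      obtain ⟨y, rfl⟩ := hsurj q
      rw [← map_mul, ← map_inv, ← map_mul, hAmem, hAmem]
      exact mem_normalizer_iff.1 (mem_inf.1 hx).1 y
  -- the lift of an element of the quotient
  set lf : ↥C ⧸ N → G := fun q => ((hsurj q).choose : G) with hlf
  have hlfπ : ∀ q, ∃ h : lf q ∈ C, π ⟨lf q, h⟩ = q := fun q => ⟨(hsurj q).choose.2, (hsurj q).choose_spec⟩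
  have hnv : ∀ x : ↥C, (x : G) ∈ W → U.nv (lf (π x)) = U.nv x := fun x hx => by
    obtain ⟨h, e⟩ := hlfπ (π x)
    rcases hfib x _ e.symm with e | e <;> rw [show lf (π x) = _ from e]
    exact U.nv_t hx
  have hlin : ∀ x : ↥C, (x : G) ∈ MT t W → U.lin (lf (π x)) = U.lin x := fun x hx => by
    obtain ⟨h, e⟩ := hlfπ (π x)
    rcases hfib x _ e.symm with e | e <;> rw [show lf (π x) = _ from e]
    rw [U.lin_mul _ hx _ (U.le_MT U.mem), (U.lin_ker _ (U.le_MT U.mem)).2 U.mem, mul_one]
  let K : Coords A :=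
    { c := fun q => U.nv (lf q)
      c_mul := fun p hp q hq => by
        obtain ⟨x, rfl⟩ := hsurj p
        obtain ⟨y, rfl⟩ := hsurj q
        rw [← map_mul, hnv x ((hAmem x).1 hp), hnv y ((hAmem y).1 hq),
          hnv (x * y) (W.mul_mem ((hAmem x).1 hp) ((hAmem y).1 hq))]
        exact U.nv_mul _ ((hAmem x).1 hp) _ ((hAmem y).1 hq)
      c_inj := fun p hp q hq e => by
        obtain ⟨x, rfl⟩ := hsurj p
        obtain ⟨y, rfl⟩ := hsurj q
        rw [hnv x ((hAmem x).1 hp), hnv y ((hAmem y).1 hq)] at e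
        rcases (U.nv_eq _ ((hAmem x).1 hp) _ ((hAmem y).1 hq)).1 e with h | h
        · rw [Subtype.ext h]
        · refine QuotientGroup.eq.2 ?_
          rw [show x⁻¹ * y = (⟨t, U.t_mem⟩ : ↥C) from Subtype.ext (by
            rw [Subgroup.coe_mul, InvMemClass.coe_inv, h, inv_mul_cancel_left])]
          exact mem_zpowers _
      c_surj := fun v => by
        obtain ⟨a, ha, e⟩ := U.nv_surj v
        exact ⟨π ⟨a, U.le ha⟩, (hAmem _).2 ha, (hnv ⟨a, U.le ha⟩ ha).trans e⟩
      im := fun q => U.lin (lf q)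
      im_mem := fun p hp => by
        obtain ⟨x, rfl⟩ := hsurj p
        rw [hlin x ((hNmem x).1 hp)]
        exact U.lin_mem _ ((hNmem x).1 hp)
      im_mul := fun p hp q hq => by
        obtain ⟨x, rfl⟩ := hsurj p
        obtain ⟨y, rfl⟩ := hsurj q
        have hx := (hNmem x).1 hp
        have hy := (hNmem y).1 hq
        rw [← map_mul, hlin x hx, hlin y hy, hlin (x * y) ((MT t W).mul_mem hx hy)]
        exact U.lin_mul _ hx _ hy
      im_ker := fun p hp => by
        obtain ⟨x, rfl⟩ := hsurj p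
        rw [hlin x ((hNmem x).1 hp), hAmem]
        exact U.lin_ker _ ((hNmem x).1 hp)
      im_conj := fun p hp q hq => by
        obtain ⟨x, rfl⟩ := hsurj p
        obtain ⟨y, rfl⟩ := hsurj q
        have hx := (hNmem x).1 hp
        have hy := (hAmem y).1 hq
        rw [← map_mul, ← map_inv, ← map_mul, hlin x hx, hnv y hy,
          hnv (x * y * x⁻¹) ((mem_normalizer_iff.1 (mem_inf.1 hx).1 _).1 hy)]
        exact U.lin_conj _ hx _ hy
      im_surj := fun σ hσ => by
        obtain ⟨g, hg, e⟩ := U.lin_surj σ hσ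
        exact ⟨π ⟨g, (mem_inf.1 hg).2⟩, (hNmem _).2 hg, (hlin ⟨g, (mem_inf.1 hg).2⟩ hg).trans e⟩
      three := fun p hp h3 hfix q hq => by
        obtain ⟨x, rfl⟩ := hsurj p
        obtain ⟨g, rfl⟩ := hsurj q
        have hx := (hNmem x).1 hp
        rw [← map_mul, ← map_inv, ← map_mul, hNmem] at hq
        refine (hNmem g).2 ?_
        haveI : Fact (Nat.Prime 3) := ⟨Nat.prime_three⟩
        have h6 : (x : G) ^ 6 = 1 := by
          have h : x ^ 3 ∈ N := (QuotientGroup.eq_one_iff _).1 (by
            show π (x ^ 3) = 1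
            rw [map_pow, ← h3, pow_orderOf_eq_one])
          rw [show 6 = 3 * 2 from rfl, pow_mul, ← SubmonoidClass.coe_pow]
          rcases hNt _ h with h | h <;> rw [h, pow_two]
          · exact mul_one _
          · exact U.sq
        have hn4 : (x : G) ^ 4 ≠ 1 := fun e => by
          have h4 : π x ^ 4 = 1 := by rw [← map_pow, show x ^ 4 = 1 from Subtype.ext (by simpa using e), map_one]
          have h34 : ¬ 3 ∣ 4 := by decide
          exact h34 (h3 ▸ orderOf_dvd_of_pow_eq_one h4)
        obtain ⟨b, hb, hb1, hbc⟩ := hfix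
        obtain ⟨y, rfl⟩ := hsurj b
        have hyW : (y : G) ∈ W := (hAmem y).1 hb
        have h3' : (x : G) ^ 4 * ((x : G) ^ 4) ^ 2 = 1 := by
          rw [← pow_succ', ← pow_mul, show 4 * 3 = 6 * 2 from rfl, pow_mul, h6, one_pow]
        have hflip : (x : G) ^ 4 * y * ((x : G) ^ 4)⁻¹ = y ∨ (x : G) ^ 4 * y * ((x : G) ^ 4)⁻¹ = y * t := by
          have hc4 : π (x ^ 4 * y * (x ^ 4)⁻¹) = π y := by
            rw [map_mul, map_mul, map_inv, map_pow, (hbc.pow_left 4).eq, mul_inv_cancel_right]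
          rcases hfib _ _ hc4 with e | e
          · exact Or.inl (by simpa using e.symm)
          · refine Or.inr ?_
            simpa [mul_assoc, U.sq] using (congrArg (· * t) e).symm
        have hfix' : ∃ a ∈ W, a ≠ 1 ∧ a ≠ t ∧ Commute ((x : G) ^ 4) a := by
          refine ⟨y, hyW, fun e => hb1 ?_, fun e => hb1 ?_, ?_⟩
          · rw [show y = 1 from Subtype.ext e, map_one]
          · exact (QuotientGroup.eq_one_iff y).2 (show y ∈ N by
              rw [show y = ⟨t, U.t_mem⟩ from Subtype.ext e]; exact mem_zpowers _)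
          · rcases hflip with e | e
            · exact mul_inv_eq_iff_eq_mul.1 e
            set u := (x : G) ^ 4
            have hu3 : u ^ 3 = 1 := by rw [pow_succ']; exact h3'
            have hut : Commute u t := (show Commute (x : G) t from mem_centralizer_singleton_iff.1 x.2).pow_left 4
            have hm : ∀ w, u * (w * t) * u⁻¹ = u * w * u⁻¹ * t := fun w => by
              rw [show u * (w * t) * u⁻¹ = u * w * (t * u⁻¹) by group, ← hut.inv_left.eq]
              group
            have k : u * (u * (u * y * u⁻¹) * u⁻¹) * u⁻¹ = u ^ 3 * y * (u ^ 3)⁻¹ := by simp [pow_succ, mul_assoc]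
            rw [e, hm, e, mul_assoc (y : G), U.sq, mul_one, e, hu3, one_mul, inv_one, mul_one] at k
            refine mul_inv_eq_iff_eq_mul.1 ?_
            rw [e, mul_left_cancel (k.trans (mul_one _).symm), mul_one]
        refine U.three _ ((MT t W).pow_mem hx 4) (orderOf_eq_prime ?_ hn4) hfix' g g.2 ?_
        · rw [← pow_mul, show 4 * 3 = 6 * 2 from rfl, pow_mul, h6, one_pow]
        · rw [← conj_pow]
          exact (MT t W).pow_mem (by simpa using hq) 4 }
  intro g hg
  have h := (hNmem ⟨g, hg⟩).1 (K.normal ▸ mem_top _)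
  exact (mem_inf.1 h).1

end Cfsg.Agent.U62Three.Close
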