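import Cfsg.Agent.Lib.U62Three.Close.Control
import Cfsg.Agent.Lib.U62Rec.Model.Space
import Mathlib.GroupTheory.Transfer

/-!
A normal part of the subgroup mapping onto the unitary group modulo `W` and missing the scalar: the kernel of the
transfer of the centraliser of the scalar into its Sylow 3-subgroup.
-/

set_option autoImplicit false
set_option maxRecDepth 20000
set_option linter.style.haveILetI false

namespace Cfsg.Agent.U62Three

open Subgroup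
open Co2Three (V4 qf bf e0 e1 e2 e3 refl1 IsSim isSim_mult)
open scoped commutatorElement Pointwise

theorem Loc.exists_comm_z {G : Type*} [Group G] [Finite G] (L : Loc G) :
    ∃ a ∈ L.S.Q2, ∃ b ∈ L.S.Q2, L.S.z ∈ zpowers ⁅a, b⁆ := by
  by_contra hno
  push Not at hno
  refine L.e2_not_mem ((L.S.core.centre _ (L.S.le2 L.e2_mem)).1 fun q hq => ?_)
  have F : Fac L.S.Q L.S.Q1 L.S.Q2 L.S.z := ⟨L.S.core, L.S.le1, L.S.le2, L.S.z_mem1, L.S.z_mem2, L.S.card1,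
    L.S.card2, L.S.inf12, L.S.comm12⟩
  have hle : L.S.Q1 ⊔ L.S.Q2 ≤ centralizer {L.el e2} := by
    refine sup_le (fun b hb => mem_centralizer_singleton_iff.2 (L.S.comm12 b hb _ L.e2_mem).eq) fun b hb =>
      mem_centralizer_singleton_iff.2 ?_
    refine (commutatorElement_eq_one_iff_mul_comm.1 ?_)
    by_contra hne
    have hm : ⁅b, L.el e2⁆ ∈ zpowers L.S.z := Core.comm' L.S.core (L.S.le2 hb) (L.S.le2 L.e2_mem)
    haveI : Fact (Nat.Prime 3) := ⟨Nat.prime_three⟩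
    refine hno b hb _ L.e2_mem ?_
    rw [eq_of_le_of_card_ge (zpowers_le.2 hm) (by
      rw [Nat.card_zpowers, Nat.card_zpowers, L.S.core.ord,
        orderOf_eq_prime (L.S.exp _ (zpowers_le.2 L.S.core.mem hm)) hne])]
    exact mem_zpowers _
  exact (mem_centralizer_singleton_iff.1 (hle (F.sup_eq.symm ▸ hq))).symm

namespace Close

/-- The normal part. -/
structure LinPart {G : Type*} [Group G] [Finite G] (L : Loc G) (W : Subgroup G) (c : G) (D : Subgroup G) where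
  W_le : W ≤ D
  le : D ≤ topGroup L W c
  z_mem : L.S.z ∈ D
  e3_mem : L.el e3 ∈ D
  /-- the map onto the unitary group -/
  f : ↥D →* Cfsg.PSp 2 (ZMod 3)
  f_surj : Function.Surjective f
  f_ker : ∀ x, f x = 1 ↔ (x : G) ∈ W
  /-- the inner part of the subgroup -/
  T1 : Subgroup G
  T1_le : T1 ≤ topGroup L W c
  T1_conj : ∀ g ∈ topGroup L W c, ∀ x ∈ T1, g * x * g⁻¹ ∈ T1
  le_T1 : D ≤ T1
  c_mem : c ∈ T1
  T1_cover : ∀ x ∈ T1, ∃ d ∈ D, ∃ cc ∈ zpowers c, x = d * cc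
  c_central : ∀ d ∈ D, ⁅d, c⁆ ∈ W
  /-- only `W` and the scalar centralise it modulo `W` -/
  cent : ∀ g ∈ topGroup L W c, (∀ d ∈ D, ⁅g, d⁆ ∈ W) → g ∈ W ⊔ zpowers c
  /-- the inner part has index at most two -/
  index_two : ∀ g ∈ topGroup L W c, ∀ h ∈ topGroup L W c, g ∉ T1 → h ∉ T1 → g * h ∈ T1

variable {G : Type*} [Group G] [Finite G] {L : Loc G} {W : Subgroup G} {c : G} (q : Quot L W c) (E : Ctl L W c)
include q E

theorem exists_linPart : ∃ D : Subgroup G, Nonempty (LinPart L W c D) := by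
  classical
  haveI : Fact (Nat.Prime 3) := ⟨Nat.prime_three⟩
  obtain ⟨φ, hker, hinn⟩ := q.quot (ZMod 3) (ZMod.card 3)
  haveI hsim : IsSimpleGroup (Cfsg.PSp 2 (ZMod 3)) := U62Rec.Model.simple_X
  set inner : Subgroup (MulAut (Cfsg.PSp 2 (ZMod 3))) := (MulAut.conj : Cfsg.PSp 2 (ZMod 3) →* _).range with hinner
  have hnorm : inner.Normal := ⟨fun n hn g => by
    obtain ⟨x, rfl⟩ := hn
    exact ⟨g x, MulEquiv.ext fun y => by
      simp only [MulAut.mul_apply, MulAut.conj_apply, map_mul, map_inv, MulAut.apply_inv_self]⟩⟩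
  set T1 := (inner.comap φ).map (topGroup L W c).subtype with hT1
  have hT1mem : ∀ x : ↥(topGroup L W c), (x : G) ∈ T1 ↔ φ x ∈ inner := fun x => by
    rw [hT1]
    exact ⟨fun ⟨y, hy, e⟩ => Subtype.ext (show (y : G) = x from e) ▸ hy, fun h => ⟨x, h, rfl⟩⟩
  have hT1le : T1 ≤ (topGroup L W c) := map_subtype_le _
  have hT1conj : ∀ g ∈ (topGroup L W c), ∀ x ∈ T1, g * x * g⁻¹ ∈ T1 := fun g hg x hx => by
    refine (hT1mem (⟨g, hg⟩ * ⟨x, hT1le hx⟩ * ⟨g, hg⟩⁻¹)).2 ?_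
    rw [map_mul, map_mul, map_inv]
    exact hnorm.conj_mem _ ((hT1mem ⟨x, hT1le hx⟩).1 hx) _
  have hWT1 : W ⊔ zpowers c ≤ T1 := fun x hx => by
    refine (hT1mem ⟨x, ?_⟩).2 ?_
    · exact (sup_le (W_le_top q) (zpowers_le.2 (Kt_le_top q q.c_mem)) : W ⊔ zpowers c ≤ (topGroup L W c)) hx
    · rw [(hker ⟨x, _⟩).2 hx]; exact one_mem _
  -- the Sylow subgroup is inside
  have hT3 : L.T3 ≤ T1 := fun x hx => by
    refine (hT1mem ⟨x, T3_le_top q E hx⟩).2 ?_
    obtain ⟨n, hn⟩ := L.T3_pGroup ⟨x, hx⟩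
    have hxn : φ ⟨x, T3_le_top q E hx⟩ ^ 3 ^ n = 1 := by
      rw [← map_pow, show (⟨x, T3_le_top q E hx⟩ : ↥(topGroup L W c)) ^ 3 ^ n = 1 from
        Subtype.ext (by simpa using congrArg Subtype.val hn), map_one]
    set y := φ ⟨x, T3_le_top q E hx⟩
    have h1 : orderOf (QuotientGroup.mk' inner y) ∣ 3 ^ n := (orderOf_map_dvd _ y).trans
      (orderOf_dvd_of_pow_eq_one hxn)
    have h2 : orderOf (QuotientGroup.mk' inner y) ∣ 2 := by
      refine (_root_.orderOf_dvd_natCard _).trans ?_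
      rw [← Subgroup.index_eq_card]
      have h := inner.card_mul_index
      rw [Nat.card_congr (MonoidHom.ofInjective
        (show Function.Injective (MulAut.conj : Cfsg.PSp 2 (ZMod 3) →* _) from
          U62Aut.conj_injective)).symm.toEquiv, U62Rec.Model.card_X, U62Aut.card_autX] at h
      exact dvd_of_eq (by omega)
    exact (QuotientGroup.eq_one_iff y).1 (orderOf_eq_one_iff.1
      (Nat.eq_one_of_dvd_coprimes (Nat.Coprime.pow_left n (by norm_num)) h1 h2))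
  set C1 := T1 ⊓ centralizer {c} with hC1
  have hcT : Commute c L.S.t := (L.mem_Kt.1 q.c_mem).2
  have hc1 : c ∈ C1 := mem_inf.2 ⟨hWT1 (mem_sup_right (mem_zpowers c)), mem_centralizer_singleton_iff.2 rfl⟩
  have hT3C1 : L.T3 ≤ C1 := le_inf hT3 fun x hx => mem_centralizer_singleton_iff.2 (T3_commute_c q E hx).eq
  have hzC1 : L.S.z ∈ C1 := hT3C1 (L.Q2_le_T3 L.S.z_mem2)
  -- the inner group is covered by the centraliser of the scalar
  have hC1cov : ∀ x ∈ T1, ∃ y ∈ C1, ∃ w ∈ W ⊔ zpowers c, x = y * w := by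
    let g : ↥(topGroup L W c) →* MulAut (Cfsg.PSp 2 (ZMod 3)) := φ
    set J := ((C1.subgroupOf (topGroup L W c)).map φ).comap (MulAut.conj : Cfsg.PSp 2 (ZMod 3) →* _) with hJ
    have hJn : J.Normal := ⟨fun u hu a => by
      obtain ⟨x, hx⟩ := hinn a
      -- write the element as a product
      have h : (x : G) ∈ ((W ⊔ (normalizer (W : Set G) ⊓ centralizer {L.S.t} ⊓
          normalizer (zpowers c : Set G)) : Subgroup G) : Set G) := x.2
      rw [coe_mul_of_right_le_normalizer_left W _ (inf_le_left.trans inf_le_left)] at h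
      obtain ⟨w, hw, r, hr, e⟩ := Set.mem_mul.1 h
      have hrT : r ∈ (topGroup L W c) := mem_sup_right hr
      have hφr : φ ⟨r, hrT⟩ = MulAut.conj a := by
        rw [← hx, show x = ⟨w, W_le_top q hw⟩ * ⟨r, hrT⟩ from Subtype.ext e.symm, map_mul,
          (hker ⟨w, _⟩).2 (mem_sup_left hw), one_mul]
      rw [mem_comap] at hu ⊢
      obtain ⟨y, hy, ey⟩ := hu
      refine ⟨⟨r, hrT⟩ * y * ⟨r, hrT⟩⁻¹, mem_subgroupOf.2 (mem_inf.2 ⟨?_, ?_⟩), ?_⟩
      · exact hT1conj r hrT _ (mem_inf.1 (mem_subgroupOf.1 hy)).1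
      · refine mem_centralizer_singleton_iff.2 ?_
        have hrc : r⁻¹ * c * r ∈ zpowers c := by
          simpa using (mem_normalizer_iff.1 (inv_mem (mem_inf.1 hr).2) c).1 (mem_zpowers c)
        obtain ⟨k, hk⟩ := mem_zpowers_iff.1 hrc
        have hyc : Commute (y : G) c := mem_centralizer_singleton_iff.1 (mem_inf.1 (mem_subgroupOf.1 hy)).2
        have h2 := (hyc.zpow_right k).map (MulAut.conj r).toMonoidHom
        rw [hk] at h2
        simpa [mul_assoc] using h2.eq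
      · rw [map_mul, map_mul, map_inv, ey, hφr, map_mul, map_mul, map_inv]⟩
    have hJtop : J = ⊤ := by
      refine (IsSimpleGroup.eq_bot_or_eq_top_of_normal J hJn).resolve_left fun h => ?_
      obtain ⟨x, hx⟩ := (hT1mem ⟨L.S.z, hT1le (mem_inf.1 hzC1).1⟩).1 (mem_inf.1 hzC1).1
      have : x ∈ J := mem_comap.2 ⟨⟨L.S.z, hT1le (mem_inf.1 hzC1).1⟩, mem_subgroupOf.2 hzC1, hx.symm⟩
      rw [h, mem_bot] at this
      rw [this, map_one] at hx
      have hzW := (hker _).1 hx.symm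
      rw [← SetLike.mem_coe, coe_mul_of_right_le_normalizer_left W (zpowers c)
        (zpowers_le.2 (q.mid.norm_Kt q.c_mem))] at hzW
      obtain ⟨w, hw, d, hd, e⟩ := Set.mem_mul.1 hzW
      have hdK : d ∈ L.Kt := zpowers_le.2 q.c_mem hd
      have hwK : w ∈ L.Kt := by
        rw [show w = L.S.z * d⁻¹ from eq_mul_inv_of_mul_eq e]
        exact L.Kt.mul_mem L.z_mem_Kt (L.Kt.inv_mem hdK)
      have hw1 : w = 1 := orderOf_eq_one_iff.1 (Nat.eq_one_of_dvd_coprimes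
        (show Nat.Coprime 512 3 by norm_num)
        (q.mid.card ▸ Subgroup.orderOf_dvd_natCard W hw)
        (orderOf_dvd_of_pow_eq_one (L.K_exp w (L.mem_Kt.1 hwK).1)))
      rw [hw1, one_mul] at e
      change d = L.S.z at e
      subst e
      rcases q.c_case with ⟨-, rfl⟩ | ⟨-, hcJ, -⟩
      · rw [zpowers_one_eq_bot, SetLike.mem_coe, mem_bot] at hd
        have := L.S.core.ord
        rw [hd, orderOf_one] at this
        omega
      · obtain ⟨k, hk⟩ := mem_zpowers_iff.1 hd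
        have hc3 : orderOf c = 3 := orderOf_eq_prime (L.K_exp c (L.mem_Kt.1 q.c_mem).1)
          fun e => hcJ 0 (by rw [L.el_zero, e])
        have hmem : c ∈ zpowers L.S.z := by
          rw [eq_of_le_of_card_ge (zpowers_le.2 hd) (by
            rw [Nat.card_zpowers, Nat.card_zpowers, hc3, L.S.core.ord])]
          exact mem_zpowers c
        obtain ⟨a, ha⟩ := L.zpowers_z.1 hmem
        exact hcJ _ ha
    intro x hx
    obtain ⟨a, ha⟩ := (hT1mem ⟨x, hT1le hx⟩).1 hx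
    obtain ⟨y, hy, ey⟩ := mem_comap.1 (hJtop ▸ mem_top a : a ∈ J)
    refine ⟨y, mem_subgroupOf.1 hy, (y : G)⁻¹ * x, ?_, (mul_inv_cancel_left _ _).symm⟩
    have := (hker (y⁻¹ * ⟨x, hT1le hx⟩)).1 (by rw [map_mul, map_inv, ey, ha, inv_mul_cancel])
    simpa using this
  -- the transfer
  set B := L.S.Q2 ⊔ (L.Kt ⊓ L.K.comap (MonoidHom.id G) ⊓ Subgroup.closure (Set.range L.el)) with hB
  have hπ : ∀ x, x ∈ L.Kt ⊓ L.K.comap (MonoidHom.id G) ⊓ Subgroup.closure (Set.range L.el) →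
      ∃ v : V4, v 1 = 0 ∧ x = L.el v := by
    intro x hx
    obtain ⟨⟨hxK, -⟩, hxc⟩ := hx
    have : x ∈ (Co2Three.elHom L.el L.jd.el_add).range := by
      refine (closure_le _).2 ?_ hxc
      rintro _ ⟨v, rfl⟩
      exact ⟨Multiplicative.ofAdd v, rfl⟩
    obtain ⟨v, rfl⟩ := this
    exact ⟨Multiplicative.toAdd v, L.el_mem_Kt.1 hxK, rfl⟩
  have hBT : B ≤ L.T3 := sup_le L.Q2_le_T3 ((inf_le_left.trans inf_le_left).trans L.Kt_le_T3)
  have hBcov : ∀ x ∈ L.T3, ∃ b ∈ B, ∃ cc ∈ zpowers c, x = b * cc := by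
    intro x hx
    obtain ⟨a, ha, k, hk, rfl⟩ := L.exists_T3 hx
    obtain ⟨cc, hcc, v, hv1, rfl⟩ := exists_cover_Kt q hk
    refine ⟨a * L.el v, mul_mem (mem_sup_left ha) (mem_sup_right ⟨⟨L.el_mem_Kt.2 hv1, L.el_mem_K v⟩,
      Subgroup.subset_closure ⟨v, rfl⟩⟩), cc, hcc, ?_⟩
    rw [mul_assoc, (L.K_commute (L.el_mem_K v) (zpowers_le.2 (L.mem_Kt.1 q.c_mem).1 hcc)).eq]
  have hBc : ∀ cc ∈ zpowers c, cc ∈ B → cc = 1 := by
    intro cc hcc hB'
    rcases q.c_case with ⟨-, rfl⟩ | ⟨-, hcJ, -⟩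
    · simpa [zpowers_one_eq_bot] using hcc
    by_contra hne
    have hc3 : orderOf c = 3 := orderOf_eq_prime (L.K_exp c (L.mem_Kt.1 q.c_mem).1)
      fun e => hcJ 0 (by rw [L.el_zero, e])
    have hcB : c ∈ B := by
      have h : zpowers cc = zpowers c := eq_of_le_of_card_ge (zpowers_le.2 hcc) (by
        rw [Nat.card_zpowers, Nat.card_zpowers, hc3,
          orderOf_eq_prime (L.K_exp cc (zpowers_le.2 (L.mem_Kt.1 q.c_mem).1 hcc)) hne])
      exact zpowers_le.2 hB' (h ▸ mem_zpowers c)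
    have hnorm : L.Kt ⊓ L.K.comap (MonoidHom.id G) ⊓ Subgroup.closure (Set.range L.el) ≤
        normalizer (L.S.Q2 : Set G) := (inf_le_left.trans inf_le_left).trans L.Kt_le_normalizer_Q2
    rw [hB, ← SetLike.mem_coe, coe_mul_of_right_le_normalizer_left _ _ hnorm] at hcB
    obtain ⟨a, ha, k, hk, e⟩ := Set.mem_mul.1 hcB
    obtain ⟨v, hv1, rfl⟩ := hπ k hk
    have haK : a ∈ L.K := by
      rw [show a = c * (L.el v)⁻¹ from eq_mul_inv_of_mul_eq e]
      exact L.K.mul_mem (L.mem_Kt.1 q.c_mem).1 (L.K.inv_mem (L.el_mem_K v))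
    obtain ⟨u, rfl⟩ := L.K_Q a haK (L.S.le2 ha)
    exact hcJ (u + v) (by rw [L.jd.el_add]; exact e.symm)
  let P : Subgroup ↥C1 := L.T3.subgroupOf C1
  let B0 : Subgroup ↥P := (B.subgroupOf C1).subgroupOf P
  have hB0mem : ∀ x : ↥P, x ∈ B0 ↔ ((x : ↥C1) : G) ∈ B := fun x => by simp [B0, mem_subgroupOf]
  haveI hB0n : B0.Normal := ⟨fun n hn x => by
    rw [hB0mem] at hn ⊢
    obtain ⟨b, hb, cc, hcc, e⟩ := hBcov _ (mem_subgroupOf.1 x.2 : ((x : ↥C1) : G) ∈ L.T3)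
    have hccn : Commute cc ((n : ↥C1) : G) :=
      (commute_zpowers_c q E (T3_commute_c q E (mem_subgroupOf.1 n.2)) hcc).symm
    have e' : ((x * n * x⁻¹ : ↥P) : ↥C1).1 = b * ((n : ↥C1) : G) * b⁻¹ := by
      push_cast
      rw [e]
      calc b * cc * ((n : ↥C1) : G) * (b * cc)⁻¹ = b * (cc * ((n : ↥C1) : G) * cc⁻¹) * b⁻¹ := by group
        _ = _ := by rw [hccn.eq, mul_inv_cancel_right]
    rw [e']
    exact mul_mem (mul_mem hb hn) (inv_mem hb)⟩
  let cP : ↥P := ⟨⟨c, hc1⟩, mem_subgroupOf.2 (L.Kt_le_T3 q.c_mem)⟩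
  let π := QuotientGroup.mk' B0
  have hgen : ∀ y : ↥P ⧸ B0, y ∈ zpowers (π cP) := fun y => by
    obtain ⟨x, rfl⟩ := QuotientGroup.mk'_surjective B0 y
    obtain ⟨b, hb, cc, hcc, e⟩ := hBcov _ (mem_subgroupOf.1 x.2 : ((x : ↥C1) : G) ∈ L.T3)
    obtain ⟨k, rfl⟩ := mem_zpowers_iff.1 hcc
    refine ⟨k, ?_⟩
    show π cP ^ k = π x
    rw [← map_zpow]
    refine (QuotientGroup.eq.2 ?_)
    rw [hB0mem]
    push_cast
    rw [e]
    have hbc : Commute b c := T3_commute_c q E (hBT hb)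
    rw [show (((cP : ↥C1) : G)) = c from rfl, ← mul_assoc, ((hbc.zpow_right k).symm.inv_left).eq, mul_assoc,
      inv_mul_cancel, mul_one]
    exact hb
  letI : CommGroup (↥P ⧸ B0) := { (inferInstance : Group (↥P ⧸ B0)) with
    mul_comm := fun a b => by
      obtain ⟨i, rfl⟩ := mem_zpowers_iff.1 (hgen a)
      obtain ⟨j, rfl⟩ := mem_zpowers_iff.1 (hgen b)
      exact ((Commute.refl (π cP)).zpow_zpow i j).eq }
  let χ : ↥P →* ↥P ⧸ B0 := π
  let ψ : ↥C1 →* ↥P ⧸ B0 := MonoidHom.transfer χ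
  have hψc : ψ ⟨c, hc1⟩ = π cP ^ P.index := by
    have hkey : ∀ (k : ℕ) (g : ↥C1), g⁻¹ * (⟨c, hc1⟩ : ↥C1) ^ k * g ∈ P →
        g⁻¹ * (⟨c, hc1⟩ : ↥C1) ^ k * g = (⟨c, hc1⟩ : ↥C1) ^ k := by
      intro k g _
      have : Commute (⟨c, hc1⟩ : ↥C1) g :=
        Subtype.ext (mem_centralizer_singleton_iff.1 (mem_inf.1 g.2).2).symm
      rw [mul_assoc, (this.pow_left k).eq, inv_mul_cancel_left]
    have h := MonoidHom.transfer_eq_pow χ (⟨c, hc1⟩ : ↥C1) hkey
    show MonoidHom.transfer χ _ = _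
    rw [h, ← map_pow]
    rfl
  have hidx : ¬ 3 ∣ P.index := by
    intro h3
    have hle : Nat.card L.T3 * 3 ∣ Nat.card C1 := by
      have := P.card_mul_index
      rw [Nat.card_congr (subgroupOfEquivOfLe hT3C1).toEquiv] at this
      rw [← this]
      exact Nat.mul_dvd_mul_left _ h3
    obtain ⟨R, hR⟩ := Sylow.exists_subgroup_card_pow_prime (G := ↥C1) (n := (Nat.log 3 (Nat.card L.T3)) + 1) 3 (by
      obtain ⟨n, hn⟩ := IsPGroup.iff_card.1 L.T3_pGroup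
      rw [hn, ← pow_succ] at hle
      rwa [hn, Nat.log_pow (by norm_num)])
    have hR3 : IsPGroup 3 R := IsPGroup.of_card hR
    have := card_le_T3 q E (hR3.map C1.subtype) ((map_subtype_le R).trans (inf_le_left.trans hT1le))
    rw [card_map_of_injective C1.subtype_injective, hR] at this
    obtain ⟨n, hn⟩ := IsPGroup.iff_card.1 L.T3_pGroup
    rw [hn, Nat.log_pow (by norm_num)] at this
    exact absurd this (not_le.2 (Nat.pow_lt_pow_right (by norm_num) (Nat.lt_succ_self n)))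
  -- the part
  set D := W ⊔ ψ.ker.map C1.subtype with hD
  have hC1T : C1 ≤ (topGroup L W c) := inf_le_left.trans hT1le
  have hkN : ψ.ker.map C1.subtype ≤ normalizer (W : Set G) := (map_subtype_le _).trans (hC1T.trans topGroup_le_norm)
  have hWT1' : W ≤ T1 := le_sup_left.trans hWT1
  have hDT1 : D ≤ T1 := sup_le hWT1' ((map_subtype_le _).trans inf_le_left)
  have hcomm : ∀ x y : ↥C1, ((⁅x, y⁆ : ↥C1) : G) ∈ D := fun x y => mem_sup_right ⟨⁅x, y⁆,
    MonoidHom.mem_ker.2 (by rw [map_commutatorElement, commutatorElement_eq_one_iff_mul_comm, mul_comm]), rfl⟩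
  obtain ⟨a, ha, b, hb, hab⟩ := L.exists_comm_z
  have hzD : L.S.z ∈ D := zpowers_le.2
    (hcomm ⟨a, hT3C1 (L.Q2_le_T3 ha)⟩ ⟨b, hT3C1 (L.Q2_le_T3 hb)⟩) hab
  have he3D : L.el e3 ∈ D := by
    obtain ⟨r1, r2, r3, h0, -⟩ := to_axis e3 (by decide) (by decide) (by decide)
    obtain ⟨m1, hm1, x1⟩ := exists_word q E _ (isRot_tr 0 r3) fun v => (tr_plane' r3 v).1
    obtain ⟨m2, hm2, x2⟩ := exists_word q E _ (isRot_tr3 0 r2) fun v => (tr_plane' r2 v).2
    obtain ⟨m3, hm3, x3⟩ := exists_word q E _ (isRot_tr 0 r1) fun v => (tr_plane' r1 v).1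
    have hc : ∀ {m}, m ∈ (topGroup L W c) → (∀ R, IsRot R → (∀ v, m * L.el v * m⁻¹ = L.el (R.mulVec v)) → Commute m c) :=
      fun {m} hm R hR hv => E.comm_S6 m (mem_centralizer_singleton_iff.1 (topGroup_le_cent q.mid hm)) R (Or.inl hR) hv
    set m := m3 * m2 * m1
    have hmT : m ∈ (topGroup L W c) := mul_mem (mul_mem hm3 hm2) hm1
    have hmc : Commute m c := ((hc hm3 _ (isRot_tr 0 r1) x3).mul_left (hc hm2 _ (isRot_tr3 0 r2) x2)).mul_left
      (hc hm1 _ (isRot_tr 0 r3) x1)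
    have hm : m * L.el e3 * m⁻¹ = L.S.z ∨ m * L.el e3 * m⁻¹ = L.S.z⁻¹ := by
      rw [show m * L.el e3 * m⁻¹ = m3 * (m2 * (m1 * L.el e3 * m1⁻¹) * m2⁻¹) * m3⁻¹ by simp [m, mul_assoc],
        x1, x2, x3]
      rcases h0 (by decide) with e | e <;> rw [e]
      · exact Or.inl L.z_eq
      · exact Or.inr (by rw [L.el_neg, L.z_eq])
    have hcj : ∀ {g}, g ∈ L.S.Q2 → m⁻¹ * g * m ∈ C1 := fun {g} hg => by
      refine mem_inf.2 ⟨by simpa using hT1conj _ (inv_mem hmT) _ (hT3 (L.Q2_le_T3 hg)), ?_⟩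
      exact mem_centralizer_singleton_iff.2 ((hmc.inv_left.mul_left (E.comm_Q2 g hg)).mul_left hmc).eq
    have h := zpowers_le.2 (hcomm ⟨_, hcj ha⟩ ⟨_, hcj hb⟩)
    have hz : m⁻¹ * L.S.z * m ∈ D := by
      obtain ⟨k, hk⟩ := mem_zpowers_iff.1 hab
      refine h (mem_zpowers_iff.2 ⟨k, ?_⟩)
      rw [← hk]
      show ⁅m⁻¹ * a * m, m⁻¹ * b * m⁆ ^ k = _
      have e : ⁅m⁻¹ * a * m, m⁻¹ * b * m⁆ = m⁻¹ * ⁅a, b⁆ * (m⁻¹)⁻¹ := by
        simp only [commutatorElement_def]; group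
      rw [e, conj_zpow, inv_inv]
    rcases hm with e | e
    · rwa [← e, show m⁻¹ * (m * L.el e3 * m⁻¹) * m = L.el e3 by group] at hz
    · rw [← inv_inv L.S.z, ← e, show m⁻¹ * (m * L.el e3 * m⁻¹)⁻¹ * m = (L.el e3)⁻¹ by group] at hz
      exact (Subgroup.inv_mem_iff D).1 hz
  -- the scalar misses the part
  have hcD : ∀ cc ∈ zpowers c, cc ∈ D → cc = 1 := by
    intro cc hcc hccD
    rw [hD, ← SetLike.mem_coe, coe_mul_of_right_le_normalizer_left _ _ hkN] at hccD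
    obtain ⟨w, hw, k, ⟨k', hk', rfl⟩, e⟩ := Set.mem_mul.1 hccD
    rcases q.c_case with ⟨-, rfl⟩ | ⟨-, hcJ, hfpf⟩
    · simpa [zpowers_one_eq_bot] using hcc
    have hwc : Commute w c := by
      rw [show w = cc * (k' : G)⁻¹ from eq_mul_inv_of_mul_eq e]
      exact ((commute_zpowers_c q E (Commute.refl c) hcc).symm).mul_left
        (show Commute (k' : G) c from mem_centralizer_singleton_iff.1 (mem_inf.1 k'.2).2).inv_left
    have hw2 : w * w = 1 := by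
      rcases hfpf w hw hwc with rfl | rfl
      · exact one_mul 1
      · exact L.S.t_sq
    have hwC1 : w ∈ C1 := mem_inf.2 ⟨hWT1' hw, mem_centralizer_singleton_iff.2 hwc.eq⟩
    obtain ⟨k, rfl⟩ := mem_zpowers_iff.1 hcc
    have hψ : ψ ⟨w, hwC1⟩ = ψ (⟨c, hc1⟩ ^ k) := by
      rw [show (⟨c, hc1⟩ : ↥C1) ^ k = ⟨w, hwC1⟩ * k' from Subtype.ext (by push_cast; exact e.symm), map_mul,
        MonoidHom.mem_ker.1 hk', mul_one]
    set y := ψ (⟨c, hc1⟩ ^ k) with hy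
    have hy2 : y * y = 1 := by rw [← hψ, ← map_mul, show (⟨w, hwC1⟩ : ↥C1) * ⟨w, hwC1⟩ = 1 from Subtype.ext hw2, map_one]
    have hcP3 : π cP ^ 3 = 1 := by
      rw [← map_pow, show cP ^ 3 = 1 from Subtype.ext (Subtype.ext (L.K_exp c (L.mem_Kt.1 q.c_mem).1)), map_one]
    have hy3 : y ^ 3 = 1 := by
      rw [hy, map_zpow, hψc, ← zpow_natCast (π cP) P.index, ← zpow_mul, ← zpow_natCast _ 3, ← zpow_mul,
        show (P.index : ℤ) * k * ((3 : ℕ) : ℤ) = ((3 : ℕ) : ℤ) * (P.index * k) by ring, zpow_mul, zpow_natCast,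
        hcP3, one_zpow]
    have hy1 : y = 1 := by rwa [pow_three, hy2, mul_one] at hy3
    rw [hy, map_zpow, hψc, ← zpow_natCast, ← zpow_mul] at hy1
    have ho : orderOf (π cP) = 3 := orderOf_eq_prime hcP3 fun h1 => by
      have h2 := (hB0mem cP).1 ((QuotientGroup.eq_one_iff cP).1 h1)
      have := hBc c (mem_zpowers c) h2
      exact hcJ 0 (by rw [L.el_zero, this])
    have hd : (3 : ℤ) ∣ (P.index : ℤ) * k := by
      have := orderOf_dvd_iff_zpow_eq_one.2 hy1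
      rwa [ho] at this
    have hk3 : (3 : ℤ) ∣ k := (Int.Prime.dvd_mul' Nat.prime_three hd).resolve_left fun h =>
      hidx (Int.natCast_dvd_natCast.1 h)
    obtain ⟨j, rfl⟩ := hk3
    rw [zpow_mul, show c ^ (3 : ℤ) = c ^ 3 from zpow_natCast c 3, L.K_exp c (L.mem_Kt.1 q.c_mem).1, one_zpow]
  have hcov : ∀ x ∈ T1, ∃ d ∈ D, ∃ cc ∈ zpowers c, x = d * cc := by
    intro x hx
    obtain ⟨y, hy, w, hw, rfl⟩ := hC1cov x hx
    rw [← SetLike.mem_coe, coe_mul_of_right_le_normalizer_left W (zpowers c)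
      (zpowers_le.2 (q.mid.norm_Kt q.c_mem))] at hw
    obtain ⟨w, hw', d, hd, rfl⟩ := Set.mem_mul.1 hw
    -- split off the power of the scalar in the centraliser
    obtain ⟨j, hj⟩ : ∃ j : ℤ, ψ (⟨c, hc1⟩ ^ j) = ψ ⟨y, hy⟩ := by
      obtain ⟨i, hi⟩ := mem_zpowers_iff.1 (hgen (ψ ⟨y, hy⟩))
      obtain ⟨u, v, huv⟩ := (Int.isCoprime_iff_gcd_eq_one.2 (by
        rw [Int.gcd_natCast_natCast]
        exact ((Nat.Prime.coprime_iff_not_dvd Nat.prime_three).2 hidx).symm) : IsCoprime (P.index : ℤ) ((3 : ℕ) : ℤ))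
      refine ⟨u * i, ?_⟩
      have hcP3 : π cP ^ ((3 : ℕ) : ℤ) = 1 := by
        rw [zpow_natCast, ← map_pow,
          show cP ^ 3 = 1 from Subtype.ext (Subtype.ext (L.K_exp c (L.mem_Kt.1 q.c_mem).1)), map_one]
      rw [map_zpow, hψc, ← zpow_natCast, ← zpow_mul, ← hi,
        show (P.index : ℤ) * (u * i) = i + ((3 : ℕ) : ℤ) * (-v * i) by linear_combination i * huv, zpow_add,
        zpow_mul, hcP3, one_zpow, mul_one]
    have hk : ((⟨y, hy⟩ : ↥C1) * (⟨c, hc1⟩ ^ j)⁻¹) ∈ ψ.ker := by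
      rw [MonoidHom.mem_ker, map_mul, map_inv, hj, mul_inv_cancel]
    have hwj : c ^ j * w * (c ^ j)⁻¹ ∈ W :=
      (mem_normalizer_iff.1 (zpowers_le.2 (q.mid.norm_Kt q.c_mem) (zpow_mem (mem_zpowers c) j)) w).1 hw'
    refine ⟨y * (c ^ j)⁻¹ * (c ^ j * w * (c ^ j)⁻¹), mul_mem (mem_sup_right ⟨_, hk, by simp⟩) (mem_sup_left hwj),
      c ^ j * d, mul_mem (zpow_mem (mem_zpowers c) j) hd, by group⟩
  let ι : Cfsg.PSp 2 (ZMod 3) →* MulAut (Cfsg.PSp 2 (ZMod 3)) := MulAut.conj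
  let e := MonoidHom.ofInjective (f := ι) U62Aut.conj_injective
  let g : ↥D →* ↥ι.range :=
    { toFun := fun x => ⟨φ ⟨x, hT1le (hDT1 x.2)⟩, (hT1mem ⟨x, hT1le (hDT1 x.2)⟩).1 (hDT1 x.2)⟩
      map_one' := Subtype.ext (map_one φ)
      map_mul' := fun x y => Subtype.ext (map_mul φ ⟨x, _⟩ ⟨y, _⟩) }
  refine ⟨D, ⟨{
    W_le := le_sup_left, le := hDT1.trans hT1le, z_mem := hzD, e3_mem := he3D
    f := e.symm.toMonoidHom.comp g, f_surj := ?_, f_ker := ?_
    T1 := T1, T1_le := hT1le, T1_conj := hT1conj, le_T1 := hDT1, c_mem := (mem_inf.1 hc1).1, T1_cover := hcov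
    c_central := ?_, cent := ?_, index_two := ?_ }⟩⟩
  · refine e.symm.surjective.comp fun u => ?_
    obtain ⟨a, ha⟩ := u.2
    obtain ⟨x, hx⟩ := hinn a
    obtain ⟨d, hd, cc, hcc, e'⟩ := hcov x ((hT1mem x).2 (by rw [hx]; exact ⟨a, rfl⟩))
    refine ⟨⟨d, hd⟩, Subtype.ext ?_⟩
    show φ ⟨d, _⟩ = u.1
    have hccT : cc ∈ (topGroup L W c) := zpowers_le.2 (Kt_le_top q q.c_mem) hcc
    rw [← ha, ← hx, show x = ⟨d, hT1le (hDT1 hd)⟩ * ⟨cc, hccT⟩ from Subtype.ext e', map_mul,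
      (hker ⟨cc, hccT⟩).2 (mem_sup_right hcc), mul_one]
  · intro x
    show e.symm (g x) = 1 ↔ _
    rw [← e.symm.map_one, e.symm.injective.eq_iff, Subtype.ext_iff]
    show φ ⟨x, _⟩ = 1 ↔ _
    rw [hker]
    refine ⟨fun h => ?_, fun h => mem_sup_left h⟩
    rw [← SetLike.mem_coe, coe_mul_of_right_le_normalizer_left W (zpowers c)
      (zpowers_le.2 (q.mid.norm_Kt q.c_mem))] at h
    obtain ⟨w, hw, d, hd, e'⟩ := Set.mem_mul.1 h
    have hdD : d ∈ D := by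
      rw [show d = w⁻¹ * x from eq_inv_mul_of_mul_eq e']
      exact mul_mem (inv_mem (mem_sup_left hw)) x.2
    have e'' : w * d = (x : G) := e'
    rw [← e'', hcD d hd hdD, mul_one]
    exact hw
  · intro d hd
    rw [hD, ← SetLike.mem_coe, coe_mul_of_right_le_normalizer_left _ _ hkN] at hd
    obtain ⟨w, hw, k, ⟨k', -, rfl⟩, rfl⟩ := Set.mem_mul.1 hd
    have hkc : Commute (k' : G) c := mem_centralizer_singleton_iff.1 (mem_inf.1 k'.2).2
    rw [show ⁅w * (C1.subtype k'), c⁆ = w * ((k' : G) * c * (k' : G)⁻¹ * w⁻¹ * c⁻¹) by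
      simp only [commutatorElement_def, Subgroup.subtype_apply]; group, hkc.eq, mul_inv_cancel_right]
    exact W.mul_mem hw ((mem_normalizer_iff.1 (q.mid.norm_Kt q.c_mem) _).1 (W.inv_mem hw))
  · intro g hg hgd
    refine (hker ⟨g, hg⟩).1 (MulEquiv.ext fun a => U62Aut.conj_injective ?_)
    obtain ⟨x, hx⟩ := hinn a
    obtain ⟨d, hd, cc, hcc, e'⟩ := hcov x ((hT1mem x).2 (by rw [hx]; exact ⟨a, rfl⟩))
    have hdT : d ∈ topGroup L W c := hT1le (hDT1 hd)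
    have hccT : cc ∈ topGroup L W c := zpowers_le.2 (Kt_le_top q q.c_mem) hcc
    have hφd : φ ⟨d, hdT⟩ = MulAut.conj a := by
      rw [← hx, show x = ⟨d, hdT⟩ * ⟨cc, hccT⟩ from Subtype.ext e', map_mul,
        (hker ⟨cc, hccT⟩).2 (mem_sup_right hcc), mul_one]
    have h1 : φ ⁅(⟨g, hg⟩ : ↥(topGroup L W c)), ⟨d, hdT⟩⁆ = 1 := (hker _).2 (mem_sup_left (hgd d hd))
    rw [map_commutatorElement, commutatorElement_eq_one_iff_mul_comm, hφd] at h1
    rw [show MulAut.conj (φ ⟨g, hg⟩ a) = φ ⟨g, hg⟩ * MulAut.conj a * (φ ⟨g, hg⟩)⁻¹ from MulEquiv.ext fun y => by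
      simp only [MulAut.mul_apply, MulAut.conj_apply, map_mul, map_inv, MulAut.apply_inv_self], h1,
      mul_inv_cancel_right]
    rfl
  · intro g hg h hh hgT hhT
    have hidx2 : inner.index = 2 := by
      have h := inner.card_mul_index
      rw [Nat.card_congr (MonoidHom.ofInjective
        (show Function.Injective (MulAut.conj : Cfsg.PSp 2 (ZMod 3) →* _) from
          U62Aut.conj_injective)).symm.toEquiv, U62Rec.Model.card_X, U62Aut.card_autX] at h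
      omega
    refine (hT1mem (⟨g, hg⟩ * ⟨h, hh⟩)).2 ?_
    rw [map_mul, Subgroup.mul_mem_iff_of_index_two hidx2]
    exact iff_of_false (mt (hT1mem ⟨g, hg⟩).2 hgT) (mt (hT1mem ⟨h, hh⟩).2 hhT)

end Close

end Cfsg.Agent.U62Three
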