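import Cfsg.Agent.Lib.U62Three.Close.Coords

/-!
The bad involutions and the hyperplanes in coordinates, and the conclusion: `A` is normal.
-/

set_option autoImplicit false
set_option linter.style.haveILetI false
set_option maxRecDepth 20000

namespace Cfsg.Agent.U62Three.Close

open Subgroup
open Cfsg.Agent.PermCert Cfsg.Agent.U62Rec.Model Cfsg.Agent.U62Aut
open scoped commutatorElement

attribute [local irreducible] pack allBelow

variable {H : Type*} [Group H]

theorem xorV_four (a b c d : Vec) : xorV (xorV a b) (xorV c d) = xorV (xorV a c) (xorV b d) := by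
  refine Fin.ext ?_
  show ((a : ℕ) ^^^ b) ^^^ ((c : ℕ) ^^^ d) = ((a : ℕ) ^^^ c) ^^^ ((b : ℕ) ^^^ d)
  ac_rfl

/-- The first point. -/
def p0 : Pt := ⟨0, by norm_num⟩

theorem pairOK_spec {a b : List ℕ} (h : pairOK a b = true) :
    orderOf (wordP a) = 3 ∧ orderOf (wordP b) = 3 ∧ Commute (wordP a) (wordP b) ∧
      wordP b ∉ zpowers (wordP a) ∧ (a.all fun p => Nat.blt p 45) = true ∧
      (b.all fun p => Nat.blt p 45) = true := by
  simp only [pairOK, Bool.and_eq_true, Bool.not_eq_true'] at h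
  obtain ⟨⟨⟨⟨ha, hb⟩, hc⟩, hne⟩, hne2⟩ := h
  obtain ⟨hal, hoa⟩ := threeB_spec ha
  obtain ⟨hbl, hob⟩ := threeB_spec hb
  have hbeq : ∀ {w : List ℕ}, (w.all fun p => Nat.blt p 45) = true → wordP b = wordP w →
      basisEq (wordC b) (wordC w) = true := fun {w} hw e => allBelow_intro fun j hj => by
    have hlt : 2 ^ j < 256 := Nat.pow_lt_pow_right (m := j) (n := 8) (by norm_num) hj
    refine Nat.beq_eq.mpr ?_
    show wordC b ((vec (2 ^ j) hlt : Vec) : ℕ) = wordC w ((vec (2 ^ j) hlt : Vec) : ℕ)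
    rw [wordP_val hbl, wordP_val hw, e]
  refine ⟨hoa, hob, ?_, fun hm => ?_, hal, hbl⟩
  · show wordP a * wordP b = wordP b * wordP a
    rw [← wordP_append, ← wordP_append]
    exact (additive_word _).ext_basis (additive_word _) _ _ (wordP_val (all_append hal hbl))
      (wordP_val (all_append hbl hal)) hc
  · obtain ⟨n, hn, e⟩ : ∃ n < 3, wordP a ^ n = wordP b := by
      obtain ⟨k, hk⟩ := mem_zpowers_iff.1 hm
      refine ⟨(k % 3).toNat, by omega, ?_⟩
      rw [← zpow_natCast, Int.toNat_of_nonneg (by omega), ← hk, ← zpow_mod_orderOf (wordP a) k, hoa]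
      rfl
    interval_cases n
    · rw [pow_zero] at e
      rw [← e, orderOf_one] at hob
      omega
    · rw [pow_one] at e
      rw [hbeq hal e.symm] at hne
      exact Bool.noConfusion hne
    · rw [pow_two, ← wordP_append] at e
      rw [hbeq (all_append hal hal) e.symm] at hne2
      exact Bool.noConfusion hne2

/-- What the kernel checked at the first transvection. -/
theorem centre_spec :
    pairOK wA wB = true ∧ Commute (tvV p0) (wordP wA) ∧ Commute (tvV p0) (wordP wB) ∧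
    (∀ v : Vec, coreU v < 256) ∧ (∃ u ∈ Core, (∀ v : Vec, coreU v = (u v : ℕ)) ∧ Commute (tvV p0) u) ∧
    (∀ v : Vec, radB (xorV v (tvV p0 v) : Vec) = true) ∧
    (∀ v : Vec, radB (v : ℕ) = true → tvV p0 v = v ∧ (∃ a : Vec, xorV a (tvV p0 a) = v) ∧
      ∃ f : Vec, tvV p0 f = f ∧ Nat.xor (f : ℕ) (coreU f) = v) ∧
    (∀ v : Vec, tvV p0 v = v → radB (Nat.xor (v : ℕ) (coreU v)) = true) ∧
    ∀ c : Vec, badB (c : ℕ) = true → ∀ d : Vec, tvV p0 d = d → radB (d : ℕ) = false →
      ∃ e ∈ nineW, ∀ r : ℕ, radB r = true → badB (Nat.xor (Nat.xor c (wordC e d)) r) = false := by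
  have h := centre_ok
  simp only [centreOK, Bool.and_eq_true] at h
  obtain ⟨⟨⟨⟨⟨hp, ha⟩, hb⟩, hu⟩, hv⟩, hbad⟩ := h
  obtain ⟨-, -, -, -, hal, hbl⟩ := pairOK_spec hp
  have htv : ∀ v : Vec, tvC 0 v = (tvV p0 v : ℕ) := fun _ => rfl
  have hT : Additive (tvV p0) := additive_of_mem (lin_le (tvV_mem _))
  have hcomm : ∀ {w : List ℕ}, (w.all fun p => Nat.blt p 45) = true →
      basisEq (fun v => tvC 0 (wordC w v)) (fun v => wordC w (tvC 0 v)) = true → Commute (tvV p0) (wordP w) :=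
    fun {w} hw e => (hT.mul (additive_word w)).ext_basis ((additive_word w).mul hT) _ _
      (fun v => by show tvC 0 (wordC w v) = _; rw [wordP_val hw, htv]; rfl)
      (fun v => by show wordC w (tvC 0 v) = _; rw [htv, wordP_val hw]; rfl) e
  have hlen : 1 < coreLin.length := by rw [core_facts.2.2.2.1]; norm_num
  have hmem : coreLin.getD 1 (0, 0) ∈ coreLin := by rw [List.getD_eq_getElem _ _ hlen]; exact List.getElem_mem _
  have hval : ∀ v : Vec, coreU v = (toPerm 8 256 (coreLin.getD 1 (0, 0)) v : ℕ) := fun v => (rep_core hmem v).1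
  have huCore : toPerm 8 256 (coreLin.getD 1 (0, 0)) ∈ Core := Subgroup.subset_closure ⟨_, hmem, rfl⟩
  have huA := additive_of_mem (lin_le (core_le_St huCore).1)
  refine ⟨hp, hcomm hal ha, hcomm hbl hb, fun v => by rw [hval]; exact Fin.is_lt _,
    ⟨_, huCore, hval, (hT.mul huA).ext_basis (huA.mul hT) _ _
      (fun v => by show tvC 0 (coreU v) = _; rw [hval, htv]; rfl)
      (fun v => by show coreU (tvC 0 v) = _; rw [htv, hval]; rfl) hu⟩, fun v => ?_, fun v hr => ?_, fun v hf => ?_,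
    fun c hc d hd hdr => ?_⟩
  all_goals first
    | (have h := allBelow_spec _ _ hv v v.2
       simp only [Bool.and_eq_true, Bool.or_eq_true, Bool.not_eq_true'] at h)
    | skip
  · exact h.1.1
  · rcases h.1.2 with h' | ⟨⟨h1, h2⟩, h3⟩
    · rw [hr] at h'; exact Bool.noConfusion h'
    obtain ⟨a, ha', e⟩ := List.any_eq_true.1 h2
    obtain ⟨f, hf, e'⟩ := List.any_eq_true.1 h3
    rw [Bool.and_eq_true] at e'
    exact ⟨Fin.ext (Nat.eq_of_beq_eq_true h1), ⟨vec a (List.mem_range.1 ha'), Fin.ext (Nat.eq_of_beq_eq_true e)⟩,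
      vec f (List.mem_range.1 hf), Fin.ext (Nat.eq_of_beq_eq_true e'.1), Nat.eq_of_beq_eq_true e'.2⟩
  · refine h.2.resolve_left fun e => ?_
    rw [perpB, htv, hf, Nat.beq_refl] at e
    exact Bool.noConfusion e
  · have h1 := allBelow_spec _ _ hbad c c.2
    simp only [hc, Bool.not_true, Bool.false_or] at h1
    have h2 := allBelow_spec _ _ h1 d d.2
    have hpd : perpB (d : ℕ) = true := by rw [perpB, htv, hd]; exact Nat.beq_refl _
    simp only [hpd, hdr, Bool.not_true, Bool.false_or] at h2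
    obtain ⟨e, he, h3⟩ := List.any_eq_true.1 h2
    refine ⟨e, he, fun r hr => ?_⟩
    have hmem : r ∈ [0, 5, omC 5, omC (omC 5)] := by
      simp only [radB, onLine, Bool.or_eq_true, Nat.beq_eq] at hr
      simp only [List.mem_cons, List.not_mem_nil, or_false]
      tauto
    simpa using List.all_eq_true.1 h3 r hmem

/-- The nine words are products of powers of the two. -/
theorem nine_pow {e : List ℕ} (he : e ∈ nineW) :
    (e.all fun p => Nat.blt p 45) = true ∧ ∃ i j : ℕ, wordP e = wordP wA ^ i * wordP wB ^ j := by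
  have h : ∀ w ∈ nineW, (w.all fun p => Nat.blt p 45) = true := by decide +kernel
  refine ⟨h e he, ?_⟩
  have h0 : wordP [] = 1 := rfl
  fin_cases he
  · exact ⟨0, 0, by simp [h0]⟩
  · exact ⟨1, 0, by simp⟩
  · exact ⟨2, 0, by simp [wordP_append, pow_two]⟩
  · exact ⟨0, 1, by simp⟩
  · exact ⟨1, 1, by simp [wordP_append]⟩
  · exact ⟨2, 1, by simp [wordP_append, pow_two, mul_assoc]⟩
  · exact ⟨0, 2, by simp [wordP_append, pow_two]⟩
  · exact ⟨1, 2, by simp [wordP_append, pow_two]⟩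
  · exact ⟨2, 2, by simp [wordP_append, pow_two, mul_assoc]⟩

/-- The translates off the line by a word other than the first. -/
theorem not_bad_word {c : Vec} (hc : tvV p0 c = c) (hb : badB (c : ℕ) = false) :
    ∃ e ∈ nineW.drop 1, radB (Nat.xor (c : ℕ) (wordC e c)) = true := by
  by_contra hne
  push Not at hne
  have : badB (c : ℕ) = true := by
    rw [badB, Bool.and_eq_true, List.all_eq_true]
    refine ⟨?_, fun e he => by rw [Bool.not_eq_true', Bool.eq_false_iff]; exact hne e he⟩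
    show Nat.beq ((tvV p0 c : Vec) : ℕ) c = true
    rw [hc]; exact Nat.beq_refl _
  rw [this] at hb
  exact Bool.noConfusion hb

variable {A : Subgroup H} (C : Coords A) [Finite H]
include C

omit [Finite H] in
theorem Coords.bad_conj {r m : H} (hb : Bad A r) (hm : m ∈ normalizer (A : Set H)) : Bad A (m * r * m⁻¹) := by
  refine ⟨mul_mem (mul_mem hm hb.mem) (inv_mem hm), fun h => hb.not_mem ?_, by
    rw [conj_mul, hb.sq, mul_one, mul_inv_cancel], fun y hy hy3 e => hb.no_three (m⁻¹ * y * m)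
      (mul_mem (mul_mem (inv_mem hm) hy) hm) (by
        have := orderOf_conj m⁻¹ y
        rw [inv_inv, hy3] at this
        exact this) ?_⟩
  · have := conjN (inv_mem hm) h
    simpa [mul_assoc] using this
  · have := e.map (MulAut.conj m⁻¹).toMonoidHom
    simpa [mul_assoc] using this

/-- Two lifts of order three that commute, over a commuting pair. -/
theorem Coords.lift_pair {α β : Equiv.Perm Vec} (hα : α ∈ Lgrp) (hβ : β ∈ Lgrp) (oα : orderOf α = 3)
    (oβ : orderOf β = 3) (hc : Commute α β) (hne : β ∉ zpowers α) :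
    ∃ x y : H, x ∈ normalizer (A : Set H) ∧ y ∈ normalizer (A : Set H) ∧ C.im x = α ∧ C.im y = β ∧
      ∃ E : Subgroup H, E ≤ normalizer (A : Set H) ∧ IsMulCommutative ↥E ∧ Nat.card E = 9 ∧ (∀ e ∈ E, e ^ 3 = 1) ∧
        x ∈ E ∧ y ∈ E ∧ ∀ e ∈ E, ∃ i j : ℕ, e = x ^ i * y ^ j := by
  classical
  haveI : Fact (Nat.Prime 3) := ⟨Nat.prime_three⟩
  obtain ⟨m, hm, em⟩ := C.im_surj α hα
  obtain ⟨ox, ex⟩ := C.three_pow hm (em ▸ oα)
  rw [em] at ex
  set x := m ^ 4 with hx
  have hxN : x ∈ normalizer (A : Set H) := pow_mem hm 4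
  obtain ⟨n, hn, en⟩ := C.im_surj β hβ
  -- a fixed element of the coset
  letI : MulAction ↥(zpowers x) ↥{z : H | z ∈ normalizer (A : Set H) ∧ C.im z = β} :=
    { smul := fun q z => ⟨q.1 * z.1 * q.1⁻¹, by
        obtain ⟨k, hk⟩ := mem_zpowers_iff.1 q.2
        have hqN : q.1 ∈ normalizer (A : Set H) := (zpowers_le.2 hxN) q.2
        refine ⟨mul_mem (mul_mem hqN z.2.1) (inv_mem hqN), ?_⟩
        have hq : C.im q.1 = α ^ k := by
          let f : ↥(normalizer (A : Set H)) →* Equiv.Perm Vec :=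
            { toFun := fun z => C.im z, map_one' := C.im_one, map_mul' := fun a b => C.im_mul a a.2 b b.2 }
          rw [← hk, show C.im (x ^ k) = f ((⟨x, hxN⟩ : ↥(normalizer (A : Set H))) ^ k) by
            show _ = C.im ((⟨x, hxN⟩ : ↥(normalizer (A : Set H))) ^ k : ↥(normalizer (A : Set H))).1
            rw [SubgroupClass.coe_zpow], map_zpow]
          exact congrArg (· ^ k) ex
        rw [C.im_conjM hqN z.2.1, hq, z.2.2, (hc.zpow_left k).eq, mul_inv_cancel_right]⟩
      one_smul := fun z => Subtype.ext (by change (1 : H) * z.1 * (1 : H)⁻¹ = z.1; group)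
      mul_smul := fun p q z => Subtype.ext (by
        change (p.1 * q.1) * z.1 * (p.1 * q.1)⁻¹ = p.1 * (q.1 * z.1 * q.1⁻¹) * p.1⁻¹; group) }
  have hcard : Nat.card ↥{z : H | z ∈ normalizer (A : Set H) ∧ C.im z = β} = 256 := by
    rw [← C.card_A]
    exact (Nat.card_congr
      { toFun := fun a : ↥A => ⟨n * a, mul_mem hn (Subgroup.le_normalizer a.2), by
          rw [C.im_mul _ hn _ (Subgroup.le_normalizer a.2), C.im_A a.2, en, mul_one]⟩
        invFun := fun z => ⟨n⁻¹ * z.1, (C.im_ker _ (mul_mem (inv_mem hn) z.2.1)).1 (by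
          rw [C.im_mul _ (inv_mem hn) _ z.2.1, C.im_inv hn, en, z.2.2, inv_mul_cancel])⟩
        left_inv := fun a => Subtype.ext (inv_mul_cancel_left n a.1)
        right_inv := fun z => Subtype.ext (mul_inv_cancel_left n z.1) }).symm
  have hP : IsPGroup 3 ↥(zpowers x) := IsPGroup.of_card (p := 3) (n := 1) (by rw [Nat.card_zpowers, ox, pow_one])
  obtain ⟨⟨y0, hy0, ey0⟩, hfix⟩ := hP.nonempty_fixed_point_of_prime_not_dvd_card
    ↥{z : H | z ∈ normalizer (A : Set H) ∧ C.im z = β} (by rw [hcard]; norm_num)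
  have hxy0 : Commute x y0 := mul_inv_eq_iff_eq_mul.1 (congrArg Subtype.val (hfix ⟨x, mem_zpowers x⟩))
  obtain ⟨oy, ey⟩ := C.three_pow hy0 (ey0 ▸ oβ)
  rw [ey0] at ey
  set y := y0 ^ 4 with hy
  have hxy : Commute x y := hxy0.pow_right 4
  refine ⟨x, y, hxN, pow_mem hy0 4, ex, ey, zpowers x ⊔ zpowers y, sup_le (zpowers_le.2 hxN)
    (zpowers_le.2 (pow_mem hy0 4)), ?_⟩
  have hcom : ∀ (p : ↥(zpowers x)) (q : ↥(zpowers y)),
      Commute ((zpowers x).subtype p) ((zpowers y).subtype q) := by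
    rintro ⟨_, i, rfl⟩ ⟨_, j, rfl⟩
    exact (hxy.zpow_left i).zpow_right j
  let φ := MonoidHom.noncommCoprod (zpowers x).subtype (zpowers y).subtype hcom
  have hrange : φ.range = zpowers x ⊔ zpowers y := by
    rw [MonoidHom.noncommCoprod_range, Subgroup.range_subtype, Subgroup.range_subtype]
  have hdisj : Disjoint (zpowers x) (zpowers y) := by
    rw [disjoint_iff, eq_bot_iff]
    intro z hz
    obtain ⟨hzx, hzy⟩ := mem_inf.1 hz
    by_contra hz1
    rw [mem_bot] at hz1
    have hoz : orderOf z = 3 := by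
      rcases (Nat.dvd_prime Nat.prime_three).1 (oy ▸ orderOf_dvd_of_mem_zpowers hzy) with h | h
      · exact absurd (orderOf_eq_one_iff.1 h) hz1
      · exact h
    have : zpowers z = zpowers y := eq_of_le_of_card_ge (zpowers_le.2 hzy) (by
      rw [Nat.card_zpowers, Nat.card_zpowers, hoz, oy])
    obtain ⟨k, hk⟩ := mem_zpowers_iff.1 (zpowers_le.2 hzx (this ▸ mem_zpowers y))
    refine hne ?_
    let f : ↥(normalizer (A : Set H)) →* Equiv.Perm Vec :=
      { toFun := fun z => C.im z, map_one' := C.im_one, map_mul' := fun a b => C.im_mul a a.2 b b.2 }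
    have he : (⟨y, pow_mem hy0 4⟩ : ↥(normalizer (A : Set H))) = ⟨x, hxN⟩ ^ k := Subtype.ext (by
      rw [SubgroupClass.coe_zpow]; exact hk.symm)
    have := congrArg f he
    rw [map_zpow] at this
    change C.im y = C.im x ^ k at this
    rw [ey, ex] at this
    exact mem_zpowers_iff.2 ⟨k, this.symm⟩
  have hinj : Function.Injective φ := by
    rw [MonoidHom.noncommCoprod_injective]
    exact ⟨Subtype.val_injective, Subtype.val_injective, by
      rwa [Subgroup.range_subtype, Subgroup.range_subtype]⟩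
  have hpow : ∀ e ∈ zpowers x ⊔ zpowers y, ∃ i j : ℕ, e = x ^ i * y ^ j := by
    intro e he
    obtain ⟨⟨p, q⟩, rfl⟩ := hrange.symm ▸ he
    obtain ⟨i, hi⟩ := (mem_powers_iff_mem_zpowers (x := x) (y := p.1)).2 p.2
    obtain ⟨j, hj⟩ := (mem_powers_iff_mem_zpowers (x := y) (y := q.1)).2 q.2
    exact ⟨i, j, by show p.1 * q.1 = _; rw [← hi, ← hj]⟩
  refine ⟨⟨⟨fun a b => Subtype.ext ?_⟩⟩, ?_, fun e he => ?_, mem_sup_left (mem_zpowers _),
    mem_sup_right (mem_zpowers _), hpow⟩
  · obtain ⟨i, j, ha⟩ := hpow a a.2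
    obtain ⟨k, l, hb⟩ := hpow b b.2
    show (a : H) * b = b * a
    rw [ha, hb]
    exact ((((Commute.refl x).pow_pow i k).mul_right (hxy.pow_pow i l)).mul_left
      ((hxy.symm.pow_pow j k).mul_right ((Commute.refl y).pow_pow j l))).eq
  · rw [← hrange, ← Nat.card_congr (MonoidHom.ofInjective hinj).toEquiv, Nat.card_prod, Nat.card_zpowers,
      Nat.card_zpowers, ox, oy]
  · obtain ⟨i, j, rfl⟩ := hpow e he
    have hx3 : x ^ 3 = 1 := by rw [← ox, pow_orderOf_eq_one]
    have hy3 : y ^ 3 = 1 := by rw [← oy, pow_orderOf_eq_one]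
    rw [(hxy.pow_pow i j).mul_pow, ← pow_mul x i 3, ← pow_mul y j 3, pow_mul' x, pow_mul' y, hx3, hy3, one_pow,
      one_pow, one_mul]

/-- **The translate structure**: the commutators with a bad involution are commutators of its fixed points with a
2-group centralising it. -/
theorem Coords.conn_zero {r : H} (hb : Bad A r) (hr : C.im r = tvV p0) :
    ∃ T : Subgroup H, IsPGroup 2 T ∧ T ≤ normalizer (A : Set H) ⊓ centralizer ({r} : Set H) ∧
    A ⊓ centralizer ({r} : Set H) ≤ T ∧ ∀ a ∈ A,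
      ⁅a, r⁆ ∈ closure {c | ∃ f ∈ A ⊓ centralizer ({r} : Set H), ∃ u ∈ T, c = ⁅f, u⁆} := by
  classical
  obtain ⟨hp, hcA, hcB, -, ⟨u, huC, hval, hcu⟩, hrad, hradv, hperp, hbadd⟩ := centre_spec
  obtain ⟨oA, oB, hAB, hne, -, -⟩ := pairOK_spec hp
  obtain ⟨x, y, hx, hy, ex, ey, E, hEN, -, hE9, hE3, hxE, hyE, hEpow⟩ :=
    C.lift_pair (wordP_mem _) (wordP_mem _) oA oB hAB hne
  have hrN := hb.mem
  -- the involutions over the transvection
  have hinv : ∀ {z : H}, z ∈ normalizer (A : Set H) → C.im z = tvV p0 → z * z = 1 →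
      ∀ {d : H}, d ∈ A → (z * d * (z * d) = 1 ↔ tvV p0 (C.c d) = C.c d) := by
    intro z hz ez hz2 d hd
    have e : z * d * (z * d) = (z * d * z⁻¹) * d := by
      rw [inv_eq_of_mul_eq_one_right hz2]; group
    have hm := conjN hz hd
    rw [e, ← ez, ← C.im_conj z hz d hd]
    refine ⟨fun h => ?_, fun h => ?_⟩
    · rw [mul_eq_one_iff_eq_inv, C.inv_eq hd] at h; rw [h]
    · rw [C.c_inj _ hm _ hd h]; exact C.sq d hd
  -- the fixed point of the group of order nine among the involutions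
  let Ω : Set H := {z | z ∈ normalizer (A : Set H) ∧ C.im z = tvV p0 ∧ z * z = 1}
  have himE : ∀ e ∈ E, Commute (C.im e) (tvV p0) := by
    intro e he
    obtain ⟨i, j, rfl⟩ := hEpow e he
    rw [C.im_mul _ (pow_mem hx i) _ (pow_mem hy j), C.im_pow hx, C.im_pow hy, ex, ey]
    exact ((hcA.pow_right i).mul_right (hcB.pow_right j)).symm
  letI : MulAction ↥E ↥Ω :=
    { smul := fun q z => ⟨q.1 * z.1 * q.1⁻¹, mul_mem (mul_mem (hEN q.2) z.2.1) (inv_mem (hEN q.2)), by
          rw [C.im_conjM (hEN q.2) z.2.1, z.2.2.1, (himE q.1 q.2).eq, mul_inv_cancel_right], by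
          rw [conj_mul, z.2.2.2, mul_one, mul_inv_cancel]⟩
      one_smul := fun z => Subtype.ext (by change (1 : H) * z.1 * (1 : H)⁻¹ = z.1; group)
      mul_smul := fun p q z => Subtype.ext (by
        change (p.1 * q.1) * z.1 * (p.1 * q.1)⁻¹ = p.1 * (q.1 * z.1 * q.1⁻¹) * p.1⁻¹; group) }
  have hΩ : Nat.card ↥Ω = 64 := by
    rw [← tv_card p0, ← Nat.card_eq_finsetCard]
    let eΩ : ↥(fixSet (tvV p0)) ≃ ↥Ω :=
      { toFun := fun v => ⟨r * C.el v, mul_mem hrN (Subgroup.le_normalizer (C.el_mem _)), by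
          rw [C.im_mul _ hrN _ (Subgroup.le_normalizer (C.el_mem _)), C.im_A (C.el_mem _), hr, mul_one],
          (hinv hrN hr hb.sq (C.el_mem _)).2 (by rw [C.c_el]; exact mem_fixSet.1 v.2)⟩
        invFun := fun z => ⟨C.c (r⁻¹ * z.1), mem_fixSet.2 ((hinv hrN hr hb.sq ((C.im_ker _
            (mul_mem (inv_mem hrN) z.2.1)).1 (by
              rw [C.im_mul _ (inv_mem hrN) _ z.2.1, C.im_inv hrN, hr, z.2.2.1, inv_mul_cancel]))).1 (by
            rw [mul_inv_cancel_left]; exact z.2.2.2))⟩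
        left_inv := fun v => Subtype.ext (by
          show C.c (r⁻¹ * (r * C.el v)) = v
          rw [inv_mul_cancel_left, C.c_el])
        right_inv := fun z => Subtype.ext (by
          show r * C.el (C.c (r⁻¹ * z.1)) = z.1
          rw [C.el_c ((C.im_ker _ (mul_mem (inv_mem hrN) z.2.1)).1 (by
              rw [C.im_mul _ (inv_mem hrN) _ z.2.1, C.im_inv hrN, hr, z.2.2.1, inv_mul_cancel])),
            mul_inv_cancel_left]) }
    exact (Nat.card_congr eΩ).symm
  haveI : Fact (Nat.Prime 3) := ⟨Nat.prime_three⟩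
  obtain ⟨⟨r0, hr0, er0, hr02⟩, hfix⟩ := (IsPGroup.of_card (p := 3) (n := 2) (by rw [hE9]; norm_num) :
    IsPGroup 3 ↥E).nonempty_fixed_point_of_prime_not_dvd_card ↥Ω (by rw [hΩ]; norm_num)
  have hEr0 : ∀ e ∈ E, e * r0 * e⁻¹ = r0 := fun e he => congrArg Subtype.val (hfix ⟨e, he⟩)
  have hT : Additive (tvV p0) := additive_of_mem (lin_le (tvV_mem _))
  -- translates of the fixed one
  have key : ∀ {c : Vec}, tvV p0 c = c → Bad A (r0 * C.el c) → badB (c : ℕ) = true := by
    intro c hc hbc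
    by_contra hnot
    obtain ⟨e, he, hre⟩ := not_bad_word hc (by simpa using hnot)
    obtain ⟨hel, i, j, eij⟩ := nine_pow (List.mem_of_mem_drop he)
    set m := x ^ i * y ^ j with hm
    have hmN : m ∈ normalizer (A : Set H) := mul_mem (pow_mem hx i) (pow_mem hy j)
    have emE : m ∈ E := mul_mem (pow_mem hxE i) (pow_mem hyE j)
    have em : C.im m = wordP e := by
      rw [hm, C.im_mul _ (pow_mem hx i) _ (pow_mem hy j), C.im_pow hx, C.im_pow hy, ex, ey, eij]
    have hrad' : radB ((xorV c (wordP e c) : Vec) : ℕ) = true := by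
      show radB (Nat.xor (c : ℕ) (wordP e c : ℕ)) = true
      rw [← wordP_val hel]; exact hre
    obtain ⟨-, ⟨v, hv⟩, -⟩ := hradv _ hrad'
    have hmem : C.el c * (m * C.el c * m⁻¹) ∈ A := A.mul_mem (C.el_mem _) (conjN hmN (C.el_mem _))
    have he' : m * (r0 * C.el c) * m⁻¹ = r0 * C.el c * (C.el c * (m * C.el c * m⁻¹)) := by
      rw [mul_assoc r0, ← mul_assoc (C.el c) (C.el c), C.sq _ (C.el_mem c), one_mul,
        show m * (r0 * C.el c) * m⁻¹ = m * r0 * m⁻¹ * (m * C.el c * m⁻¹) by group, hEr0 m emE]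
    have himr : C.im (r0 * C.el c) = tvV p0 := by
      rw [C.im_mul _ hr0 _ (Subgroup.le_normalizer (C.el_mem _)), C.im_A (C.el_mem _), er0, mul_one]
    obtain ⟨hyy, eyy, hcy⟩ := C.adjust hbc.mem hbc.sq hmN (C.el_mem v) hmem he' (by
      rw [C.c_mul _ (C.el_mem _) _ (conjN hmN (C.el_mem _)), C.im_conj m hmN _ (C.el_mem _), C.c_el, C.c_el, em,
        himr, hv])
    refine C.no_over hbc hyy hcy ?_
    rw [eyy, em]
    have hall : ((nineW.drop 1).all threeB) = true := by decide +kernel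
    exact (threeB_spec (List.all_eq_true.1 hall e he)).2
  have hd0A : r0⁻¹ * r ∈ A := (C.im_ker _ (mul_mem (inv_mem hr0) hrN)).1 (by
    rw [C.im_mul _ (inv_mem hr0) _ hrN, C.im_inv hr0, er0, hr, inv_mul_cancel])
  set c := C.c (r0⁻¹ * r) with hcdef
  have hrc : r = r0 * C.el c := by rw [hcdef, C.el_c hd0A, mul_inv_cancel_left]
  have hcfix : tvV p0 c = c := (hinv hr0 er0 hr02 hd0A).1 (by rw [mul_inv_cancel_left]; exact hb.sq)
  have hcbad := key hcfix (hrc ▸ hb)
  -- the core element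
  obtain ⟨u', hu', eu'⟩ := C.im_surj u (core_le_St huC).1
  have hu'r0 : r0⁻¹ * (u' * r0 * u'⁻¹) ∈ A := by
    have hN := mul_mem (mul_mem hu' hr0) (inv_mem hu')
    refine (C.im_ker _ (mul_mem (inv_mem hr0) hN)).1 ?_
    rw [C.im_mul _ (inv_mem hr0) _ hN, C.im_inv hr0, C.im_conjM hu' hr0, er0, eu', ← hcu.eq, mul_inv_cancel_right,
      inv_mul_cancel]
  set d := C.c (r0⁻¹ * (u' * r0 * u'⁻¹)) with hddef
  have hd : u' * r0 * u'⁻¹ = r0 * C.el d := by rw [hddef, C.el_c hu'r0, mul_inv_cancel_left]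
  have hdfix : tvV p0 d = d := (hinv hr0 er0 hr02 hu'r0).1 (by
    rw [mul_inv_cancel_left, conj_mul, hr02, mul_one, mul_inv_cancel])
  have hdrad : radB (d : ℕ) = true := by
    by_contra hnot
    obtain ⟨e, he, hno⟩ := hbadd c hcbad d hdfix (by simpa using hnot)
    obtain ⟨hel, i, j, eij⟩ := nine_pow he
    set m := x ^ i * y ^ j with hm
    have hmN : m ∈ normalizer (A : Set H) := mul_mem (pow_mem hx i) (pow_mem hy j)
    have emE : m ∈ E := mul_mem (pow_mem hxE i) (pow_mem hyE j)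
    have em : C.im m = wordP e := by
      rw [hm, C.im_mul _ (pow_mem hx i) _ (pow_mem hy j), C.im_pow hx, C.im_pow hy, ex, ey, eij]
    -- conjugate by the element, the core element and back
    have hc' : C.c (m⁻¹ * C.el c * m) = (wordP e)⁻¹ c := by
      have := C.im_conj m⁻¹ (inv_mem hmN) _ (C.el_mem c)
      rwa [inv_inv, C.im_inv hmN, em, C.c_el] at this
    set c1 := (wordP e)⁻¹ c with hc1
    have hrot : m⁻¹ * C.el c * m = C.el c1 := by
      have hmem' : m⁻¹ * C.el c * m ∈ A := by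
        have := conjN (inv_mem hmN) (C.el_mem c)
        rwa [inv_inv] at this
      exact ((congrArg C.el hc').symm.trans (C.el_c hmem')).symm
    have hr0' : m⁻¹ * r0 * m = r0 := by have := hEr0 _ (inv_mem emE); rwa [inv_inv] at this
    set g := m * u' * m⁻¹ with hg
    have hgN : g ∈ normalizer (A : Set H) := mul_mem (mul_mem hmN hu') (inv_mem hmN)
    have hb' := C.bad_conj hb hgN
    have hu'c := conjN hu' (C.el_mem c1)
    have hmd := conjN hmN (C.el_mem d)
    have hmu := conjN hmN hu'c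
    have e1 : g * r * g⁻¹ = r0 * C.el (xorV (wordP e d) (wordP e (u c1))) := by
      have hel' : C.el (xorV (wordP e d) (wordP e (u c1))) =
          (m * C.el d * m⁻¹) * (m * (u' * C.el c1 * u'⁻¹) * m⁻¹) :=
        C.c_inj _ (C.el_mem _) _ (A.mul_mem hmd hmu) (by
          rw [C.c_el, C.c_mul _ hmd _ hmu, C.im_conj m hmN _ (C.el_mem _), C.im_conj m hmN _ hu'c,
            C.im_conj u' hu' _ (C.el_mem _), C.c_el, C.c_el, em, eu'])
      calc g * r * g⁻¹ = m * (u' * ((m⁻¹ * r0 * m) * (m⁻¹ * C.el c * m)) * u'⁻¹) * m⁻¹ := by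
            rw [hg, hrc]; group
        _ = m * (u' * r0 * u'⁻¹) * m⁻¹ * (m * (u' * C.el c1 * u'⁻¹) * m⁻¹) := by rw [hr0', hrot]; group
        _ = m * r0 * m⁻¹ * (m * C.el d * m⁻¹) * (m * (u' * C.el c1 * u'⁻¹) * m⁻¹) := by rw [hd]; group
        _ = _ := by rw [hEr0 m emE, hel', mul_assoc]
    have hcomm_e : Commute (wordP e) (tvV p0) := em ▸ himE m emE
    have hc1fix : tvV p0 c1 = c1 := by
      have := congrArg (fun σ : Equiv.Perm Vec => σ c) hcomm_e.inv_left.eq
      simp only [Equiv.Perm.mul_apply] at this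
      rw [hc1, ← this, hcfix]
    have hfixall : tvV p0 (xorV (wordP e d) (wordP e (u c1))) = xorV (wordP e d) (wordP e (u c1)) := by
      have hu1 : tvV p0 (u c1) = u c1 := by
        rw [← Equiv.Perm.mul_apply, hcu.eq, Equiv.Perm.mul_apply, hc1fix]
      have hd1 : ∀ v, tvV p0 v = v → tvV p0 (wordP e v) = wordP e v := fun v hv => by
        rw [← Equiv.Perm.mul_apply, ← hcomm_e.eq, Equiv.Perm.mul_apply, hv]
      rw [hT, hd1 d hdfix, hd1 _ hu1]
    have hbad' := key hfixall (e1 ▸ hb')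
    -- the same class as the sum
    have hρ : radB ((xorV c1 (u c1) : Vec) : ℕ) = true := by
      show radB (Nat.xor (c1 : ℕ) (u c1 : ℕ)) = true
      rw [← hval]; exact hperp c1 hc1fix
    obtain ⟨-, ⟨a0, ha0⟩, -⟩ := hradv _ hρ
    set ρ := xorV c1 (u c1) with hρdef
    have hrho' : radB ((wordP e ρ : Vec) : ℕ) = true := by
      have h1 : wordP e ρ = xorV (wordP e a0) (tvV p0 (wordP e a0)) := by
        rw [← ha0, additive_word e, ← Equiv.Perm.mul_apply (wordP e) (tvV p0), hcomm_e.eq]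
        rfl
      rw [h1]; exact hrad _
    have hsum : xorV (wordP e d) (wordP e (u c1)) = xorV (xorV c (wordP e d)) (wordP e ρ) := by
      have hec : wordP e c1 = c := (wordP e).apply_symm_apply c
      rw [hρdef, additive_word e c1 (u c1), hec]
      refine Fin.ext ?_
      show (_ : ℕ) ^^^ _ = ((c : ℕ) ^^^ _) ^^^ ((c : ℕ) ^^^ _)
      rw [← Nat.xor_assoc, Nat.xor_comm ((c : ℕ) ^^^ _) (c : ℕ), ← Nat.xor_assoc, Nat.xor_self, Nat.zero_xor]
    have hn := hno _ hrho'
    rw [wordP_val hel] at hn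
    rw [hsum] at hbad'
    exact Bool.noConfusion (hn.symm.trans hbad')
  -- the companion of the core element
  have hsum : radB ((xorV d (xorV c (u c)) : Vec) : ℕ) = true := by
    have h2 : radB ((xorV c (u c) : Vec) : ℕ) = true := by
      show radB (Nat.xor (c : ℕ) (u c : ℕ)) = true
      rw [← hval]; exact hperp c hcfix
    obtain ⟨-, ⟨a1, ha1⟩, -⟩ := hradv d hdrad
    obtain ⟨-, ⟨a2, ha2⟩, -⟩ := hradv _ h2
    have : xorV d (xorV c (u c)) = xorV (xorV a1 a2) (tvV p0 (xorV a1 a2)) := by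
      rw [← ha1, ← ha2, hT]
      exact xorV_four _ _ _ _
    rw [this]; exact hrad _
  obtain ⟨-, ⟨v, hv⟩, -⟩ := hradv _ hsum
  have hmem : C.el c * (C.el d * (u' * C.el c * u'⁻¹)) ∈ A :=
    A.mul_mem (C.el_mem _) (A.mul_mem (C.el_mem _) (conjN hu' (C.el_mem _)))
  obtain ⟨hU, eU, hUr⟩ := C.adjust hrN hb.sq hu' (C.el_mem v) hmem (by
    rw [hrc, show r0 * C.el c * (C.el c * (C.el d * (u' * C.el c * u'⁻¹))) =
        r0 * (C.el c * C.el c) * C.el d * (u' * C.el c * u'⁻¹) by group, C.sq _ (C.el_mem c), mul_one,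
      show u' * (r0 * C.el c) * u'⁻¹ = u' * r0 * u'⁻¹ * (u' * C.el c * u'⁻¹) by group, hd]) (by
    rw [C.c_mul _ (C.el_mem _) _ (A.mul_mem (C.el_mem _) (conjN hu' (C.el_mem _))),
      C.c_mul _ (C.el_mem _) _ (conjN hu' (C.el_mem _)), C.im_conj u' hu' _ (C.el_mem _), C.c_el, C.c_el, C.c_el,
      eu', hr, hv]
    refine Fin.ext ?_
    show (c : ℕ) ^^^ ((d : ℕ) ^^^ _) = (d : ℕ) ^^^ ((c : ℕ) ^^^ _)
    exact Nat.xor_left_comm _ _ _)
  -- the group
  let T : Subgroup H :=
    { carrier := {m | m ∈ normalizer (A : Set H) ∧ Commute m r ∧ C.im m ∈ Core}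
      one_mem' := ⟨one_mem _, Commute.one_left r, by rw [C.im_one]; exact one_mem _⟩
      mul_mem' := fun {a b} ha hb' => ⟨mul_mem ha.1 hb'.1, ha.2.1.mul_left hb'.2.1, by
        rw [C.im_mul _ ha.1 _ hb'.1]; exact mul_mem ha.2.2 hb'.2.2⟩
      inv_mem' := fun {a} ha => ⟨inv_mem ha.1, ha.2.1.inv_left, by rw [C.im_inv ha.1]; exact inv_mem ha.2.2⟩ }
  refine ⟨T, fun m => ⟨6, Subtype.ext ?_⟩, fun m hm => mem_inf.2 ⟨hm.1, mem_cent_one.2 hm.2.1⟩, fun f hf => ?_,
    fun a ha => ?_⟩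
  · obtain ⟨hmN, -, hmC⟩ := m.2
    have h32 : C.im (m : H) ^ 32 = 1 :=
      orderOf_dvd_iff_pow_eq_one.1 (by
        have := orderOf_dvd_natCard (⟨_, hmC⟩ : ↥Core)
        rwa [card_Core, Subgroup.orderOf_mk] at this)
    have : (m : H) ^ 32 ∈ A := (C.im_ker _ (pow_mem hmN 32)).1 (by rw [C.im_pow hmN, h32])
    rw [SubmonoidClass.coe_pow, show (2 : ℕ) ^ 6 = 32 + 32 from rfl, pow_add, C.sq _ this]
    rfl
  · obtain ⟨hfA, hfC⟩ := mem_inf.1 hf
    exact ⟨Subgroup.le_normalizer hfA, mem_cent_one.1 hfC, by rw [C.im_A hfA]; exact one_mem _⟩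
  · have hin : ⁅a, r⁆ = a * (r * a * r⁻¹) := by
      rw [commutatorElement_def, show a * r * a⁻¹ * r⁻¹ = a * (r * a⁻¹ * r⁻¹) by group, C.inv_eq ha]
    have hcin : C.c ⁅a, r⁆ = xorV (C.c a) (tvV p0 (C.c a)) := by
      rw [hin, C.c_mul _ ha _ (conjN hrN ha), C.im_conj r hrN a ha, hr]
    obtain ⟨-, -, f, hf, ef⟩ := hradv _ (hrad (C.c a))
    have hfA := C.el_mem f
    refine subset_closure ⟨C.el f, mem_inf.2 ⟨hfA, mem_cent_one.2 ((C.comm_iff hrN hfA).2 (by
      rw [hr, C.c_el, hf]))⟩, C.el v * u', ⟨hU, hUr, by rw [eU, eu']; exact huC⟩, ?_⟩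
    have hgen : ⁅C.el f, C.el v * u'⁆ = C.el f * ((C.el v * u') * C.el f * (C.el v * u')⁻¹) := by
      rw [commutatorElement_def, show C.el f * (C.el v * u') * (C.el f)⁻¹ * (C.el v * u')⁻¹ =
        C.el f * ((C.el v * u') * (C.el f)⁻¹ * (C.el v * u')⁻¹) by group, C.inv_eq hfA]
    refine C.c_inj _ (by rw [hin]; exact A.mul_mem ha (conjN hrN ha)) _
      (by rw [hgen]; exact A.mul_mem hfA (conjN hU hfA)) ?_
    rw [hcin, hgen, C.c_mul _ hfA _ (conjN hU hfA), C.im_conj _ hU _ hfA, eU, eu', C.c_el]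
    refine Fin.ext ?_
    show _ = Nat.xor (f : ℕ) (u f : ℕ)
    rw [← hval, ef]

theorem Coords.conn {r : H} (hb : Bad A r) :
    ∃ T : Subgroup H, IsPGroup 2 T ∧ T ≤ normalizer (A : Set H) ⊓ centralizer ({r} : Set H) ∧
    A ⊓ centralizer ({r} : Set H) ≤ T ∧ ∀ a ∈ A,
      ⁅a, r⁆ ∈ closure {c | ∃ f ∈ A ⊓ centralizer ({r} : Set H), ∃ u ∈ T, c = ⁅f, u⁆} := by
  obtain ⟨p, hp⟩ := C.bad_tv hb
  obtain ⟨γ, hγ, e⟩ := exists_to (rep_spec p).1
  obtain ⟨m, hm, em⟩ := C.im_surj γ hγ
  have hp0 : ptHom ⟨γ, hγ⟩ p0 = p := by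
    have h05 : pIdx v5 = p0 := by decide +kernel
    rw [← h05, ptHom_apply]
    show pIdx (γ (repV (pIdx v5))) = p
    rw [← pIdx_map hγ sing_v5, e]
    exact (rep_spec p).2
  have hb0 := C.bad_conj hb (inv_mem hm)
  rw [inv_inv] at hb0
  obtain ⟨T, hT2, hTle, hΦT, hcom⟩ := C.conn_zero hb0 (by
    have := C.im_conjM (inv_mem hm) hb.mem
    rw [inv_inv] at this
    rw [this, hp, C.im_inv hm, inv_inv, em, ← hp0, ← tvV_conj hγ p0]
    group)
  set f := (MulAut.conj m).toMonoidHom with hf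
  have hfr : f (m⁻¹ * r * m) = r := by rw [hf]; simp [mul_assoc]
  refine ⟨T.map f, hT2.map f, ?_, ?_, fun a ha => ?_⟩
  · rintro _ ⟨t, ht, rfl⟩
    obtain ⟨htN, htC⟩ := mem_inf.1 (hTle ht)
    refine mem_inf.2 ⟨mul_mem (mul_mem hm htN) (inv_mem hm), mem_cent_one.2 ?_⟩
    exact hfr ▸ (mem_cent_one.1 htC).map f
  · intro z hz
    obtain ⟨hzA, hzC⟩ := mem_inf.1 hz
    refine ⟨m⁻¹ * z * m, hΦT (mem_inf.2 ⟨by have := conjN (inv_mem hm) hzA; rwa [inv_inv] at this,
      mem_cent_one.2 ?_⟩), by rw [hf]; simp [mul_assoc]⟩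
    have := (mem_cent_one.1 hzC).map (MulAut.conj m⁻¹).toMonoidHom
    simpa using this
  · have ha' : m⁻¹ * a * m ∈ A := by have := conjN (inv_mem hm) ha; rwa [inv_inv] at this
    have h := mem_map_of_mem f (hcom _ ha')
    rw [map_commutatorElement, hfr, show f (m⁻¹ * a * m) = a by rw [hf]; simp [mul_assoc],
      MonoidHom.map_closure] at h
    refine (Subgroup.closure_mono ?_) h
    rintro _ ⟨_, ⟨φ, hφ, u, hu, rfl⟩, rfl⟩
    obtain ⟨hφA, hφC⟩ := mem_inf.1 hφ
    exact ⟨f φ, mem_inf.2 ⟨conjN hm hφA, mem_cent_one.2 (hfr ▸ (mem_cent_one.1 hφC).map f)⟩, f u, ⟨u, hu, rfl⟩,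
      map_commutatorElement f φ u⟩

omit [Finite H] in
theorem Coords.mem_fix_iff {m : H} (hm : m ∈ normalizer (A : Set H)) {v : Vec} :
    Commute (C.el v) m ↔ v ∈ fixSet (C.im m) := by
  rw [C.comm_iff hm (C.el_mem v), C.c_el, mem_fixSet]

theorem Coords.badFacts : BadFacts A := by
  classical
  refine ⟨fun r s hr hs hc hor => ?_, fun r hr => ?_, fun r hr => C.conn hr, fun r hr F hF hpair hcomm m hm => ?_⟩
  · by_contra hne
    have hrs := hor.resolve_left hne
    obtain ⟨p, hp⟩ := C.bad_tv hr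
    obtain ⟨q, hq⟩ := C.bad_tv hs
    obtain ⟨t, ht⟩ := C.bad_tv hrs
    have h1 : C.im (r * s) = tvV p * tvV q := by rw [C.im_mul r hr.mem s hs.mem, hp, hq]
    by_cases hpq : p = q
    · exact hne ((C.im_ker _ hrs.mem).1 (by rw [h1, hpq, tvV_sq]))
    have hcomm' : tvV p * tvV q = tvV q * tvV p := by
      rw [← h1, hc.eq, C.im_mul s hs.mem r hr.mem, hp, hq]
    have e2 : tvP p * tvP q = tvP t := by
      rw [← ptHom_tv, ← ptHom_tv, ← ptHom_tv, ← map_mul]
      exact congrArg ptHom (Subtype.ext (h1.symm.trans ht))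
    have e3 : Commute (tvP p) (tvP q) := by
      show tvP p * tvP q = tvP q * tvP p
      rw [← ptHom_tv, ← ptHom_tv, ← map_mul, ← map_mul]
      exact congrArg ptHom (Subtype.ext hcomm')
    exact prod_ne_tv ((U62Rec.Model.comm_iff hpq).1 e3) e2
  · obtain ⟨p, hp⟩ := C.bad_tv hr
    rw [C.card_fix hr.mem, hp, tv_card, C.card_A]
    norm_num
  · obtain ⟨p, hp⟩ := C.bad_tv hr
    obtain ⟨hmN, hmC⟩ := mem_inf.1 hm
    set Φ := A ⊓ centralizer ({r} : Set H) with hΦ
    have hΦc : Nat.card ↥Φ = 64 := by rw [hΦ, C.card_fix hr.mem, hp, tv_card]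
    -- the part is large
    have h32 : 32 ≤ Nat.card ↥F := by
      by_cases hall : ∀ f ∈ Φ, f ∈ F
      · have := Nat.le_of_dvd Nat.card_pos (Subgroup.card_dvd_of_le (show Φ ≤ F from hall))
        omega
      push Not at hall
      obtain ⟨f0, hf0, hf0F⟩ := hall
      let ψ : ↥Φ → ↥F × Bool := fun f =>
        if h : (f : H) ∈ F then (⟨f, h⟩, true) else (⟨f * f0, hpair f f.2 f0 hf0 h hf0F⟩, false)
      have hψ : Function.Injective ψ := by
        intro a b e
        simp only [ψ] at e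
        split_ifs at e with h1 h2 h2 <;>
          simp only [Prod.mk.injEq, Subtype.mk.injEq, Bool.true_eq_false, Bool.false_eq_true, and_false,
            and_true, mul_left_inj] at e
        · exact Subtype.ext e
        · exact Subtype.ext e
      have := Nat.card_le_card_of_injective ψ hψ
      rw [Nat.card_prod, Nat.card_eq_fintype_card (α := Bool), Fintype.card_bool] at this
      omega
    have hFA : F ≤ A := hF.trans inf_le_left
    set W := Finset.univ.filter fun v : Vec => C.el v ∈ F with hW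
    have hWc : W.card = Nat.card ↥F := by
      rw [← Nat.card_eq_finsetCard]
      let e : ↥W ≃ ↥F :=
        { toFun := fun v => ⟨C.el v, (Finset.mem_filter.1 v.2).2⟩
          invFun := fun a => ⟨C.c a, Finset.mem_filter.2 ⟨Finset.mem_univ _, by rw [C.el_c (hFA a.2)]; exact a.2⟩⟩
          left_inv := fun v => Subtype.ext (C.c_el v)
          right_inv := fun a => Subtype.ext (C.el_c (hFA a.2)) }
      exact Nat.card_congr e
    have hWr : W ⊆ fixSet (tvV p) := fun v hv =>
      hp ▸ (C.mem_fix_iff hr.mem).1 (mem_cent_one.1 (mem_inf.1 (hF (Finset.mem_filter.1 hv).2)).2)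
    have hWm : W ⊆ fixSet (C.im m) := fun v hv =>
      (C.mem_fix_iff hmN).1 (mem_centralizer_iff.1 hmC _ (Finset.mem_filter.1 hv).2)
    have hcard := Finset.card_le_card hWm
    rcases (fix_facts (C.im_mem m hmN) (by omega)).big (by omega) with h | ⟨q, h⟩
    · exact Or.inl ((C.im_ker m hmN).1 h)
    · refine Or.inr ((C.im_ker _ (mul_mem hr.mem hmN)).1 ?_)
      rw [C.im_mul r hr.mem m hmN, hp, h, tv_unique hWr (h ▸ hWm) (by omega), tvV_sq]

omit [Finite H] in
omit C in
/-- A property of vectors closed under sums holds once it holds on the basis. -/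
theorem basis_induction (P : Vec → Prop) (h0 : P z0V) (hb : ∀ j (h : 2 ^ j < 256), j < 8 → P (vec (2 ^ j) h))
    (hx : ∀ a b, P a → P b → P (xorV a b)) : ∀ v, P v := by
  suffices ∀ k ≤ 8, ∀ v : Vec, (v : ℕ) < 2 ^ k → P v from fun v => this 8 le_rfl v v.2
  intro k
  induction k with
  | zero =>
    intro _ v hv
    rw [show v = z0V from Fin.ext (show (v : ℕ) = 0 by simpa using hv)]
    exact h0
  | succ k ih =>
    intro hk v hv
    by_cases hlt : (v : ℕ) < 2 ^ k
    · exact ih (by omega) v hlt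
    have h256 : 2 ^ k < 256 := Nat.pow_lt_pow_right (m := k) (n := 8) (by norm_num) (by omega)
    have hsmall : ((xorV (vec (2 ^ k) h256) v : Vec) : ℕ) < 2 ^ k := by
      show 2 ^ k ^^^ (v : ℕ) < 2 ^ k
      refine Nat.lt_pow_two_of_testBit _ fun i hi => ?_
      rw [Nat.testBit_xor]
      rcases Nat.eq_or_lt_of_le hi with rfl | hi'
      · rw [Nat.testBit_two_pow_self]
        have : (v : ℕ).testBit k = true := by
          rw [Nat.testBit_eq_decide_div_mod_eq, decide_eq_true_eq]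
          rw [Nat.div_eq_of_lt_le (k := 1) (by omega) (by rw [pow_succ] at hv; omega)]
        rw [this]; rfl
      · rw [Nat.testBit_two_pow_of_ne (by omega), Bool.false_xor]
        exact Nat.testBit_eq_false_of_lt (lt_of_lt_of_le hv (Nat.pow_le_pow_right two_pos hi'))
    rw [← xorV_cancel (vec (2 ^ k) h256) v]
    exact hx _ _ (hb k h256 (by omega)) (ih (by omega) _ hsmall)

omit [Finite H] in
omit C in
theorem bits_code : ∀ b0 b1 b2 b3 b4 b5 b6 b7 : Bool, ((List.range 256).any fun l =>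
    (l.testBit 0 == b0) && (l.testBit 1 == b1) && (l.testBit 2 == b2) && (l.testBit 3 == b3) &&
      (l.testBit 4 == b4) && (l.testBit 5 == b5) && (l.testBit 6 == b6) && (l.testBit 7 == b7)) = true := by
  decide +kernel

omit [Finite H] in
omit C in
/-- A functional on the vectors is given by the polar form. -/
theorem exists_dual (φ : Vec → ℕ) (hφ : ∀ v, φ v = 0 ∨ φ v = 1)
    (hadd : ∀ a b, φ (xorV a b) = φ a ^^^ φ b) : ∃ u : Vec, ∀ v : Vec, polC u v = φ v := by
  let b : ℕ → Bool := fun j => decide (∃ h : 2 ^ j < 256, φ (vec (2 ^ j) h) = 1)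
  obtain ⟨l, hl, hbits⟩ := List.any_eq_true.1 (bits_code (b 0) (b 1) (b 2) (b 3) (b 4) (b 5) (b 6) (b 7))
  simp only [Bool.and_eq_true, beq_iff_eq] at hbits
  obtain ⟨u, hu, hub⟩ := List.any_eq_true.1 (allBelow_spec _ _ dual_ok l (List.mem_range.1 hl))
  refine ⟨vec u (List.mem_range.1 hu), basis_induction _ ?_ (fun j h hj => ?_) fun a a' ha ha' => ?_⟩
  · have h0 : φ z0V = 0 := by
      have h := hadd z0V z0V
      rw [xorV_self', Nat.xor_self] at h
      exact h
    have h1 := polC_add 0 0 u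
    rw [Nat.xor_self, Nat.xor_self] at h1
    rw [h0, polC_symm]
    exact h1
  · have hb := Nat.eq_of_beq_eq_true (allBelow_spec _ _ hub j hj)
    have hlb : l.testBit j = b j := by
      obtain ⟨⟨⟨⟨⟨⟨⟨h0, h1⟩, h2⟩, h3⟩, h4⟩, h5⟩, h6⟩, h7⟩ := hbits
      interval_cases j
      exacts [h0, h1, h2, h3, h4, h5, h6, h7]
    show polC u (2 ^ j) = φ (vec (2 ^ j) h)
    rw [hb, hlb]
    rcases hφ (vec (2 ^ j) h) with e | e
    · have : b j = false := decide_eq_false fun ⟨_, e'⟩ => by rw [e] at e'; omega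
      rw [this, e]; rfl
    · have : b j = true := decide_eq_true ⟨h, e⟩
      rw [this, e]; rfl
  · rw [hadd, ← ha, ← ha']
    show polC u ((a : ℕ) ^^^ a') = _
    rw [polC_symm, polC_add, polC_symm (a : ℕ), polC_symm (a' : ℕ)]

omit [Finite H] in
omit C in
/-- A linear map of order three stabilising a line preserves its orthogonal. -/
theorem perp_keep {u : Vec} {σ : Equiv.Perm Vec} (hσ : σ ∈ Lgrp) (h3 : σ ^ 3 = 1)
    (hl : onLine (u : ℕ) (σ u : ℕ) = true) {x : Vec} (hx : inLinePerp (u : ℕ) (x : ℕ) = true) :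
    inLinePerp (u : ℕ) (σ x : ℕ) = true := by
  have hom : ∀ v : Vec, omV (omV (omV v)) = v ∧ (omV (omV v) : ℕ) = (v : ℕ) ^^^ (omV v : ℕ) := by
    intro v
    have := reps_ok
    simp only [repsOK, Bool.and_eq_true] at this
    have hv := allBelow_spec _ _ this.1 v v.2
    simp only [Bool.and_eq_true, Nat.beq_eq] at hv
    obtain ⟨⟨h1, h2⟩, -⟩ := hv
    refine ⟨Fin.ext h1, ?_⟩
    change (v : ℕ) ^^^ ((omV v : ℕ) ^^^ (omV (omV v) : ℕ)) = 0 at h2
    rw [← Nat.xor_assoc] at h2
    exact Nat.xor_right_inj.1 (h2.trans (Nat.xor_self _).symm)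
  have hline : ∀ v : Vec, onLine (u : ℕ) (v : ℕ) = true ↔ v = u ∨ v = omV u ∨ v = omV (omV u) := by
    intro v
    simp only [onLine, Bool.or_eq_true, Nat.beq_eq, or_assoc]
    exact ⟨fun h => h.imp Fin.ext (Or.imp Fin.ext Fin.ext), fun h =>
      h.imp (congrArg Fin.val) (Or.imp (congrArg Fin.val) (congrArg Fin.val))⟩
  have hstep : ∀ v : Vec, (v = u ∨ v = omV u ∨ v = omV (omV u)) → σ v = u ∨ σ v = omV u ∨ σ v = omV (omV u) := by
    intro v hv
    have hu := (hline _).1 hl
    have hlin := (linLike hσ).2.1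
    rcases hv with rfl | rfl | rfl
    · exact hu
    · rw [hlin]
      rcases hu with e | e | e <;> rw [e] <;> simp [(hom u).1]
    · rw [hlin, hlin]
      rcases hu with e | e | e <;> rw [e] <;> simp [(hom u).1]
  simp only [inLinePerp, Bool.and_eq_true, Nat.beq_eq] at hx ⊢
  have hxl : ∀ v : Vec, (v = u ∨ v = omV u ∨ v = omV (omV u)) → polC x v = 0 := by
    rintro v (rfl | rfl | rfl)
    · exact hx.1
    · exact hx.2
    · rw [(hom u).2, polC_symm, polC_add, polC_symm (u : ℕ), polC_symm ((omV u : Vec) : ℕ), hx.1, Nat.zero_xor]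
      exact hx.2
  have key : ∀ w : Vec, (w = u ∨ w = omV u ∨ w = omV (omV u)) → polC (σ x : ℕ) w = 0 := by
    intro w hw
    have hw' : σ (σ (σ w)) = w := by
      rw [← Equiv.Perm.mul_apply, ← Equiv.Perm.mul_apply,
        show σ * σ * σ = 1 by rw [← h3, pow_succ, pow_two], Equiv.Perm.one_apply]
    rw [← hw', lin_pol hσ]
    exact hxl _ (hstep _ (hstep _ hw))
  exact ⟨key u (Or.inl rfl), key (omV u) (Or.inr (Or.inl rfl))⟩

theorem Coords.points : Points A := by
  classical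
  refine ⟨fun Fh hFh h2 => ?_⟩
  -- the functional
  have hidx : (Fh.subgroupOf A).index = 2 := by
    have h := Subgroup.card_mul_index (Fh.subgroupOf A)
    rw [Nat.card_congr (Subgroup.subgroupOfEquivOfLe hFh).toEquiv, ← h2, mul_comm 2] at h
    exact Nat.eq_of_mul_eq_mul_left Nat.card_pos h
  have hel : ∀ a b, C.el (xorV a b) = C.el a * C.el b := fun a b =>
    C.c_inj _ (C.el_mem _) _ (A.mul_mem (C.el_mem a) (C.el_mem b)) (by
      rw [C.c_el, C.c_mul _ (C.el_mem a) _ (C.el_mem b), C.c_el, C.c_el])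
  let φ : Vec → ℕ := fun v => if C.el v ∈ Fh then 0 else 1
  have hadd : ∀ a b, φ (xorV a b) = φ a ^^^ φ b := by
    intro a b
    have h := Subgroup.mul_mem_iff_of_index_two hidx (a := ⟨C.el a, C.el_mem a⟩) (b := ⟨C.el b, C.el_mem b⟩)
    simp only [mem_subgroupOf, Subgroup.coe_mul] at h
    simp only [φ, hel, h]
    split_ifs <;> first | rfl | simp_all
  obtain ⟨u, hu⟩ := exists_dual φ (fun v => by simp only [φ]; split_ifs <;> simp) hadd
  have hsub : ∀ {a : H}, a ∈ A → polC u (C.c a : ℕ) = 0 → a ∈ Fh := by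
    intro a ha h
    rw [hu] at h
    simp only [φ, C.el_c ha] at h
    by_contra hn
    rw [if_neg hn] at h
    omega
  have hu0 : (u : ℕ) ≠ 0 := fun e => by
    have hle : A ≤ Fh := fun a ha => hsub ha (by
      rw [e]
      have h := polC_add 0 0 (C.c a)
      rw [Nat.xor_self, Nat.xor_self] at h
      exact h)
    rw [le_antisymm hFh hle] at h2
    have := Nat.card_pos (α := ↥A)
    omega
  -- the subgroup
  let F0 : Subgroup H :=
    { carrier := {a | a ∈ A ∧ inLinePerp (u : ℕ) (C.c a : ℕ) = true}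
      one_mem' := ⟨A.one_mem, by
        rw [C.c_one]
        have h : ∀ w : ℕ, polC (0 : ℕ) w = 0 := fun w => by
          have h := polC_add 0 0 w
          rw [Nat.xor_self, Nat.xor_self] at h
          exact h
        simp [inLinePerp, z0V, h]⟩
      mul_mem' := fun {a b} ha hb => ⟨A.mul_mem ha.1 hb.1, by
        have ha' := ha.2
        have hb' := hb.2
        simp only [inLinePerp, Bool.and_eq_true, Nat.beq_eq] at ha' hb' ⊢
        rw [C.c_mul a ha.1 b hb.1]
        show polC ((C.c a : ℕ) ^^^ C.c b) u = 0 ∧ polC ((C.c a : ℕ) ^^^ C.c b) (omC u) = 0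
        rw [polC_add, polC_add, ha'.1, ha'.2, hb'.1, hb'.2]
        exact ⟨rfl, rfl⟩⟩
      inv_mem' := fun {a} ha => by rw [C.inv_eq ha.1]; exact ha }
  have hF0A : F0 ≤ A := fun a ha => ha.1
  have hF0h : F0 ≤ Fh := fun a ha => hsub ha.1 (by
    have h := ha.2
    simp only [inLinePerp, Bool.and_eq_true, Nat.beq_eq] at h
    rw [polC_symm]
    exact h.1)
  set W := Finset.univ.filter fun v : Vec => inLinePerp (u : ℕ) (v : ℕ) = true with hW
  have hW64 : W.card = 64 := by
    have h := allBelow_spec _ _ linePerp_ok u u.2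
    simp only [Bool.or_eq_true, Nat.beq_eq] at h
    rw [← h.resolve_left hu0, List.countP_eq_length_filter,
      ← List.toFinset_card_of_nodup (List.nodup_range.filter _), ← Finset.card_map Fin.valEmbedding]
    congr 1
    ext i
    simp only [hW, Finset.mem_map, Finset.mem_filter, Finset.mem_univ, true_and, List.mem_toFinset,
      List.mem_filter, List.mem_range, Fin.valEmbedding_apply]
    exact ⟨fun ⟨v, hv, e⟩ => e ▸ ⟨v.2, hv⟩, fun h => ⟨vec i h.1, h.2, rfl⟩⟩
  have hWF : ∀ v ∈ W, C.el v ∈ F0 := fun v hv => ⟨C.el_mem v, by rw [C.c_el]; exact (Finset.mem_filter.1 hv).2⟩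
  -- the group of order nine
  have hl := linePair_ok
  simp only [linePairOK, Bool.and_eq_true] at hl
  have hl2 := allBelow_spec _ _ hl.2 u u.2
  simp only [Bool.or_eq_true, Nat.beq_eq, List.any_eq_true, Bool.and_eq_true] at hl2
  obtain ⟨⟨a, b⟩, hab, hla, hlb⟩ := hl2.resolve_left hu0
  obtain ⟨oA, oB, hc, hne, hal, hbl⟩ := pairOK_spec (List.all_eq_true.1 hl.1 (a, b) hab)
  rw [wordP_val hal] at hla
  rw [wordP_val hbl] at hlb
  obtain ⟨x, y, hx, hy, ex, ey, E, hEN, hEc, hE9, hE3, hxE, hyE, hEpow⟩ :=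
    C.lift_pair (wordP_mem a) (wordP_mem b) oA oB hc hne
  have hA3 : wordP a ^ 3 = 1 := by rw [← oA, pow_orderOf_eq_one]
  have hB3 : wordP b ^ 3 = 1 := by rw [← oB, pow_orderOf_eq_one]
  have hkeep : ∀ e ∈ E, ∀ f ∈ F0, e * f * e⁻¹ ∈ F0 := by
    intro e he f hf
    refine ⟨conjN (hEN he) hf.1, ?_⟩
    obtain ⟨i, j, rfl⟩ := hEpow e he
    rw [C.im_conj _ (hEN he) f hf.1, C.im_mul _ (pow_mem hx i) _ (pow_mem hy j), C.im_pow hx, C.im_pow hy, ex, ey,
      Equiv.Perm.mul_apply]
    have hp : ∀ (σ : Equiv.Perm Vec), σ ∈ Lgrp → σ ^ 3 = 1 → onLine (u : ℕ) (σ u : ℕ) = true → ∀ (k : ℕ)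
        (v : Vec), inLinePerp (u : ℕ) (v : ℕ) = true → inLinePerp (u : ℕ) ((σ ^ k) v : ℕ) = true := by
      intro σ hσ h3 hl k
      induction k with
      | zero => exact fun v hv => by rw [pow_zero]; exact hv
      | succ k ih =>
        intro v hv
        rw [pow_succ', Equiv.Perm.mul_apply]
        exact perp_keep hσ h3 hl (ih v hv)
    exact hp _ (wordP_mem a) hA3 hla i _ (hp _ (wordP_mem b) hB3 hlb j _ hf.2)
  -- the centraliser in the normaliser
  have hims : ∀ m ∈ normalizer (A : Set H) ⊓ centralizer (F0 : Set H),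
      C.im m = 1 ∨ ∃ p, C.im m = tvV p ∧ fixSet (tvV p) = W := by
    intro m hm
    obtain ⟨hmN, hmC⟩ := mem_inf.1 hm
    have hWm : W ⊆ fixSet (C.im m) := fun v hv =>
      (C.mem_fix_iff hmN).1 (mem_centralizer_iff.1 hmC _ (hWF v hv))
    have := Finset.card_le_card hWm
    rcases (fix_facts (C.im_mem m hmN) (by omega)).big (by omega) with h | ⟨p, h⟩
    · exact Or.inl h
    · exact Or.inr ⟨p, h, (Finset.eq_of_subset_of_card_le (h ▸ hWm) (by rw [tv_card, hW64])).symm⟩
  have hcomA : ∀ m ∈ normalizer (A : Set H) ⊓ centralizer (F0 : Set H), ∀ a ∈ A, ⁅m, a⁆ ∈ F0 := by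
    intro m hm a ha
    have hmN := (mem_inf.1 hm).1
    rw [commutatorElement_def, C.inv_eq ha]
    refine ⟨A.mul_mem (conjN hmN ha) ha, ?_⟩
    rw [C.c_mul _ (conjN hmN ha) _ ha, C.im_conj m hmN a ha]
    rcases hims m hm with h | ⟨p, h, hWp⟩
    · rw [h, Equiv.Perm.one_apply, xorV_self', ← C.c_one]
      exact F0.one_mem.2
    · have : xorV (C.im m (C.c a)) (C.c a) ∈ W := by
        rw [← hWp, mem_fixSet, h, (additive_of_mem (lin_le (tvV_mem p))), ← Equiv.Perm.mul_apply, tvV_sq,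
          Equiv.Perm.one_apply, xorV_comm']
      exact (Finset.mem_filter.1 this).2
  have hE1 : ∀ e ∈ E, e ≠ 1 → ¬ Fixes A e → ∀ e' ∈ E, e' ≠ 1 → ¬ Fixes A e' → e' ∈ zpowers e := by
    haveI : Fact (Nat.Prime 3) := ⟨Nat.prime_three⟩
    have hlf := lineFix_ok
    simp only [lineFixOK, List.all_eq_true] at hlf
    have hf := hlf (a, b) hab
    simp only [Bool.and_eq_true, Bool.or_eq_true] at hf
    obtain ⟨⟨⟨⟨⟨f12, f13⟩, f14⟩, f23⟩, f24⟩, f34⟩ := hf
    have hxy : Commute x y := congrArg Subtype.val (hEc.is_comm.comm ⟨x, hxE⟩ ⟨y, hyE⟩)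
    have hfix : ∀ (w : List ℕ) (m : H), m ∈ normalizer (A : Set H) → C.im m = wordP w →
        (w.all fun p => Nat.blt p 45) = true → fixB w = true → Fixes A m := by
      intro w m hm em hwl hw
      simp only [fixB, List.any_eq_true, List.mem_range, Bool.and_eq_true, Bool.not_eq_true',
        Nat.beq_eq] at hw
      obtain ⟨v, hv, hv0, hvw⟩ := hw
      refine ⟨C.el ⟨v, hv⟩, C.el_mem _, fun e => ?_, ((C.comm_iff hm (C.el_mem _)).2 ?_).symm⟩
      · have h0 := congrArg C.c e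
        rw [C.c_el, C.c_one] at h0
        have h0' : v = 0 := congrArg Fin.val h0
        rw [h0'] at hv0
        exact absurd hv0 (by decide)
      · rw [C.c_el, em]
        refine Fin.ext ?_
        rw [← wordP_val hwl]
        exact hvw
    have hpow : ∀ (m : H) (k : ℕ), Fixes A m → Fixes A (m ^ k) := fun m k ⟨u, hu, hu1, hc⟩ =>
      ⟨u, hu, hu1, hc.pow_left k⟩
    have hmem : ∀ e ∈ E, e ≠ 1 → ∃ m ∈ ({x, y, x * y, x * (y * y)} : Set H), ∃ k : ℕ, e = m ^ k := by
      intro e he he1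
      obtain ⟨i, j, rfl⟩ := hEpow e he
      have hm : ∀ (m : H), m ∈ E → ∀ n : ℕ, m ^ n = m ^ (n % 3) := fun m hm n => by
        conv_lhs => rw [← Nat.mod_add_div n 3, pow_add, pow_mul, hE3 m hm, one_pow, mul_one]
      have hx3 := hE3 x hxE
      have hy3 := hE3 y hyE
      rw [hm x hxE i, hm y hyE j] at he1 ⊢
      have hi := Nat.mod_lt i (show 3 > 0 by norm_num)
      have hj := Nat.mod_lt j (show 3 > 0 by norm_num)
      interval_cases i % 3 <;> interval_cases j % 3
      · exact absurd (by simp) he1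
      · exact ⟨y, by simp, 1, by simp⟩
      · exact ⟨y, by simp, 2, by simp⟩
      · exact ⟨x, by simp, 1, by simp⟩
      · exact ⟨x * y, by simp, 1, by simp⟩
      · exact ⟨x * (y * y), by simp, 1, by simp [pow_two]⟩
      · exact ⟨x, by simp, 2, by simp⟩
      · refine ⟨x * (y * y), by simp, 2, ?_⟩
        rw [← pow_two y, (hxy.pow_right 2).mul_pow, ← pow_mul, hm y hyE (2 * 2)]
      · exact ⟨x * y, by simp, 2, (hxy.mul_pow 2).symm⟩
    intro e he he1 hne e' he' he'1 hne'
    obtain ⟨m, hm, k, rfl⟩ := hmem e he he1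
    obtain ⟨m', hm', k', rfl⟩ := hmem e' he' he'1
    have hmn : ¬ Fixes A m := mt (hpow m k) hne
    have hmn' : ¬ Fixes A m' := mt (hpow m' k') hne'
    have e1 := C.im_mul x hx y hy
    have e2 := C.im_mul x hx _ (mul_mem hy hy)
    rw [C.im_mul y hy y hy, ex, ey, ← wordP_append, ← wordP_append] at e2
    rw [ex, ey, ← wordP_append] at e1
    have hll := all_append hal (all_append hbl hbl)
    have g1 := hfix a x hx ex hal
    have g2 := hfix b y hy ey hbl
    have g3 := hfix _ _ (mul_mem hx hy) e1 (all_append hal hbl)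
    have g4 := hfix _ _ (mul_mem hx (mul_mem hy hy)) e2 hll
    have hmm : m' = m := by
      simp only [Set.mem_insert_iff, Set.mem_singleton_iff] at hm hm'
      rcases hm with rfl | rfl | rfl | rfl <;> rcases hm' with rfl | rfl | rfl | rfl <;> first
        | rfl
        | exact (f12.elim (fun h => absurd (g1 h) (by assumption)) fun h => absurd (g2 h) (by assumption))
        | exact (f13.elim (fun h => absurd (g1 h) (by assumption)) fun h => absurd (g3 h) (by assumption))
        | exact (f14.elim (fun h => absurd (g1 h) (by assumption)) fun h => absurd (g4 h) (by assumption))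
        | exact (f23.elim (fun h => absurd (g2 h) (by assumption)) fun h => absurd (g3 h) (by assumption))
        | exact (f24.elim (fun h => absurd (g2 h) (by assumption)) fun h => absurd (g4 h) (by assumption))
        | exact (f34.elim (fun h => absurd (g3 h) (by assumption)) fun h => absurd (g4 h) (by assumption))
    subst hmm
    have hmE : m' ∈ E := by
      simp only [Set.mem_insert_iff, Set.mem_singleton_iff] at hm
      rcases hm with rfl | rfl | rfl | rfl
      exacts [hxE, hyE, mul_mem hxE hyE, mul_mem hxE (mul_mem hyE hyE)]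
    have h3 : ∀ u ∈ E, u ≠ 1 → orderOf u = 3 := fun u hu h => orderOf_eq_prime (hE3 u hu) h
    have hm1 : m' ≠ 1 := fun h => he1 (by rw [h, one_pow])
    have hz : zpowers (m' ^ k) = zpowers m' :=
      eq_of_le_of_card_ge (zpowers_le.2 (pow_mem (mem_zpowers m') k)) (by
        rw [Nat.card_zpowers, Nat.card_zpowers, h3 _ he he1, h3 _ hmE hm1])
    rw [hz]
    exact pow_mem (mem_zpowers m') k'
  refine ⟨F0, hF0h, E, hEN, hEc, hE9, hE3, hE1, fun e he => mem_normalizer_iff.2 fun f => ?_, ?_, fun m hm n hn => ?_⟩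
  · refine ⟨hkeep e he f, fun h => ?_⟩
    have := hkeep e⁻¹ (inv_mem he) _ h
    rwa [show e⁻¹ * (e * f * e⁻¹) * e⁻¹⁻¹ = f by group] at this
  · intro m
    refine ⟨2, Subtype.ext ?_⟩
    have hmN := (mem_inf.1 m.2).1
    have hmm : (m : H) * m ∈ A := (C.im_ker _ (mul_mem hmN hmN)).1 (by
      rw [C.im_mul _ hmN _ hmN]
      rcases hims m m.2 with h | ⟨p, h, -⟩
      · rw [h, one_mul]
      · rw [h, tvV_sq])
    rw [SubmonoidClass.coe_pow, show (2 : ℕ) ^ 2 = 2 * 2 from rfl, pow_mul, pow_two (m : H), pow_two]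
    exact C.sq _ hmm
  · have hmN := (mem_inf.1 hm).1
    have hnN := (mem_inf.1 hn).1
    rcases hims n hn with h | ⟨q, hq, hWq⟩
    · exact hcomA m hm n ((C.im_ker n hnN).1 h)
    rcases hims m hm with h | ⟨p, hp, hWp⟩
    · rw [← commutatorElement_inv]
      exact F0.inv_mem (hcomA n hn m ((C.im_ker m hmN).1 h))
    have hpq : p = q := tv_unique (W := W) (hWp ▸ subset_refl _) (hWq ▸ subset_refl _) (by omega)
    have ha : m⁻¹ * n ∈ A := (C.im_ker _ (mul_mem (inv_mem hmN) hnN)).1 (by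
      rw [C.im_mul _ (inv_mem hmN) _ hnN, C.im_inv hmN, hp, hq, hpq, inv_mul_cancel])
    have hk := hcomA m hm _ ha
    rw [show ⁅m, n⁆ = m * ⁅m, m⁻¹ * n⁆ * m⁻¹ by rw [commutatorElement_def, commutatorElement_def]; group,
      ← mem_centralizer_iff.1 (mem_inf.1 hm).2 _ hk, mul_inv_cancel_right]
    exact hk

/-- **The closing step**: `A` is normal. -/
theorem Coords.normal : normalizer (A : Set H) = ⊤ :=
  C.base.normal C.badFacts C.points C.split

end Cfsg.Agent.U62Three.Close
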