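import Cfsg.Agent.Lib.U62Three.Close.CrdTop
import Cfsg.Agent.Lib.U62Three.Close.Coords
import Cfsg.Agent.Lib.U62Three.Close.Index
import Cfsg.Agent.Lib.Solvable.Coprime
import Mathlib.GroupTheory.GroupAction.Quotient
import Mathlib.GroupTheory.IndexNormal

/-!
With the scalar element: the subgroup is the whole normaliser of `W` in the centraliser of the involution. Its
cosets there are counted modulo 81 by the orbits of the Sylow 3-subgroup and bounded by the isometry group.
-/

set_option autoImplicit false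
set_option maxRecDepth 20000
set_option linter.style.haveILetI false

namespace Cfsg.Agent.U62Three.Close

open Subgroup
open U62Rec.Model (Vec xorV q0 Lgrp Pt)
open U62Aut (Agrp omP Isom z0V)
open scoped commutatorElement

theorem omP_not_mem_Lgrp : omP ∉ Lgrp := fun h => by
  have h1 : U62Rec.Model.ptHom ⟨omP, h⟩ = 1 := Equiv.ext fun p => by
    rw [U62Rec.Model.ptHom_apply]
    exact ((U62Rec.Model.sing_spec (U62Rec.Model.rep_spec p).1).2.2.1).trans (U62Rec.Model.rep_spec p).2
  rw [← map_one U62Rec.Model.ptHom] at h1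
  have h2 : omP = 1 := congrArg Subtype.val (U62Rec.Model.ptHom_injective h1)
  exact absurd (congrArg (fun s : Equiv.Perm Vec => s (1 : Vec)) h2) (by decide)

theorem omP_not_mem_Agrp : omP ∉ Agrp := fun h => by
  have h2 := U62Aut.omP_swap h omP_not_mem_Lgrp
  rw [inv_mul_cancel] at h2
  exact absurd (congrArg (fun s : Equiv.Perm Vec => s (1 : Vec)) h2) (by decide)

theorem omP_pow_mem {k : ℕ} (h : omP ^ k ∈ Agrp) : omP ^ k = 1 := by
  rcases omP_pow_cases k with e | e | e
  · exact e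
  · exact absurd (e ▸ h) omP_not_mem_Agrp
  · refine absurd ?_ omP_not_mem_Agrp
    have := mul_mem (e ▸ h : omP ^ 2 ∈ Agrp) (e ▸ h : omP ^ 2 ∈ Agrp)
    rwa [← pow_add, show 2 + 2 = 3 + 1 from rfl, pow_succ, U62Aut.omP_cube, one_mul] at this

theorem orderOf_omP : orderOf omP = 3 := by
  haveI : Fact (Nat.Prime 3) := ⟨Nat.prime_three⟩
  exact orderOf_eq_prime U62Aut.omP_cube fun e => omP_not_mem_Lgrp (by rw [e]; exact one_mem _)

theorem Agrp_le_norm : Agrp ≤ normalizer (zpowers omP : Set (Equiv.Perm Vec)) := by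
  have hf : ∀ g ∈ Agrp, ∀ x ∈ zpowers omP, g * x * g⁻¹ ∈ zpowers omP := fun g hg x hx => by
    obtain ⟨i, rfl⟩ := mem_zpowers_iff.1 hx
    rw [← conj_zpow]
    refine zpow_mem ?_ i
    by_cases hL : g ∈ Lgrp
    · rw [(U62Aut.omP_comm hL).eq, mul_inv_cancel_right]
      exact mem_zpowers _
    · rw [U62Aut.omP_swap hg hL, mul_inv_cancel_right]
      exact inv_mem (mem_zpowers _)
  intro g hg
  refine mem_normalizer_iff.2 fun x => ⟨hf g hg x, fun hx => ?_⟩
  have := hf g⁻¹ (inv_mem hg) _ hx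
  rwa [show g⁻¹ * (g * x * g⁻¹) * g⁻¹⁻¹ = x by group] at this

/-- The groups with the scalars. -/
theorem card_scalar : Nat.card ↥(Lgrp ⊔ zpowers omP) = 77760 ∧ Nat.card ↥(Agrp ⊔ zpowers omP) = 155520 := by
  have hd : ∀ X : Subgroup (Equiv.Perm Vec), X ≤ Agrp → Nat.card ↥(X ⊓ zpowers omP) = 1 := by
    intro X hX
    rw [Subgroup.card_eq_one, eq_bot_iff]
    intro x hx
    obtain ⟨h1, h2⟩ := mem_inf.1 hx
    obtain ⟨k, rfl⟩ := (mem_powers_iff_mem_zpowers (x := omP)).2 h2
    exact mem_bot.2 (omP_pow_mem (hX h1))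
  have h1 := CLarge.card_of_coe_sup_eq (coe_mul_of_left_le_normalizer_right Lgrp (zpowers omP)
    ((U62Aut.lin_le).trans Agrp_le_norm))
  have h2 := CLarge.card_of_coe_sup_eq (coe_mul_of_left_le_normalizer_right Agrp (zpowers omP) Agrp_le_norm)
  rw [hd _ U62Aut.lin_le, Nat.card_zpowers, orderOf_omP, U62Rec.Model.card_Lgrp] at h1
  rw [hd _ le_rfl, Nat.card_zpowers, orderOf_omP, U62Aut.card_Agrp] at h2
  constructor <;> omega

/-- A 3-group of order at least nine without elements of order nine contains an independent commuting pair. -/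
theorem exists_pair {G : Type*} [Group G] [Finite G] {Y : Subgroup G} (hY : IsPGroup 3 Y) (h9 : 9 ≤ Nat.card Y)
    (h3 : ∀ y ∈ Y, y ^ 3 = 1) : ∃ u ∈ Y, ∃ v ∈ Y, u ≠ 1 ∧ v ∉ zpowers u ∧ Commute u v := by
  haveI : Fact (Nat.Prime 3) := ⟨Nat.prime_three⟩
  haveI : Nontrivial ↥Y := Finite.one_lt_card_iff_nontrivial.1 (by omega)
  haveI := hY.center_nontrivial
  obtain ⟨⟨⟨u, hu⟩, huc⟩, hu1⟩ := exists_ne (1 : center ↥Y)
  have hu1' : u ≠ 1 := fun e => hu1 (Subtype.ext (Subtype.ext e))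
  obtain ⟨v, hv, hvu⟩ : ∃ v ∈ Y, v ∉ zpowers u := by
    by_contra hall
    push Not at hall
    have := Subgroup.card_le_of_le (show Y ≤ zpowers u from hall)
    rw [Nat.card_zpowers, orderOf_eq_prime (h3 u hu) hu1'] at this
    omega
  exact ⟨u, hu, v, hv, hu1', hvu, (congrArg Subtype.val (mem_center_iff.1 huc ⟨v, hv⟩)).symm⟩

/-- The point of a vector set: the orbits outside a fixed point have sizes divisible by 81, so the count is one
modulo 81. -/
theorem card_mod_81 {P X : Type*} [Group P] [MulAction P X] [Finite X] [Finite P] (x0 : X)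
    (h0 : ∀ g : P, g • x0 = x0) (h : ∀ x, x ≠ x0 → 81 ∣ Nat.card (MulAction.orbit P x)) :
    Nat.card X % 81 = 1 := by
  classical
  haveI := Fintype.ofFinite (Quotient (MulAction.orbitRel P X))
  rw [Nat.card_congr (MulAction.selfEquivSigmaOrbits P X), Nat.card_sigma,
    ← Finset.add_sum_erase _ _ (Finset.mem_univ (Quotient.mk'' x0 : Quotient (MulAction.orbitRel P X)))]
  have e0 : ∀ y : X, (Quotient.mk'' y : Quotient (MulAction.orbitRel P X)) = Quotient.mk'' x0 → y = x0 :=
    fun y e => by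
      obtain ⟨g, hg⟩ := MulAction.orbitRel_apply.1 (Quotient.eq''.1 e)
      rw [← hg]; exact h0 g
  have h1 : Nat.card (MulAction.orbit P (Quotient.out (Quotient.mk'' x0 : Quotient (MulAction.orbitRel P X)))) = 1 := by
    rw [e0 _ (Quotient.out_eq' _), Nat.card_eq_one_iff_unique]
    exact ⟨⟨fun a b => Subtype.ext (by
      obtain ⟨g, hg⟩ := a.2
      obtain ⟨g', hg'⟩ := b.2
      exact hg.symm.trans ((h0 g).trans ((h0 g').symm.trans hg')))⟩, ⟨⟨x0, MulAction.mem_orbit_self x0⟩⟩⟩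
  rw [h1]
  have h81 : 81 ∣ ∑ q ∈ Finset.univ.erase (Quotient.mk'' x0 : Quotient (MulAction.orbitRel P X)),
      Nat.card (MulAction.orbit P q.out) := by
    refine Finset.dvd_sum fun q hq => h _ fun e => (Finset.mem_erase.1 hq).1 ?_
    rw [← e, Quotient.out_eq']
  omega

variable {G : Type*} [Group G] [Finite G] {L : Loc G} {W : Subgroup G} {c : G} {D : Subgroup G}

set_option maxHeartbeats 1000000 in
/-- **The subgroup is the normaliser of `W` in the centraliser of the involution.** -/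
theorem normW_le_top (q : Quot L W c) (K : PreTop L W c D) (h243 : Nat.card L.K = 243) (hc : c ≠ 1) :
    normalizer (W : Set G) ⊓ centralizer {L.S.t} ≤ topGroup L W c := by
  classical
  have E := ctl q
  haveI : Fact (Nat.Prime 3) := ⟨Nat.prime_three⟩
  obtain ⟨htW, hWt, hWc⟩ := w_facts q.mid
  set M := normalizer (W : Set G) ⊓ centralizer {L.S.t} with hM
  have hTM : topGroup L W c ≤ M := le_inf topGroup_le_norm (topGroup_le_cent q.mid)
  have hMt : ∀ g ∈ M, Commute g L.S.t := fun g hg => mem_centralizer_singleton_iff.1 (mem_inf.1 hg).2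
  have hMW : ∀ g ∈ M, ∀ a ∈ W, g * a * g⁻¹ ∈ W := fun g hg a ha =>
    (mem_normalizer_iff.1 (mem_inf.1 hg).1 a).1 ha
  have hwd : ∀ g ∈ M, ∀ a ∈ W, ∀ b ∈ W, K.nv a = K.nv b → K.nv (g * a * g⁻¹) = K.nv (g * b * g⁻¹) := by
    intro g hg a ha b hb h
    refine (K.nv_eq _ (hMW g hg a ha) _ (hMW g hg b hb)).2 ?_
    rcases (K.nv_eq a ha b hb).1 h with rfl | rfl
    · exact Or.inl rfl
    · exact Or.inr (by simp only [mul_assoc, (hMt g hg).inv_left.eq])
  let sec : Vec → G := fun v => (K.nv_surj v).choose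
  have hsec : ∀ v, sec v ∈ W ∧ K.nv (sec v) = v := fun v => (K.nv_surj v).choose_spec
  let act : G → Vec → Vec := fun g v => K.nv (g * sec v * g⁻¹)
  have hact : ∀ g ∈ M, ∀ a ∈ W, act g (K.nv a) = K.nv (g * a * g⁻¹) := fun g hg a ha =>
    hwd g hg _ (hsec _).1 a ha (hsec _).2
  have hmul : ∀ g ∈ M, ∀ h ∈ M, ∀ v, act (g * h) v = act g (act h v) := fun g hg h hh v => by
    show K.nv _ = act g (K.nv _)
    rw [hact g hg _ (hMW h hh _ (hsec v).1)]
    congr 1
    group
  have hinv : ∀ g ∈ M, ∀ v, act g⁻¹ (act g v) = v := fun g hg v => by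
    rw [← hmul _ (inv_mem hg) _ hg, inv_mul_cancel]
    show K.nv _ = v
    rw [one_mul, inv_one, mul_one, (hsec v).2]
  let f : ↥M →* Equiv.Perm Vec := MonoidHom.mk'
    (fun g => { toFun := act g, invFun := act (g : G)⁻¹, left_inv := hinv g g.2
                right_inv := fun v => by simpa using hinv (g : G)⁻¹ (inv_mem g.2) v })
    fun g h => Equiv.ext fun v => hmul g g.2 h h.2 v
  have hf : ∀ (g : G) (hg : g ∈ M), ∀ a ∈ W, f ⟨g, hg⟩ (K.nv a) = K.nv (g * a * g⁻¹) := fun g hg a ha =>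
    hact g hg a ha
  have hftop : ∀ (g : G) (hg : g ∈ topGroup L W c), f ⟨g, hTM hg⟩ = K.im g := fun g hg => Equiv.ext fun v => by
    obtain ⟨a, ha, rfl⟩ := K.nv_surj v
    rw [hf g (hTM hg) a ha, K.im_conj g hg a ha]
  have hisom : ∀ g : ↥M, Isom (f g) := by
    intro g
    refine ⟨fun u v => ?_, fun u => ?_⟩
    · obtain ⟨a, ha, rfl⟩ := K.nv_surj u
      obtain ⟨b, hb, rfl⟩ := K.nv_surj v
      rw [← K.nv_mul a ha b hb, hf g g.2 _ (W.mul_mem ha hb), hf g g.2 a ha, hf g g.2 b hb,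
        ← K.nv_mul _ (hMW g g.2 a ha) _ (hMW g g.2 b hb)]
      congr 1
      group
    · obtain ⟨a, ha, rfl⟩ := K.nv_surj u
      rw [hf g g.2 a ha]
      have h1 : (g : G) * a * (g : G)⁻¹ * (g * a * (g : G)⁻¹) = 1 ↔ a * a = 1 := by
        rw [show (g : G) * a * (g : G)⁻¹ * (g * a * (g : G)⁻¹) = g * (a * a) * (g : G)⁻¹ by group]
        exact conj_eq_one_iff
      have hiff : q0 (K.nv (g * a * (g : G)⁻¹)) = 0 ↔ q0 (K.nv a) = 0 :=
        (K.nv_sq _ (hMW g g.2 a ha)).symm.trans (h1.trans (K.nv_sq a ha))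
      rcases q0_two _ (K.nv (g * a * (g : G)⁻¹)).2 with h | h <;> rcases q0_two _ (K.nv a).2 with h' | h' <;>
        rw [h, h'] at hiff ⊢ <;> omega
  -- the kernel
  set K0 := f.ker.map M.subtype with hK0
  have hK0M : K0 ≤ M := map_subtype_le _
  have hWK : W ≤ K0 := fun w hw => ⟨⟨w, hTM (W_le_top q hw)⟩, MonoidHom.mem_ker.2 (by
    rw [hftop w (W_le_top q hw)]; exact (K.im_ker w (W_le_top q hw)).2 hw), rfl⟩
  have hK0n : ∀ g ∈ M, ∀ k ∈ K0, g * k * g⁻¹ ∈ K0 := fun g hg k ⟨k', hk', e⟩ =>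
    ⟨⟨g, hg⟩ * k' * ⟨g, hg⟩⁻¹, (inferInstance : f.ker.Normal).conj_mem _ hk' _, by rw [← e]; rfl⟩
  have hK0top : ∀ k ∈ K0, k ∈ topGroup L W c → k ∈ W := fun k ⟨k', hk', e⟩ hkT => by
    refine (K.im_ker k hkT).1 ?_
    rw [← hftop k hkT, show (⟨k, hTM hkT⟩ : ↥M) = k' from Subtype.ext e.symm]
    exact MonoidHom.mem_ker.1 hk'
  have hKt : L.Kt ≤ M := (Kt_le_top q).trans hTM
  have hK03 : ¬ 3 ∣ Nat.card K0 := by
    intro h3
    have hzM : L.S.z ∈ M := hKt L.z_mem_Kt
    have hzN : zpowers L.S.z ≤ normalizer (K0 : Set G) := zpowers_le.2 (mem_normalizer_iff.2 fun k =>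
      ⟨hK0n _ hzM k, fun h => by
        have := hK0n _ (inv_mem hzM) _ h
        rwa [show L.S.z⁻¹ * (L.S.z * k * L.S.z⁻¹) * L.S.z⁻¹⁻¹ = k by group] at this⟩)
    letI : MulAction ↥(zpowers L.S.z) ↥K0 :=
      { smul := fun p x => ⟨p.1 * x.1 * p.1⁻¹, conjN (hzN p.2) x.2⟩
        one_smul := fun x => Subtype.ext (by change (1 : G) * x.1 * (1 : G)⁻¹ = x.1; group)
        mul_smul := fun p p' x => Subtype.ext (by
          change (p.1 * p'.1) * x.1 * (p.1 * p'.1)⁻¹ = p.1 * (p'.1 * x.1 * p'.1⁻¹) * p.1⁻¹; group) }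
    have hP : IsPGroup 3 ↥(zpowers L.S.z) :=
      IsPGroup.of_card (p := 3) (n := 1) (by rw [Nat.card_zpowers, L.S.core.ord, pow_one])
    let U := MulAction.fixedPoints ↥(zpowers L.S.z) ↥K0
    have hmod := hP.card_modEq_card_fixedPoints ↥K0
    have hfix : ∀ x ∈ U, (x : G) ∈ L.S.P := fun x hx => by
      have hc' : Commute (x : G) L.S.z :=
        (mul_inv_eq_iff_eq_mul.1 (congrArg Subtype.val (hx ⟨L.S.z, mem_zpowers _⟩))).symm
      exact q.mid.fix_point _ (hK0top _ x.2 (centZ_le_top q E (mem_inf.2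
        ⟨mem_centralizer_singleton_iff.2 hc'.eq, (mem_inf.1 (hK0M x.2)).2⟩))) hc'
    have hU : Nat.card U = 8 := by
      rw [← L.S.card_P]
      refine Nat.card_congr (Equiv.ofBijective (fun x : U => (⟨(x.1 : G), hfix x.1 x.2⟩ : ↥L.S.P)) ⟨fun a b e => ?_,
        fun p => ?_⟩)
      · exact Subtype.ext (Subtype.ext (congrArg (fun z : ↥L.S.P => (z : G)) e))
      · refine ⟨⟨⟨p, hWK (q.mid.P_le p.2)⟩, fun g => Subtype.ext ?_⟩, rfl⟩
        show g.1 * (p : G) * g.1⁻¹ = p
        obtain ⟨i, hi⟩ := mem_zpowers_iff.1 g.2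
        have hpz : Commute (p : G) L.S.z := mem_centralizer_singleton_iff.1 (L.S.P_le p.2)
        rw [← hi, ← (hpz.zpow_right i).eq, mul_inv_cancel_right]
    rw [hU] at hmod
    unfold Nat.ModEq at hmod
    obtain ⟨m, hm⟩ := h3
    omega
  have hKW : K0 ≤ W := q.mid.sig K0 (hK0M.trans inf_le_right)
    ((Nat.Prime.coprime_iff_not_dvd Nat.prime_three).2 hK03).symm fun k hk x hx => hK0n k (hKt hk) x hx
  -- the images
  set T0 := (topGroup L W c).subgroupOf M with hT0
  set S := T0.map f with hS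
  set T := f.range with hT
  have hker : f.ker ≤ T0 := fun g hg => mem_subgroupOf.2 (W_le_top q (hKW ⟨g, hg, rfl⟩))
  have hST : S ≤ T := fun x ⟨y, _, e⟩ => ⟨y, e⟩
  have hcardS : Nat.card S = 77760 ∨ Nat.card S = 155520 := by
    have hlow : Lgrp ⊔ zpowers omP ≤ S := by
      refine sup_le (fun σ hσ => ?_) (zpowers_le.2 ?_)
      · obtain ⟨d, hd, e⟩ := K.im_surj σ hσ
        exact ⟨⟨d, hTM (K.part.le hd)⟩, mem_subgroupOf.2 (K.part.le hd), by rw [hftop d (K.part.le hd), e]⟩
      · have hcT : c ∈ topGroup L W c := Kt_le_top q q.c_mem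
        have hmem : K.im c ∈ S := ⟨⟨c, hTM hcT⟩, mem_subgroupOf.2 hcT, hftop c hcT⟩
        rcases K.im_c hc with e | e <;> rw [e] at hmem
        · exact hmem
        · have := S.mul_mem hmem hmem
          rwa [← pow_add, show 2 + 2 = 3 + 1 from rfl, pow_succ, U62Aut.omP_cube, one_mul] at this
    have hup : S ≤ Agrp ⊔ zpowers omP := by
      rintro _ ⟨g, hg, rfl⟩
      obtain ⟨a, ha, k, e⟩ := K.im_semi g (mem_subgroupOf.1 hg)
      rw [show f g = K.im g from hftop g (mem_subgroupOf.1 hg), e]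
      exact mul_mem (mem_sup_left ha) (mem_sup_right (pow_mem (mem_zpowers _) k))
    obtain ⟨h1, h2⟩ := card_scalar
    have d1 := Subgroup.card_dvd_of_le hlow
    have d2 := Subgroup.card_dvd_of_le hup
    rw [h1] at d1
    rw [h2] at d2
    obtain ⟨m, hm⟩ := d1
    rw [hm, show 155520 = 77760 * 2 from rfl] at d2
    rcases (Nat.dvd_prime Nat.prime_two).1 (Nat.dvd_of_mul_dvd_mul_left (by norm_num) d2) with rfl | rfl
    · exact Or.inl (by rw [hm])
    · exact Or.inr (by rw [hm])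
  have hindex : S.relIndex T = T0.index := by
    have hcomap : S.comap f = T0 := by rw [hS, comap_map_eq, sup_eq_left.2 hker]
    rw [← hcomap, Subgroup.index_comap]
  -- the orbits of the Sylow subgroup
  have hmod : T0.index % 81 = 1 := by
    let P : Subgroup ↥M := L.T3.subgroupOf M
    have hT3M : L.T3 ≤ M := (T3_le_top q E).trans hTM
    have hP243 : Nat.card P = 243 := by
      rw [Nat.card_congr (subgroupOfEquivOfLe hT3M).toEquiv, L.card_T3, ← L.card_K, h243]
    rw [Subgroup.index]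
    refine card_mod_81 (P := ↥P) (QuotientGroup.mk 1) (fun g => ?_) fun x hx => ?_
    · show QuotientGroup.mk ((g : ↥M) * 1) = _
      rw [mul_one, QuotientGroup.eq, mul_one]
      exact inv_mem (mem_subgroupOf.2 (T3_le_top q E (mem_subgroupOf.1 g.2)))
    obtain ⟨g, rfl⟩ := QuotientGroup.mk_surjective x
    set Y := MulAction.stabilizer ↥P (QuotientGroup.mk g : ↥M ⧸ T0) with hY
    have hmul' : Nat.card (MulAction.orbit ↥P (QuotientGroup.mk g : ↥M ⧸ T0)) * Nat.card Y = 243 := by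
      rw [Nat.card_congr (MulAction.orbitEquivQuotientStabilizer ↥P _), ← hP243]
      exact (Subgroup.card_eq_card_quotient_mul_card_subgroup Y).symm
    by_contra hdiv
    have hY9 : 9 ≤ Nat.card Y := by
      obtain ⟨i, hi, e⟩ := (Nat.dvd_prime_pow Nat.prime_three).1
        (show Nat.card Y ∣ 3 ^ 5 by rw [show 3 ^ 5 = 243 from rfl, ← hmul']; exact Dvd.intro_left _ rfl)
      by_contra hlt
      rw [e] at hmul' hlt
      interval_cases i
      · simp only [pow_zero, mul_one] at hmul'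
        exact hdiv ⟨3, by omega⟩
      · simp only [pow_one] at hmul'
        exact hdiv ⟨1, by omega⟩
      all_goals omega
    set Y' := (Y.map P.subtype).map M.subtype with hY'
    have hY'c : Nat.card Y' = Nat.card Y := by
      rw [card_map_of_injective M.subtype_injective, card_map_of_injective P.subtype_injective]
    have hY'T3 : Y' ≤ L.T3 := by
      rintro _ ⟨_, ⟨y, -, rfl⟩, rfl⟩
      exact mem_subgroupOf.1 y.2
    have hconj : ∀ y ∈ Y', y ∈ topGroup L W c ∧ (g : G)⁻¹ * y * g ∈ topGroup L W c := by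
      rintro _ ⟨_, ⟨y, hy, rfl⟩, rfl⟩
      refine ⟨T3_le_top q E (mem_subgroupOf.1 y.2), ?_⟩
      have h : QuotientGroup.mk ((y : ↥M) * g) = (QuotientGroup.mk g : ↥M ⧸ T0) := MulAction.mem_stabilizer_iff.1 hy
      have := inv_mem (mem_subgroupOf.1 (QuotientGroup.eq.1 h))
      simpa [mul_assoc] using this
    have hgM : Commute (g : G)⁻¹ L.S.t := (hMt g g.2).inv_left
    suffices hg : (g : G)⁻¹ ∈ topGroup L W c by
      refine hx (QuotientGroup.eq.2 ?_)
      rw [mul_one]
      exact mem_subgroupOf.2 hg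
    have hp3 : IsPGroup 3 Y' := L.T3_pGroup.to_le hY'T3
    have hone : ∀ u ∈ Y', u ^ 3 = 1 → (centralizer ({u} : Set G) ⊓ centralizer {L.S.t} ≤ topGroup L W c) →
        (g : G)⁻¹ ∈ topGroup L W c := fun u hu hu3 hC => by
      obtain ⟨h1, h2⟩ := hconj u hu
      exact control_one q E h1 hu3 hC hgM (by rwa [inv_inv])
    by_cases hexp : ∀ y ∈ Y', y ^ 3 = 1
    · obtain ⟨u, hu, v, hv, hu1, hvu, huv⟩ := exists_pair hp3 (hY'c ▸ hY9) hexp
      obtain ⟨a1, a2⟩ := hconj u hu
      obtain ⟨b1, b2⟩ := hconj v hv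
      exact control_pair q E a1 b1 (hexp u hu) (hexp v hv) huv hu1 hvu hgM (by rwa [inv_inv]) (by rwa [inv_inv])
    -- a cube is a power of the point
    push Not at hexp
    obtain ⟨y, hy, hy3⟩ := hexp
    have hyT : y ∈ L.T3 := hY'T3 hy
    obtain ⟨b, hb, k, hk, hyk⟩ := L.exists_T3 hyT
    have hbT : b ∈ topGroup L W c := Q2_le_top q E hb
    -- the cube centralises the second factor, so lies in the span of the point and the scalar
    have hcube : y ^ 3 ∈ L.Kt ∧ ∀ x ∈ L.S.Q2, Commute (y ^ 3) x := by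
      have hN : L.Kt ≤ normalizer (L.S.Q2 : Set G) := L.Kt_le_normalizer_Q2
      have hidx : ((L.Kt).subgroupOf L.T3).index = 3 := by
        have h := (L.Kt.subgroupOf L.T3).card_mul_index
        rw [Nat.card_congr (subgroupOfEquivOfLe L.Kt_le_T3).toEquiv, L.card_T3, mul_comm 3] at h
        exact Nat.eq_of_mul_eq_mul_left Nat.card_pos h
      haveI hn : (L.Kt.subgroupOf L.T3).Normal := normal_of_index_eq_minFac_card (by
        obtain ⟨j, hj⟩ := IsPGroup.iff_card.1 L.T3_pGroup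
        have hj0 : j ≠ 0 := fun h => by
          rw [h, pow_zero] at hj
          have := L.card_T3
          have := Nat.card_pos (α := ↥L.Kt)
          omega
        rw [hidx, hj, Nat.Prime.pow_minFac Nat.prime_three hj0])
      have h3 : y ^ 3 ∈ L.Kt := by
        have := Subgroup.pow_index_mem (L.Kt.subgroupOf L.T3) ⟨y, hyT⟩
        rw [hidx] at this
        exact mem_subgroupOf.1 this
      refine ⟨h3, fun x hx => ?_⟩
      have hbK : b ∉ L.Kt := fun h => hy3 (L.K_exp _ (L.mem_Kt.1 (hyk ▸ L.Kt.mul_mem h hk)).1)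
      have hcy : Commute (y ^ 3) y := (Commute.refl y).pow_left 3
      -- it commutes with the abelian part and an element outside it
      have htop : L.Kt ⊔ zpowers y = L.T3 := by
        refine eq_of_le_of_card_ge (sup_le L.Kt_le_T3 (zpowers_le.2 hyT)) ?_
        have hlt : L.Kt < L.Kt ⊔ zpowers y := lt_of_le_of_ne le_sup_left fun e => hbK (by
          have : y ∈ L.Kt := e ▸ mem_sup_right (mem_zpowers y)
          rw [hyk] at this
          exact (Subgroup.mul_mem_cancel_right _ hk).1 this)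
        obtain ⟨i, hi⟩ := IsPGroup.iff_card.1 L.Kt_pGroup
        obtain ⟨j, hj⟩ := IsPGroup.iff_card.1
          (L.T3_pGroup.to_le (sup_le L.Kt_le_T3 (zpowers_le.2 hyT)) : IsPGroup 3 ↥(L.Kt ⊔ zpowers y))
        have hij : i < j := (Nat.pow_lt_pow_iff_right (show 1 < 3 by norm_num)).1 (by
          rw [← hi, ← hj]
          exact lt_of_le_of_ne (Subgroup.card_le_of_le hlt.le) fun e => hlt.ne (eq_of_le_of_card_ge hlt.le e.ge))
        rw [L.card_T3, hi, hj, ← pow_succ']
        exact Nat.pow_le_pow_right (by norm_num) hij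
      have hle : L.Kt ⊔ zpowers y ≤ centralizer {y ^ 3} := sup_le
        (fun u hu => mem_centralizer_singleton_iff.2 (L.Kt_commute hu h3).eq)
        (zpowers_le.2 (mem_centralizer_singleton_iff.2 hcy.symm.eq))
      exact (mem_centralizer_singleton_iff.1 ((htop ▸ hle) (L.Q2_le_T3 hx))).symm
    obtain ⟨h3K, h3c⟩ := hcube
    obtain ⟨cc, hcc, v, hv1, hv⟩ := exists_cover_Kt q h3K
    have hccK : cc ∈ L.K := zpowers_le.2 (L.mem_Kt.1 q.c_mem).1 hcc
    have hvQ : ∀ x ∈ L.S.Q2, Commute x (L.el v) := fun x hx => by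
      have h1 : Commute x cc := commute_zpowers_c q E (E.comm_Q2 x hx) hcc
      have h2 : Commute x (cc * L.el v) := hv ▸ (h3c x hx).symm
      have := h1.inv_right.mul_right h2
      rwa [inv_mul_cancel_left] at this
    have hQle : ¬ L.S.Q2 ≤ L.Kt := fun h => by
      have h9 := L.card_inf_Q2
      rw [inf_eq_left.2 h, L.S.card2] at h9
      omega
    have hv3 : v 3 = 0 := by
      by_contra h
      exact hQle fun x hx => L.Q2_cent hx hv1 h (hvQ x hx)
    have hv2 : v 2 = 0 := by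
      by_contra h
      refine hQle fun x hx => L.Q2_axis hx ?_
      rw [low_e2 v hv1 hv3 h, L.jd.el_add]
      refine Commute.mul_right ?_ ?_
      · rw [← ZMod.natCast_rightInverse (v 2), el_natCast_smul L.el L.jd.el_add]
        exact (hvQ x hx).pow_right _
      · rw [← ZMod.natCast_rightInverse (-(v 2 * v 0)), el_natCast_smul L.el L.jd.el_add, L.z_eq]
        exact (L.Q2_commute_z hx).pow_right _
    have hzc : L.el v ∈ zpowers L.S.z := L.zpowers_z.2 ⟨v 0, by
      congr 1
      rw [Close.low_facts v hv1 hv3, hv2]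
      simp [Co2Three.e0]⟩
    -- the image of the cube is linear
    have hyTop : y ∈ topGroup L W c := T3_le_top q E hyT
    have hlin : K.im (y ^ 3) ∈ Lgrp := by
      obtain ⟨m, hm⟩ := L.T3_pGroup ⟨y, hyT⟩
      have hy3m : y ^ 3 ^ m = 1 := by simpa using congrArg Subtype.val hm
      have hpow : ∀ n : ℕ, K.im (y ^ n) = K.im y ^ n := fun n => by
        induction n with
        | zero => rw [pow_zero, pow_zero, (K.im_ker 1 (one_mem _)).2 W.one_mem]
        | succ n ih => rw [pow_succ, pow_succ, K.im_mul _ (pow_mem hyTop n) _ hyTop, ih]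
      obtain ⟨a, ha, k', e⟩ := K.im_semi y hyTop
      by_cases haL : a ∈ Lgrp
      · rw [hpow, e, ((U62Aut.omP_comm haL).pow_right k').mul_pow, ← pow_mul, mul_comm k', pow_mul,
          U62Aut.omP_cube, one_pow, mul_one]
        exact pow_mem haL 3
      · -- an outer map has a square in the linear group
        have h2 : K.im y ^ 2 ∈ Lgrp := by
          have hsw : ∀ n : ℕ, omP ^ n * a = a * (omP⁻¹) ^ n := fun n => by
            have h1 : omP * a = a * omP⁻¹ := by
              rw [eq_mul_inv_iff_mul_eq, mul_assoc, U62Aut.omP_swap ha haL, mul_inv_cancel_left]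
            exact ((show SemiconjBy a omP⁻¹ omP from h1.symm).pow_right n).eq.symm
          rw [e, pow_two, show a * omP ^ k' * (a * omP ^ k') = a * (omP ^ k' * a) * omP ^ k' by group, hsw,
            inv_pow, show a * (a * (omP ^ k')⁻¹) * omP ^ k' = a * a by group]
          rcases ha with h | h
          · exact mul_mem h h
          · have h' := U62Aut.frV_conj h
            rw [← mul_assoc, U62Aut.frV_sq, one_mul] at h'
            have := mul_mem h' h
            rwa [show a * U62Aut.frV * (U62Aut.frV * a) = a * (U62Aut.frV * U62Aut.frV) * a by group,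
              U62Aut.frV_sq, mul_one] at this
        obtain ⟨n, hn⟩ : ∃ n, 3 ^ m + 1 = 2 * n := by
          obtain ⟨n, hn⟩ := Odd.pow (show Odd 3 by decide) (n := m)
          exact ⟨n + 1, by omega⟩
        have hone : K.im y = (K.im y ^ 2) ^ n := by
          rw [← pow_mul, ← hn, pow_succ, ← hpow, hy3m, (K.im_ker 1 (one_mem _)).2 W.one_mem, one_mul]
        rw [hpow, hone]
        exact pow_mem (pow_mem h2 n) 3
    -- so it is a power of the point
    have hcc1 : cc = 1 := by
      obtain ⟨i, hi⟩ := (mem_powers_iff_mem_zpowers (x := c)).2 hcc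
      replace hi : c ^ i = cc := hi
      have hzL : ∀ x ∈ zpowers L.S.z, K.im x ∈ Lgrp := fun x hx =>
        K.im_lin x (zpowers_le.2 K.part.z_mem hx)
      have hccT : cc ∈ topGroup L W c := zpowers_le.2 (Kt_le_top q q.c_mem) hcc
      have hvT : L.el v ∈ topGroup L W c := Kt_le_top q (L.el_mem_Kt.2 hv1)
      rw [hv, K.im_mul cc hccT _ hvT] at hlin
      have hci : K.im cc ∈ Lgrp := by
        have := mul_mem hlin (inv_mem (hzL _ hzc))
        rwa [mul_inv_cancel_right] at this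
      have hpowc : ∀ n : ℕ, K.im (c ^ n) = K.im c ^ n := fun n => by
        induction n with
        | zero => rw [pow_zero, pow_zero, (K.im_ker 1 (one_mem _)).2 W.one_mem]
        | succ n ih => rw [pow_succ, pow_succ, K.im_mul _ (pow_mem (Kt_le_top q q.c_mem) n) _ (Kt_le_top q q.c_mem),
            ih]
      rw [← hi, hpowc] at hci
      have hc0 : K.im c ^ i = 1 := by
        rcases K.im_c hc with e | e <;> rw [e] at hci ⊢
        · exact omP_pow_mem (U62Aut.lin_le hci)
        · rw [← pow_mul] at hci ⊢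
          exact omP_pow_mem (U62Aut.lin_le hci)
      have hcW : cc ∈ W := (K.im_ker cc hccT).1 (by rw [← hi, hpowc, hc0])
      exact orderOf_eq_one_iff.1 (Nat.eq_one_of_dvd_coprimes (show Nat.Coprime 512 3 by norm_num)
        (q.mid.card ▸ Subgroup.orderOf_dvd_natCard W hcW) (orderOf_dvd_of_pow_eq_one (L.K_exp cc hccK)))
    rw [hcc1, one_mul] at hv
    have hz3 : zpowers (y ^ 3) = zpowers L.S.z := by
      refine eq_of_le_of_card_ge (zpowers_le.2 (hv ▸ hzc)) ?_
      rw [Nat.card_zpowers, Nat.card_zpowers, L.S.core.ord,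
        orderOf_eq_prime (L.K_exp _ (L.mem_Kt.1 h3K).1) hy3]
    refine hone L.S.z (zpowers_le.2 (pow_mem hy 3) (hz3.symm ▸ mem_zpowers L.S.z)) ?_ (centZ_le_top q E)
    rw [← L.S.core.ord, pow_orderOf_eq_one]
  have hTS : T = S := eq_of_index (fun σ ⟨g, hg⟩ => hg ▸ hisom g) hST hcardS (hindex ▸ hmod)
  intro g hg
  obtain ⟨x, hx, e⟩ : f ⟨g, hg⟩ ∈ S := hTS ▸ ⟨_, rfl⟩
  have hmem := T0.mul_mem hx (hker (show x⁻¹ * ⟨g, hg⟩ ∈ f.ker by
    rw [MonoidHom.mem_ker, map_mul, map_inv, e, inv_mul_cancel]))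
  rw [mul_inv_cancel_left] at hmem
  exact mem_subgroupOf.1 hmem

end Cfsg.Agent.U62Three.Close
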