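import Cfsg.Agent.Lib.U62Three.Defs

/-!
The plane of the fixed points of the involution `t` in `J`: the part of `K` centralising `t`, and the elements of
the centraliser of `t` that realise a given motion of `J`.
-/

set_option autoImplicit false
set_option maxRecDepth 20000
set_option linter.style.haveILetI false

namespace Cfsg.Agent.U62Three

open Subgroup
open Co2Three (V4 qf bf e0 e1 e2 e3 refl1 IsSim isSim_mult)
open scoped commutatorElement

namespace Close

theorem refl1_fix : ∀ v : V4, refl1 v = v ↔ v 1 = 0 := by decide +kernel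

theorem half_facts : ∀ v : V4, ∀ a : ZMod 3, (v + refl1 v = 0 → v = v 1 • e1) ∧
    a • e1 + refl1 (-a • e1) = 2 * a • e1 ∧ -a • e1 + 2 * a • e1 = a • e1 := by decide +kernel

theorem plane_perp : ∀ u : V4, bf u e0 = 0 → bf u e2 = 0 → bf u e3 = 0 → u = u 1 • e1 := by decide +kernel

theorem plane_basis : ∀ v : V4, v = v 0 • e0 + v 1 • e1 + v 2 • e2 + v 3 • e3 ∧
    refl1 v = v 0 • e0 + -v 1 • e1 + v 2 • e2 + v 3 • e3 ∧ (v 1 = 0 → refl1 v = v) := by decide +kernel

theorem r1M_mulVec : ∀ v : V4, r1M.mulVec v = refl1 v := by decide +kernel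

/-- An isometry preserving the plane commutes with the reflection. -/
theorem refl_comm {M : Matrix (Fin 4) (Fin 4) (ZMod 3)} (hq : ∀ v, qf (M.mulVec v) = qf v)
    (hp : ∀ v : V4, v 1 = 0 → (M.mulVec v) 1 = 0) (hinj : Function.Injective M.mulVec) (v : V4) :
    M.mulVec (refl1 v) = refl1 (M.mulVec v) := by
  obtain ⟨s, -, hs, hb⟩ := isSim_mult (Or.inl hq : IsSim M)
  have hs1 : s = 1 := by
    have h := hs e1
    rw [hq, show qf e1 = -1 by decide] at h
    rcases (by decide : ∀ s : ZMod 3, -1 = s * -1 → s = 1) s h with rfl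
    rfl
  -- the images of the plane fill it
  let f : {u : V4 // u 1 = 0} → {u : V4 // u 1 = 0} := fun u => ⟨M.mulVec u.1, hp u.1 u.2⟩
  have hf : Function.Surjective f := Finite.surjective_of_injective fun a b e =>
    Subtype.ext (hinj (congrArg Subtype.val e))
  have hperp : ∀ w : V4, w 1 = 0 → bf (M.mulVec e1) w = 0 := by
    intro w hw
    obtain ⟨⟨u, hu⟩, e⟩ := hf ⟨w, hw⟩
    rw [← show M.mulVec u = w from congrArg Subtype.val e, hb, hs1, one_mul]
    exact (by decide : ∀ u : V4, u 1 = 0 → bf e1 u = 0) u hu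
  have he : ∃ a : ZMod 3, M.mulVec e1 = a • e1 :=
    ⟨_, plane_perp _ (hperp e0 (by decide)) (hperp e2 (by decide)) (hperp e3 (by decide))⟩
  obtain ⟨a, ha⟩ := he
  have hbasis := plane_basis v
  set x := M.mulVec e0
  set y := M.mulVec e2
  set z := M.mulVec e3
  have hx : refl1 x = x := (refl1_fix x).2 (hp e0 (by decide))
  have hy : refl1 y = y := (refl1_fix y).2 (hp e2 (by decide))
  have hz : refl1 z = z := (refl1_fix z).2 (hp e3 (by decide))
  have e : M.mulVec v = v 0 • x + v 1 • a • e1 + v 2 • y + v 3 • z := by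
    conv_lhs => rw [hbasis.1]
    simp only [Matrix.mulVec_add, Matrix.mulVec_smul, ha, x, y, z]
  have e' : M.mulVec (refl1 v) = v 0 • x + -v 1 • a • e1 + v 2 • y + v 3 • z := by
    rw [hbasis.2.1]
    simp only [Matrix.mulVec_add, Matrix.mulVec_smul, ha, x, y, z]
  rw [e, e']
  have lin : ∀ p q : V4, refl1 (p + q) = refl1 p + refl1 q := fun p q => by
    funext i
    fin_cases i <;> simp [refl1] <;> ring
  have smul : ∀ (k : ZMod 3) (p : V4), refl1 (k • p) = k • refl1 p := fun k p => by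
    funext i
    fin_cases i <;> simp [refl1]
  simp only [lin, smul, hx, hy, hz]
  rw [show refl1 e1 = -e1 by decide]
  simp only [smul_neg, neg_smul]

end Close

namespace Loc

variable {G : Type*} [Group G] [Finite G] (L : Loc G)

theorem el_zero : L.el 0 = 1 := mul_eq_left.1 ((L.jd.el_add 0 0).symm.trans (by rw [add_zero]))

theorem el_neg (v : V4) : L.el (-v) = (L.el v)⁻¹ :=
  eq_inv_of_mul_eq_one_left (by rw [← L.jd.el_add, neg_add_cancel, L.el_zero])

theorem el_comm (u v : V4) : Commute (L.el u) (L.el v) := by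
  rw [Commute, SemiconjBy, ← L.jd.el_add, ← L.jd.el_add, add_comm]

theorem el_mem_K (v : V4) : L.el v ∈ L.K := (L.mem_K _).2 fun u => L.el_comm v u

theorem K_commute {x y : G} (hx : x ∈ L.K) (hy : y ∈ L.K) : Commute x y :=
  haveI := L.K_comm
  congrArg Subtype.val (mul_comm' (⟨x, hx⟩ : L.K) ⟨y, hy⟩)

theorem el_commute_t {v : V4} : Commute (L.el v) L.S.t ↔ v 1 = 0 := by
  rw [← Close.refl1_fix]
  constructor
  · intro h
    refine L.jd.el_inj ?_
    rw [← L.t_act, ← h.eq, mul_inv_cancel_right]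
  · intro h
    exact (mul_inv_eq_iff_eq_mul.1 (by rw [L.t_act, h])).symm

theorem mem_Kt {x : G} : x ∈ L.Kt ↔ x ∈ L.K ∧ Commute x L.S.t := by
  rw [mem_inf, mem_centralizer_singleton_iff]; rfl

theorem el_mem_Kt {v : V4} : L.el v ∈ L.Kt ↔ v 1 = 0 :=
  L.mem_Kt.trans ⟨fun h => L.el_commute_t.1 h.2, fun h => ⟨L.el_mem_K v, L.el_commute_t.2 h⟩⟩

/-- Every element of `K` is a fixed one times a multiple of the axis. -/
theorem exists_fix {x : G} (hx : x ∈ L.K) : ∃ a : ZMod 3, x * L.el (a • e1) ∈ L.Kt := by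
  have hd : ∃ v, L.S.t * x * L.S.t⁻¹ = x * L.el v := by
    rcases L.K_card with h | h
    · -- then `K` is `J`
      let f : V4 → ↥L.K := fun v => ⟨L.el v, L.el_mem_K v⟩
      have hf : Function.Surjective f := by
        haveI : Fintype ↥L.K := Fintype.ofFinite _
        refine ((Fintype.bijective_iff_injective_and_card f).2 ⟨fun a b e =>
          L.jd.el_inj (congrArg Subtype.val e), ?_⟩).2
        rw [← Nat.card_eq_fintype_card (α := ↥L.K), h]
        rfl
      obtain ⟨u, hu⟩ := hf ⟨x, hx⟩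
      have e : L.el u = x := congrArg Subtype.val hu
      exact ⟨-u + refl1 u, by rw [← e, L.t_act, ← L.jd.el_add, add_neg_cancel_left]⟩
    · rcases L.sign h L.S.t r1M (fun v => by rw [L.t_act, Close.r1M_mulVec]) with ⟨-, hs⟩ | ⟨hs, -⟩
      · exact hs x hx
      · exact absurd (Or.inr ⟨1, isRot_one, (one_mul _).symm⟩) hs
  obtain ⟨v, hv⟩ := hd
  have ht2 : L.S.t⁻¹ = L.S.t := inv_eq_of_mul_eq_one_right L.S.t_sq
  have h0 : v + refl1 v = 0 := L.jd.el_inj (by
    rw [L.el_zero, L.jd.el_add]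
    refine mul_left_cancel (a := x) ?_
    rw [mul_one, ← mul_assoc, ← hv, ← L.t_act]
    calc L.S.t * x * L.S.t⁻¹ * (L.S.t * L.el v * L.S.t⁻¹) = L.S.t * (x * L.el v) * L.S.t⁻¹ := by group
      _ = L.S.t * (L.S.t * x * L.S.t⁻¹) * L.S.t⁻¹ := by rw [hv]
      _ = L.S.t * L.S.t * x * (L.S.t * L.S.t)⁻¹ := by group
      _ = x := by rw [L.S.t_sq]; group)
  have hv1 := (Close.half_facts v 0).1 h0
  set a := v 1
  refine ⟨-a, L.mem_Kt.2 ⟨L.K.mul_mem hx (L.el_mem_K _), (mul_inv_eq_iff_eq_mul.1 ?_).symm⟩⟩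
  calc L.S.t * (x * L.el (-a • e1)) * L.S.t⁻¹
      = L.S.t * x * L.S.t⁻¹ * (L.S.t * L.el (-a • e1) * L.S.t⁻¹) := by group
    _ = x * L.el (v + refl1 (-a • e1)) := by rw [hv, L.t_act, mul_assoc, ← L.jd.el_add]
    _ = x * L.el (-a • e1) := by
      congr 2
      rw [hv1]
      exact (by decide : ∀ a : ZMod 3, a • e1 + refl1 (-a • e1) = -a • e1) a

/-- An element normalising `J` whose motion commutes with the reflection can be moved into the centraliser of the
involution without changing its motion. -/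
theorem exists_into {g : G} {M : Matrix (Fin 4) (Fin 4) (ZMod 3)}
    (hg : ∀ v, g * L.el v * g⁻¹ = L.el (M.mulVec v)) (hinj : Function.Injective M.mulVec)
    (hM : ∀ v, M.mulVec (refl1 v) = refl1 (M.mulVec v)) :
    ∃ b : ZMod 3, Commute (L.el (b • e1) * g) L.S.t ∧
      ∀ v, L.el (b • e1) * g * L.el v * (L.el (b • e1) * g)⁻¹ = L.el (M.mulVec v) := by
  have hsurj : Function.Surjective M.mulVec := Finite.surjective_of_injective hinj
  have ht2 : L.S.t⁻¹ = L.S.t := inv_eq_of_mul_eq_one_right L.S.t_sq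
  set t := L.S.t
  set k := t * (g * t * g⁻¹) with hk
  have hkK : k ∈ L.K := (L.mem_K k).2 fun v => by
    obtain ⟨u, rfl⟩ := hsurj v
    refine mul_inv_eq_iff_eq_mul.1 ?_
    rw [hk, ← hg]
    calc t * (g * t * g⁻¹) * (g * L.el u * g⁻¹) * (t * (g * t * g⁻¹))⁻¹
        = t * (g * (t * L.el u * t⁻¹) * g⁻¹) * t⁻¹ := by group
      _ = g * L.el u * g⁻¹ := by
          rw [L.t_act, hg, L.t_act, ← hM, (by decide : ∀ w : V4, refl1 (refl1 w) = w), hg]
  obtain ⟨a, ha⟩ := L.exists_fix hkK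
  have hfix := (L.mem_Kt.1 ha).2
  have hgt : g * t * g⁻¹ = t * k := by rw [hk, ← mul_assoc, L.S.t_sq, one_mul]
  have hinv : t * k * t⁻¹ = k⁻¹ := by
    refine eq_inv_of_mul_eq_one_left ?_
    rw [show t * k * t⁻¹ * k = t * k * (t * k) by rw [ht2]; group, ← hgt,
      show g * t * g⁻¹ * (g * t * g⁻¹) = g * (t * t) * g⁻¹ by group, L.S.t_sq, mul_one, mul_inv_cancel]
  -- the part in the fixed points is trivial
  set e := L.el (a • e1) with he
  have het : t * e * t⁻¹ = e⁻¹ := by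
    rw [he, L.t_act, ← L.el_neg]; congr 1
    exact (by decide : ∀ a : ZMod 3, refl1 (a • e1) = -(a • e1)) a
  have h1 : k * e = 1 := by
    have h := mul_inv_eq_iff_eq_mul.2 hfix.symm.eq
    rw [show t * (k * e) * t⁻¹ = t * k * t⁻¹ * (t * e * t⁻¹) by group, hinv, het, ← mul_inv_rev,
      (L.K_commute (L.el_mem_K _) hkK).eq] at h
    have hx : (k * e) ^ 3 = 1 := L.K_exp _ (L.K.mul_mem hkK (L.el_mem_K _))
    set x := k * e
    have h2 : x * x = 1 := by nth_rw 1 [← h]; exact inv_mul_cancel x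
    rwa [pow_three, h2, mul_one] at hx
  refine ⟨a, mul_inv_eq_iff_eq_mul.1 ?_, fun v => ?_⟩
  · rw [← he, show e * g * t * (e * g)⁻¹ = e * (g * t * g⁻¹) * e⁻¹ by group, hgt, eq_inv_of_mul_eq_one_left h1]
    have he3 : e ^ 3 = 1 := L.K_exp _ (L.el_mem_K _)
    calc e * (t * e⁻¹) * e⁻¹ = t * (t⁻¹ * e * t) * e⁻¹ * e⁻¹ := by group
      _ = t * (t * e * t⁻¹) * e⁻¹ * e⁻¹ := by rw [ht2]
      _ = t * (e ^ 3)⁻¹ := by rw [het]; group
      _ = t := by rw [he3, inv_one, mul_one]
  · rw [show L.el (a • e1) * g * L.el v * (L.el (a • e1) * g)⁻¹ =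
      L.el (a • e1) * (g * L.el v * g⁻¹) * (L.el (a • e1))⁻¹ by group, hg, (L.el_comm _ _).eq, mul_inv_cancel_right]

end Loc

end Cfsg.Agent.U62Three
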