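import Cfsg.Agent.Lib.U62Three.Close.Strong
import Cfsg.Agent.Lib.Solvable.Coprime
import Mathlib.GroupTheory.Transfer
import Mathlib.GroupTheory.SchurZassenhaus

/-!
The closing step without tables: the centraliser of a subgroup `F₀` of `A` whose centraliser in the normaliser is a
2-group abelian modulo `F₀` lies in the normaliser, when an elementary group of order nine of the normaliser
normalises `F₀`: Burnside gives a normal 2-complement, on which the group of order nine acts without fixed points.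
-/

set_option autoImplicit false
set_option linter.style.haveILetI false

namespace Cfsg.Agent.U62Three.Close

open Subgroup
open scoped commutatorElement

variable {H : Type*} [Group H] [Finite H] {A : Subgroup H}

/-- An elementary group of order nine acting without fixed points on a group of odd order makes it trivial. -/
theorem odd_trivial {E O : Subgroup H} (hEc : IsMulCommutative ↥E) (hE9 : Nat.card E = 9)
    (hE3 : ∀ e ∈ E, e ^ 3 = 1) (hn : E ≤ normalizer (O : Set H))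
    (hfix : ∀ e ∈ E, e ≠ 1 → ∀ o ∈ O, Commute e o → o = 1) : O = ⊥ := by
  haveI : Fact (Nat.Prime 3) := ⟨Nat.prime_three⟩
  haveI := hEc
  have hncyc : ¬ IsCyclic ↥E := fun h => by
    obtain ⟨g, hg⟩ := h.exists_generator
    have e3 : (g : ↥E) ^ 3 = 1 := Subtype.ext (hE3 g g.2)
    have h9 := orderOf_eq_card_of_forall_mem_zpowers hg
    rw [hE9] at h9
    have := Nat.le_of_dvd (by norm_num) (h9 ▸ orderOf_dvd_of_pow_eq_one e3)
    omega
  obtain ⟨e, he, he1⟩ : ∃ e ∈ E, e ≠ 1 := by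
    refine (E.bot_or_exists_ne_one).resolve_left fun h => ?_
    rw [h, Subgroup.card_bot] at hE9
    omega
  -- one fixed point, so the order is prime to three
  have h3 : ¬ 3 ∣ Nat.card O := by
    intro h3
    have heN := hn he
    letI : MulAction ↥(zpowers e) ↥O :=
      { smul := fun p x => ⟨p.1 * x.1 * p.1⁻¹, conjN (zpowers_le.2 heN p.2) x.2⟩
        one_smul := fun x => Subtype.ext (by change (1 : H) * x.1 * (1 : H)⁻¹ = x.1; group)
        mul_smul := fun p q x => Subtype.ext (by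
          change (p.1 * q.1) * x.1 * (p.1 * q.1)⁻¹ = p.1 * (q.1 * x.1 * q.1⁻¹) * p.1⁻¹; group) }
    have hP : IsPGroup 3 ↥(zpowers e) :=
      IsPGroup.of_card (p := 3) (n := 1) (by rw [Nat.card_zpowers, orderOf_eq_prime (hE3 e he) he1, pow_one])
    obtain ⟨x, hx, hx1⟩ := hP.exists_fixed_point_of_prime_dvd_card_of_fixed_point ↥O h3 (a := 1)
      (fun p => Subtype.ext (by change p.1 * (1 : H) * p.1⁻¹ = 1; group))
    refine hx1 (Subtype.ext (hfix e he he1 x x.2 ?_).symm)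
    exact mul_inv_eq_iff_eq_mul.1 (congrArg Subtype.val (hx ⟨e, mem_zpowers e⟩))
  have hcop : (Nat.card E).Coprime (Nat.card O) := by
    rw [hE9, show 9 = 3 ^ 2 from rfl]
    exact Nat.Coprime.pow_left 2 ((Nat.Prime.coprime_iff_not_dvd Nat.prime_three).2 h3)
  rw [← CoprimeAct.generated_by_centralizers hncyc hn hcop, eq_bot_iff]
  refine iSup₂_le fun a ha x hx => ?_
  exact mem_bot.2 (hfix a ha.1 ha.2 x hx.1 (mem_cent_one.1 hx.2).symm)

/-- The odd order elements of a group with a central subgroup of 2-power order and odd index. -/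
theorem odd_part (K Z : Subgroup H) (hZK : Z ≤ K) (hZ : ∀ z ∈ Z, ∀ k ∈ K, z * k = k * z)
    (hZ2 : IsPGroup 2 ↥Z) (hodd : Odd (Z.subgroupOf K).index) :
    ∃ O : Subgroup H, O ≤ K ∧ (∀ x, x ∈ O ↔ x ∈ K ∧ Odd (orderOf x)) ∧ ∀ k ∈ K, ∃ o ∈ O, o⁻¹ * k ∈ Z := by
  haveI : Fact (Nat.Prime 2) := ⟨Nat.prime_two⟩
  set W := Z.subgroupOf K with hW
  haveI : W.Normal := ⟨fun n hn g => by
    rw [mem_subgroupOf] at hn ⊢
    rw [Subgroup.coe_mul, Subgroup.coe_mul, InvMemClass.coe_inv, ← hZ _ hn _ g.2, mul_inv_cancel_right]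
    exact hn⟩
  have hW2 : IsPGroup 2 ↥W := hZ2.comap_subtype
  obtain ⟨n, hn⟩ := IsPGroup.iff_card.1 hW2
  have hcop : Nat.Coprime (Nat.card W) W.index := by
    rw [hn]
    exact Nat.Coprime.pow_left n (Nat.coprime_two_left.2 hodd)
  obtain ⟨O, hO⟩ := exists_right_complement'_of_coprime hcop
  have hOcard : Nat.card O = W.index := hO.symm.index_eq_card.symm
  have hmem : ∀ x : ↥K, x ∈ O ↔ Odd (orderOf x) := by
    intro x
    constructor
    · intro hx
      exact Odd.of_dvd_nat (hOcard ▸ hodd) (Subgroup.orderOf_mk x hx ▸ orderOf_dvd_natCard (⟨x, hx⟩ : ↥O))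
    · intro hx
      obtain ⟨⟨⟨w, hw⟩, ⟨o, ho⟩⟩, e, -⟩ := hO.existsUnique x
      have e' : w * o = x := e
      have hwo : Commute w o := Subtype.ext (hZ _ (mem_subgroupOf.1 hw) _ o.2)
      set m := orderOf x * Nat.card O with hm
      have ho1 : o ^ Nat.card O = 1 :=
        orderOf_dvd_iff_pow_eq_one.1 (Subgroup.orderOf_mk o ho ▸ orderOf_dvd_natCard (⟨o, ho⟩ : ↥O))
      have hwm : w ^ m = 1 := by
        have h : x ^ m = 1 := by rw [hm, pow_mul, pow_orderOf_eq_one, one_pow]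
        rw [← e', hwo.mul_pow] at h
        rwa [hm, mul_comm, pow_mul o, ho1, one_pow, mul_one, mul_comm] at h
      have hw1 : orderOf w = 1 := by
        obtain ⟨j, hj⟩ := hW2 ⟨w, hw⟩
        have hj' : w ^ 2 ^ j = 1 := congrArg Subtype.val hj
        have hmodd : Odd m := hx.mul (hOcard ▸ hodd)
        exact Nat.eq_one_of_dvd_coprimes (Nat.Coprime.pow_left j (Nat.coprime_two_left.2 hmodd))
          (orderOf_dvd_of_pow_eq_one hj') (orderOf_dvd_of_pow_eq_one hwm)
      rw [← e', orderOf_eq_one_iff.1 hw1, one_mul]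
      exact ho
  refine ⟨O.map K.subtype, map_subtype_le O, fun x => ?_, fun k hk => ?_⟩
  · constructor
    · rintro ⟨y, hy, rfl⟩
      exact ⟨y.2, by simpa [Subgroup.orderOf_coe] using (hmem y).1 hy⟩
    · rintro ⟨hxK, hx⟩
      exact ⟨⟨x, hxK⟩, (hmem _).2 (by rwa [Subgroup.orderOf_mk]), rfl⟩
  · obtain ⟨⟨⟨w, hw⟩, ⟨o, ho⟩⟩, e, -⟩ := hO.existsUnique ⟨k, hk⟩
    refine ⟨o, mem_map_of_mem _ ho, ?_⟩
    rw [← show ((w * o : ↥K) : H) = k from congrArg Subtype.val e, Subgroup.coe_mul,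
      hZ _ (mem_subgroupOf.1 hw) _ o.2, inv_mul_cancel_left]
    exact mem_subgroupOf.1 hw

/-- **The centraliser of such a subgroup lies in the normaliser.** -/
theorem Base.cent_point (B : Base A) (F : BadFacts A) {F0 E : Subgroup H} (hF0 : F0 ≤ A)
    (hEM : E ≤ normalizer (A : Set H)) (hEc : IsMulCommutative ↥E) (hE9 : Nat.card E = 9)
    (hE3 : ∀ e ∈ E, e ^ 3 = 1)
    (hE1 : ∀ e ∈ E, e ≠ 1 → ¬ Fixes A e → ∀ e' ∈ E, e' ≠ 1 → ¬ Fixes A e' → e' ∈ zpowers e)
    (hEF : E ≤ normalizer (F0 : Set H))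
    (h2 : IsPGroup 2 ↥(normalizer (A : Set H) ⊓ centralizer (F0 : Set H)))
    (hab : ∀ p ∈ normalizer (A : Set H) ⊓ centralizer (F0 : Set H),
      ∀ q ∈ normalizer (A : Set H) ⊓ centralizer (F0 : Set H), ⁅p, q⁆ ∈ F0) :
    centralizer (F0 : Set H) ≤ normalizer (A : Set H) := by
  classical
  haveI : Fact (Nat.Prime 2) := ⟨Nat.prime_two⟩
  set Y := centralizer (F0 : Set H) with hY
  set R := normalizer (A : Set H) ⊓ Y with hR
  have hAY : A ≤ Y := fun x hx => mem_centralizer_iff.2 fun y hy => B.comm (hF0 hy) hx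
  have hAR : A ≤ R := le_inf Subgroup.le_normalizer hAY
  have hFY : F0 ≤ Y := hF0.trans hAY
  have hFc : ∀ y ∈ Y, ∀ f ∈ F0, f * y = y * f := fun y hy f hf => mem_centralizer_iff.1 hy f hf
  set Z := F0.subgroupOf Y with hZ
  haveI : Z.Normal := ⟨fun n hn g => by
    rw [mem_subgroupOf] at hn ⊢
    rw [Subgroup.coe_mul, Subgroup.coe_mul, InvMemClass.coe_inv, ← hFc _ g.2 _ hn, mul_inv_cancel_right]
    exact hn⟩
  -- the Sylow subgroup
  obtain ⟨P, hP⟩ := (h2.comap_subtype (K := Y)).exists_le_sylow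
  have hPR : ∀ x : ↥Y, x ∈ (P : Subgroup ↥Y) ↔ (x : H) ∈ R := by
    intro x
    refine ⟨fun hx => mem_inf.2 ⟨B.two_le F (P.2.map Y.subtype)
      (fun y hy => ⟨⟨y, hAY hy⟩, hP (mem_subgroupOf.2 (hAR hy)), rfl⟩) (mem_map_of_mem _ hx), x.2⟩,
      fun hx => hP (mem_subgroupOf.2 hx)⟩
  set π := QuotientGroup.mk' Z with hπ
  have hsurj : Function.Surjective π := QuotientGroup.mk'_surjective Z
  set Pb : Sylow 2 (↥Y ⧸ Z) := P.mapSurjective hsurj with hPb
  have hpre : ∀ x : ↥Y, π x ∈ (Pb : Subgroup (↥Y ⧸ Z)) ↔ (x : H) ∈ R := by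
    intro x
    rw [hPb, Sylow.coe_mapSurjective]
    refine ⟨fun ⟨y, hy, e⟩ => ?_, fun hx => mem_map_of_mem _ ((hPR x).2 hx)⟩
    have hm : (y : H)⁻¹ * x ∈ F0 := mem_subgroupOf.1 (QuotientGroup.eq.1 e)
    rw [show (x : H) = y * ((y : H)⁻¹ * x) by group]
    exact R.mul_mem ((hPR y).1 hy) (hAR (hF0 hm))
  have hN : normalizer ((Pb : Subgroup (↥Y ⧸ Z)) : Set (↥Y ⧸ Z)) ≤
      centralizer ((Pb : Subgroup (↥Y ⧸ Z)) : Set (↥Y ⧸ Z)) := by
    intro n hn
    obtain ⟨n, rfl⟩ := hsurj n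
    have hnR : (n : H) ∈ R := mem_inf.2 ⟨B.weak F fun a ha => by
      have h := (hpre (n * ⟨a, hAY ha⟩ * n⁻¹)).1 (by
        rw [map_mul, map_mul, map_inv]
        exact (mem_normalizer_iff.1 hn _).1 ((hpre _).2 (hAR ha)))
      exact (mem_inf.1 h).1, n.2⟩
    refine mem_centralizer_iff.2 fun q hq => ?_
    obtain ⟨q, rfl⟩ := hsurj q
    refine commutatorElement_eq_one_iff_mul_comm.1 ?_
    rw [← map_commutatorElement]
    exact (QuotientGroup.eq_one_iff _).2 (mem_subgroupOf.2 (by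
      simp only [commutatorElement_def, Subgroup.coe_mul, InvMemClass.coe_inv]
      exact hab q ((hpre q).1 hq) n hnR))
  -- the complement, in the group itself
  set f := MonoidHom.transferSylow Pb hN with hf
  have hc := MonoidHom.ker_transferSylow_isComplement' Pb hN
  set K := (f.ker.comap π).map Y.subtype with hK
  have hKmem : ∀ x : ↥Y, (x : H) ∈ K ↔ π x ∈ f.ker := fun x => by
    refine ⟨fun ⟨y, hy, e⟩ => ?_, fun hx => ⟨x, hx, rfl⟩⟩
    rw [← Subtype.ext (a1 := y) (a2 := x) e]; exact hy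
  have hKY : K ≤ Y := map_subtype_le _
  have hFK : F0 ≤ K := fun y hy => (hKmem ⟨y, hFY hy⟩).2 (by
    rw [hπ, QuotientGroup.mk'_apply, (QuotientGroup.eq_one_iff (N := Z) _).2 (mem_subgroupOf.2 hy)]
    exact one_mem _)
  have hidx : Odd (F0.subgroupOf K).index := by
    have h1 : Nat.card f.ker = Pb.index := hc.index_eq_card.symm
    have hodd : Odd (Nat.card f.ker) := by
      rw [h1]
      exact Nat.odd_iff.2 (Nat.two_dvd_ne_zero.1 Pb.not_dvd_index)
    let φ : ↥K →* ↥f.ker :=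
      { toFun := fun x => ⟨π ⟨x, hKY x.2⟩, (hKmem ⟨x, hKY x.2⟩).1 x.2⟩
        map_one' := Subtype.ext (map_one π)
        map_mul' := fun x y => Subtype.ext (map_mul π ⟨x, hKY x.2⟩ ⟨y, hKY y.2⟩) }
    have hker : φ.ker = F0.subgroupOf K := by
      ext x
      rw [MonoidHom.mem_ker, mem_subgroupOf, Subtype.ext_iff]
      exact (QuotientGroup.eq_one_iff (N := Z) _).trans mem_subgroupOf
    rw [← hker, Subgroup.index_ker]
    exact Odd.of_dvd_nat hodd (Subgroup.card_subgroup_dvd_card _)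
  obtain ⟨O, hOK, hOmem, hdec⟩ := odd_part K F0 hFK (fun z hz k hk => hFc k (hKY hk) z hz)
    (B.isPGroup.to_le hF0) hidx
  -- the group of order nine
  have hEY : ∀ e ∈ E, ∀ y ∈ Y, e * y * e⁻¹ ∈ Y := fun e he y hy => mem_centralizer_iff.2 fun z hz => by
    have hz' : e⁻¹ * z * e ∈ F0 := by simpa using conjN (inv_mem (hEF he)) hz
    calc z * (e * y * e⁻¹) = e * ((e⁻¹ * z * e) * y) * e⁻¹ := by group
      _ = e * (y * (e⁻¹ * z * e)) * e⁻¹ := by rw [hFc y hy _ hz']
      _ = e * y * e⁻¹ * z := by group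
  have hOodd : ∀ y ∈ Y, Odd (orderOf y) → y ∈ O := by
    intro y hy hodd
    refine (hOmem y).2 ⟨(hKmem ⟨y, hy⟩).2 (MonoidHom.mem_ker.2 (orderOf_eq_one_iff.1 ?_)), hodd⟩
    have h1 : orderOf (f (π ⟨y, hy⟩)) ∣ orderOf y := by
      have h : orderOf (f (π ⟨y, hy⟩)) ∣ orderOf (⟨y, hy⟩ : ↥Y) := orderOf_map_dvd (f.comp π) _
      rwa [Subgroup.orderOf_mk y hy] at h
    obtain ⟨j, hj⟩ := Pb.2 (f (π ⟨y, hy⟩))
    exact Nat.eq_one_of_dvd_coprimes (Nat.Coprime.pow_left j (Nat.coprime_two_left.2 hodd))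
      (orderOf_dvd_of_pow_eq_one hj) h1
  have hEO : E ≤ normalizer (O : Set H) := by
    have hone : ∀ e ∈ E, ∀ o ∈ O, e * o * e⁻¹ ∈ O := fun e he o ho =>
      hOodd _ (hEY e he o (hKY (hOK ho))) (by rw [orderOf_conj]; exact ((hOmem o).1 ho).2)
    intro e he
    refine mem_normalizer_iff.2 fun o => ⟨hone e he o, fun h => ?_⟩
    have := hone e⁻¹ (inv_mem he) _ h
    rwa [show e⁻¹ * (e * o * e⁻¹) * e⁻¹⁻¹ = o by group] at this
  have hfixed : ∀ e ∈ E, e ≠ 1 → Fixes A e → ∀ o ∈ O, Commute e o → o = 1 := by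
    intro e he he1 hf o ho hc'
    refine orderOf_eq_one_iff.1 ?_
    obtain ⟨hoK, hodd⟩ := (hOmem o).1 ho
    have ho3 : orderOf e = 3 := orderOf_eq_prime (hE3 e he) he1
    have hoM : o ∈ normalizer (A : Set H) := B.three e (hEM he) ho3 hf o (by
      rw [← hc'.eq, mul_inv_cancel_right]; exact hEM he)
    obtain ⟨j, hj⟩ := h2 ⟨o, mem_inf.2 ⟨hoM, hKY hoK⟩⟩
    exact Nat.eq_one_of_dvd_coprimes (Nat.Coprime.pow_left j (Nat.coprime_two_left.2 hodd))
      (orderOf_dvd_of_pow_eq_one (congrArg Subtype.val hj)) dvd_rfl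
  have hO : O = ⊥ := by
    by_cases hall : ∀ e ∈ E, e ≠ 1 → Fixes A e
    · exact odd_trivial hEc hE9 hE3 hEO fun e he he1 o ho hc' => hfixed e he he1 (hall e he he1) o ho hc'
    push Not at hall
    obtain ⟨e0, he0, he01, hf0⟩ := hall
    -- the whole group commutes with the one moving all of `A`
    have hOe : O ≤ centralizer ({e0} : Set H) := by
      haveI := hEc
      have hncyc : ¬ IsCyclic ↥E := fun h => by
        obtain ⟨g, hg⟩ := h.exists_generator
        have e3 : (g : ↥E) ^ 3 = 1 := Subtype.ext (hE3 g g.2)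
        have h9 := orderOf_eq_card_of_forall_mem_zpowers hg
        rw [hE9] at h9
        have := Nat.le_of_dvd (by norm_num) (h9 ▸ orderOf_dvd_of_pow_eq_one e3)
        omega
      have hcop : (Nat.card E).Coprime (Nat.card O) := by
        have hodd : ∀ p : ℕ, p.Prime → p ∣ Nat.card O → p ≠ 3 := by
          rintro p hp hpd rfl
          haveI : Fact (Nat.Prime 3) := ⟨hp⟩
          obtain ⟨⟨u, hu⟩, hu3⟩ := exists_prime_orderOf_dvd_card' 3 hpd
          rw [Subgroup.orderOf_mk] at hu3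
          obtain ⟨huK, -⟩ := (hOmem u).1 hu
          obtain ⟨e1, he1, he11, hfix1⟩ : ∃ e1 ∈ E, e1 ≠ 1 ∧ Fixes A e1 := by
            by_contra hno
            push Not at hno
            have hle : E ≤ zpowers e0 := fun e he => by
              by_cases h : e = 1
              · rw [h]; exact one_mem _
              · exact hE1 e0 he0 he01 hf0 e he h (hno e he h)
            have := Subgroup.card_le_of_le hle
            rw [hE9, Nat.card_zpowers] at this
            have := Nat.le_of_dvd (by norm_num) (orderOf_dvd_of_pow_eq_one (hE3 e0 he0))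
            omega
          -- a fixed point of it on the group would be trivial
          letI : MulAction ↥(zpowers e1) ↥O :=
            { smul := fun p x => ⟨p.1 * x.1 * p.1⁻¹, conjN (zpowers_le.2 (hEO he1) p.2) x.2⟩
              one_smul := fun x => Subtype.ext (by change (1 : H) * x.1 * (1 : H)⁻¹ = x.1; group)
              mul_smul := fun p q x => Subtype.ext (by
                change (p.1 * q.1) * x.1 * (p.1 * q.1)⁻¹ = p.1 * (q.1 * x.1 * q.1⁻¹) * p.1⁻¹; group) }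
          have hP : IsPGroup 3 ↥(zpowers e1) := IsPGroup.of_card (p := 3) (n := 1) (by
            rw [Nat.card_zpowers, orderOf_eq_prime (hE3 e1 he1) he11, pow_one])
          obtain ⟨x, hx, hx1⟩ := hP.exists_fixed_point_of_prime_dvd_card_of_fixed_point ↥O hpd (a := 1)
            (fun p => Subtype.ext (by change p.1 * (1 : H) * p.1⁻¹ = 1; group))
          exact hx1 (Subtype.ext (hfixed e1 he1 he11 hfix1 x x.2
            (mul_inv_eq_iff_eq_mul.1 (congrArg Subtype.val (hx ⟨e1, mem_zpowers e1⟩)))).symm)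
        rw [hE9, show 9 = 3 ^ 2 from rfl]
        exact Nat.Coprime.pow_left 2
          ((Nat.Prime.coprime_iff_not_dvd Nat.prime_three).2 fun h => hodd 3 Nat.prime_three h rfl)
      conv_lhs => rw [← CoprimeAct.generated_by_centralizers hncyc hEO hcop]
      refine iSup₂_le fun a ha x hx => ?_
      have hax : Commute x a := mem_cent_one.1 hx.2
      by_cases hfa : Fixes A a
      · rw [hfixed a ha.1 ha.2 hfa x hx.1 hax.symm]
        exact one_mem _
      · obtain ⟨i, hi⟩ := mem_zpowers_iff.1 (hE1 a ha.1 ha.2 hfa e0 he0 he01 hf0)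
        rw [← hi]
        exact mem_cent_one.2 (hax.zpow_right i)
    have he0M := hEM he0
    rw [eq_bot_iff]
    intro o ho
    obtain ⟨hoK, hodd⟩ := (hOmem o).1 ho
    -- the elements of `A` so centralised fill `A`
    let f : ↥A → ↥A := fun a => ⟨a.1⁻¹ * (e0 * a * e0⁻¹), A.mul_mem (A.inv_mem a.2) (conjN he0M a.2)⟩
    have hf : Function.Injective f := fun a b e => by
      have e' : (a : H)⁻¹ * (e0 * a * e0⁻¹) = (b : H)⁻¹ * (e0 * b * e0⁻¹) := congrArg Subtype.val e
      refine Subtype.ext (mul_inv_eq_one.1 ?_)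
      by_contra hne
      refine hf0 ⟨(a : H) * (b : H)⁻¹, A.mul_mem a.2 (A.inv_mem b.2), hne, mul_inv_eq_iff_eq_mul.1 ?_⟩
      have h1 : (a : H)⁻¹ * (e0 * a * e0⁻¹) * (e0 * b * e0⁻¹)⁻¹ = (b : H)⁻¹ := by
        rw [e', mul_inv_cancel_right]
      calc e0 * ((a : H) * (b : H)⁻¹) * e0⁻¹ = (e0 * a * e0⁻¹) * (e0 * b * e0⁻¹)⁻¹ := by group
        _ = (a : H) * ((a : H)⁻¹ * (e0 * a * e0⁻¹) * (e0 * b * e0⁻¹)⁻¹) := by group
        _ = (a : H) * (b : H)⁻¹ := by rw [h1]
    have hoA : o ∈ centralizer (A : Set H) := mem_centralizer_iff.2 fun b hb => by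
      obtain ⟨a, ha⟩ := (Finite.injective_iff_surjective.1 hf) ⟨b, hb⟩
      have ha' : (a : H)⁻¹ * (e0 * a * e0⁻¹) = b := congrArg Subtype.val ha
      have hao : (a : H) * o * (a : H)⁻¹ ∈ O := hOodd _
        (Y.mul_mem (Y.mul_mem (hAY a.2) (hKY hoK)) (Y.inv_mem (hAY a.2))) (by rw [orderOf_conj]; exact hodd)
      have h1 : Commute o ((a : H)⁻¹ * e0 * a) := by
        have := (mem_cent_one.1 (hOe hao)).map (MulAut.conj (a : H)⁻¹).toMonoidHom
        simpa [mul_assoc] using this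
      have := h1.mul_right (mem_cent_one.1 (hOe ho)).inv_right
      rw [show (a : H)⁻¹ * e0 * a * e0⁻¹ = b by rw [← ha']; group] at this
      exact this.eq.symm
    obtain ⟨j, hj⟩ := B.isPGroup ⟨o, B.self hoA⟩
    exact mem_bot.2 (orderOf_eq_one_iff.1 (Nat.eq_one_of_dvd_coprimes
      (Nat.Coprime.pow_left j (Nat.coprime_two_left.2 hodd))
      (orderOf_dvd_of_pow_eq_one (congrArg Subtype.val hj)) dvd_rfl))
  intro y hy
  obtain ⟨⟨⟨k, hk⟩, ⟨r, hr⟩⟩, e, -⟩ := hc.existsUnique (π ⟨y, hy⟩)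
  obtain ⟨k, rfl⟩ := hsurj k
  obtain ⟨o, ho, hok⟩ := hdec _ ((hKmem k).2 hk)
  rw [hO, mem_bot] at ho
  rw [ho, inv_one, one_mul] at hok
  have hk1 : π k = 1 := (QuotientGroup.eq_one_iff k).2 (mem_subgroupOf.2 hok)
  have e' : π k * r = π ⟨y, hy⟩ := e
  rw [hk1, one_mul] at e'
  exact (mem_inf.1 ((hpre ⟨y, hy⟩).1 (e' ▸ hr))).1

end Cfsg.Agent.U62Three.Close
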