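import Cfsg.Agent.Lib.U62Three.Close.Fpf
import Cfsg.Agent.Lib.U62Three.Close.Lift

/-!
The closing step without scalar element: the subgroup is the centraliser of the involution.
-/

set_option autoImplicit false
set_option maxRecDepth 20000
set_option linter.style.haveILetI false

namespace Cfsg.Agent.U62Three.Close

open Subgroup
open Co2Three (V4 qf)
open U62Aut (Agrp)

variable {G : Type*} [Group G] [Finite G] {L : Loc G} {W : Subgroup G} {c : G} {D : Subgroup G}

/-- The centraliser of `W` in the centraliser of the involution, once the latter is known. -/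
theorem cenT_of_top (q : Quot L W c) (K : PreTop L W c D)
    (htop : centralizer ({L.S.t} : Set G) = topGroup L W c) : CenT L W c := by
  refine ⟨q, htop, fun x hxt hxW => ?_⟩
  have hx : x ∈ topGroup L W c := htop ▸ mem_centralizer_singleton_iff.2 hxt.eq
  refine (K.im_ker x hx).1 (Equiv.ext fun v => ?_)
  obtain ⟨a, ha, rfl⟩ := K.nv_surj v
  rw [← K.im_conj x hx a ha, (hxW a ha).eq, mul_inv_cancel_right]
  rfl

theorem qf_cases : ∀ v : V4, qf v = 0 ∨ qf v = 1 ∨ qf v = 2 := by decide +kernel

theorem cent_t_small (q : Quot L W c) (K : TopCrd L W c D) (h81 : Nat.card L.K = 81) :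
    centralizer ({L.S.t} : Set G) = topGroup L W c := by
  have hc : c = 1 := by
    rcases q.c_case with ⟨-, h⟩ | ⟨h, -⟩
    · exact h
    · omega
  have E := ctl q
  have hMT : ∀ g, g ∈ MT L.S.t W ↔ g ∈ topGroup L W c := fun g => by
    refine ⟨fun hg => ?_, fun hg => mem_inf.2 ⟨topGroup_le_norm hg, topGroup_le_cent q.mid hg⟩⟩
    exact mem_topGroup (mem_inf.1 hg).1 (mem_centralizer_singleton_iff.1 (mem_inf.1 hg).2)
      (norm_of_commute (hc ▸ Commute.one_right g))
  let U : Upper L.S.t W :=
    { sq := L.S.t_sq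
      mem := q.mid.P_le L.S.t_mem
      le := q.mid.le
      nv := K.nv
      nv_mul := K.nv_mul
      nv_surj := K.nv_surj
      nv_eq := K.nv_eq
      lin := K.im
      lin_mem := fun g hg => K.im_agrp hc g ((hMT g).1 hg)
      lin_mul := fun g hg h hh => K.im_mul g ((hMT g).1 hg) h ((hMT h).1 hh)
      lin_ker := fun g hg => K.im_ker g ((hMT g).1 hg)
      lin_conj := fun g hg a ha => K.im_conj g ((hMT g).1 hg) a ha
      lin_surj := fun σ hσ => by
        obtain ⟨d, hd, e⟩ := K.im_surj σ hσ
        exact ⟨d, (hMT d).2 (K.part.le hd), e⟩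
      three := fun x hx h3 hfix g hg hgx => by
        have hx3 : x ^ 3 = 1 := by rw [← h3, pow_orderOf_eq_one]
        have hxT := (hMT x).1 hx
        obtain ⟨m, hm, hmx⟩ := conj_one q E hxT hx3
        obtain ⟨cc, hcc, v, hv1, hv⟩ := exists_cover_Kt q hmx
        have hcc1 : cc = 1 := by simpa [hc] using hcc
        rw [hcc1] at hv
        have hv' : m * x * m⁻¹ = L.el v := by simpa using hv
        have hv0 : v ≠ 0 := fun e => by
          rw [e, L.el_zero, conj_eq_one_iff] at hv'
          rw [hv', orderOf_one] at h3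
          omega
        obtain ⟨a, ha, ha1, hat, hca⟩ := hfix
        have hq : qf v ≠ 1 := fun e => by
          have hma : m * a * m⁻¹ ∈ W := (mem_normalizer_iff.1 (topGroup_le_norm hm) a).1 ha
          have hc' : Commute (L.el v) (m * a * m⁻¹) := hv' ▸ hca.map (MulAut.conj m).toMonoidHom
          rcases el_moves q K.toPreTop E hv1 e hma hc' with h | h
          · exact ha1 (conj_eq_one_iff.1 h)
          · refine hat ?_
            have hmt : Commute m L.S.t := mem_centralizer_singleton_iff.1 (topGroup_le_cent q.mid hm)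
            rw [show a = m⁻¹ * (m * a * m⁻¹) * m by group, h, mul_assoc, ← hmt.eq, inv_mul_cancel_left]
        have hC : centralizer ({L.el v} : Set G) ⊓ centralizer {L.S.t} ≤ topGroup L W c :=
          cent_el q E hv1 hv0 ((qf_cases v).imp id fun h => ⟨hq, h81⟩)
        exact (hMT g).2 (control_one q E hxT hx3 (cent_conj q E hm (hv' ▸ hC))
          (mem_centralizer_singleton_iff.1 hg) ((hMT _).1 hgx)) }
  refine le_antisymm (fun g hg => (hMT g).1 (mem_inf.2 ⟨U.cent_le hg, hg⟩)) (topGroup_le_cent q.mid)

end Cfsg.Agent.U62Three.Close
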