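import Cfsg.Agent.Lib.Co2Three.Close.Engine
import Mathlib.GroupTheory.GroupAction.Quotient
import Mathlib.Tactic.Group

/-!
The closing step without tables, first half: an elementary abelian 2-group `A`, self-centralising, whose normaliser
contains every element moving one of its elements of order three into it, is strongly closed in its normaliser,
given a few facts on the involutions of the normaliser commuting with no element of order three.
-/

set_option autoImplicit false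
set_option linter.style.haveILetI false

namespace Cfsg.Agent.U62Three.Close

open Subgroup
open scoped commutatorElement

variable {H : Type*} [Group H]

/-- The element commutes with a nontrivial element of `A`. -/
def Fixes (A : Subgroup H) (x : H) : Prop := ∃ a ∈ A, a ≠ 1 ∧ Commute x a

/-- The general data: three with a fixed point controls, and every element of `A` commutes with an element of order
three. -/
structure Base (A : Subgroup H) : Prop where
  sq : ∀ a ∈ A, a * a = 1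
  self : centralizer (A : Set H) ≤ A
  three : ∀ x ∈ normalizer (A : Set H), orderOf x = 3 → Fixes A x → ∀ g : H,
    g * x * g⁻¹ ∈ normalizer (A : Set H) → g ∈ normalizer (A : Set H)
  fixed : ∀ a ∈ A, ∃ x ∈ normalizer (A : Set H), orderOf x = 3 ∧ Commute x a

/-- An involution of the normaliser outside `A` commuting with none of its elements of order three. -/
structure Bad (A : Subgroup H) (r : H) : Prop where
  mem : r ∈ normalizer (A : Set H)
  not_mem : r ∉ A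
  sq : r * r = 1
  no_three : ∀ y ∈ normalizer (A : Set H), orderOf y = 3 → ¬ Commute y r

/-- What is needed of the bad involutions: they behave as transvections. -/
structure BadFacts (A : Subgroup H) : Prop where
  /-- two commuting ones whose product is in `A` or bad differ by an element of `A` -/
  meet : ∀ r s, Bad A r → Bad A s → Commute r s → (r * s ∈ A ∨ Bad A (r * s)) → r * s ∈ A
  /-- the fixed points have index more than two -/
  small : ∀ r, Bad A r → 2 * Nat.card ↥(A ⊓ centralizer ({r} : Set H)) < Nat.card A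
  /-- a 2-group of the centraliser has the commutators with `r` among its commutators with the fixed points -/
  conn : ∀ r, Bad A r → ∃ T : Subgroup H, IsPGroup 2 T ∧ T ≤ normalizer (A : Set H) ⊓ centralizer ({r} : Set H) ∧
    A ⊓ centralizer ({r} : Set H) ≤ T ∧ ∀ a ∈ A,
      ⁅a, r⁆ ∈ closure {c | ∃ f ∈ A ⊓ centralizer ({r} : Set H), ∃ u ∈ T, c = ⁅f, u⁆}
  /-- only `A⟨r⟩` fixes a subgroup of index two of the fixed points that contains the commutators -/
  cent : ∀ r, Bad A r → ∀ F : Subgroup H, F ≤ A ⊓ centralizer ({r} : Set H) →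
    (∀ f ∈ A ⊓ centralizer ({r} : Set H), ∀ g ∈ A ⊓ centralizer ({r} : Set H), f ∉ F → g ∉ F → f * g ∈ F) →
    (∀ a ∈ A, ⁅a, r⁆ ∈ F) → ∀ m ∈ normalizer (A : Set H) ⊓ centralizer (F : Set H), m ∈ A ∨ r * m ∈ A

variable {A : Subgroup H}

theorem Base.inv_eq (B : Base A) {a : H} (ha : a ∈ A) : a⁻¹ = a := inv_eq_of_mul_eq_one_right (B.sq a ha)

theorem Base.comm (B : Base A) {a b : H} (ha : a ∈ A) (hb : b ∈ A) : a * b = b * a := by
  rw [← B.inv_eq (A.mul_mem ha hb), mul_inv_rev, B.inv_eq ha, B.inv_eq hb]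

theorem Base.isPGroup (B : Base A) : IsPGroup 2 ↥A := fun a =>
  ⟨1, Subtype.ext (by rw [pow_one, pow_two]; exact B.sq a.1 a.2)⟩

theorem conjN {m a : H} (hm : m ∈ normalizer (A : Set H)) (ha : a ∈ A) : m * a * m⁻¹ ∈ A :=
  (mem_normalizer_iff.1 hm a).1 ha

theorem mem_cent_one {x y : H} : x ∈ centralizer ({y} : Set H) ↔ Commute x y := mem_centralizer_singleton_iff

theorem orderOf_conj (g x : H) : orderOf (g * x * g⁻¹) = orderOf x := by
  rw [show g * x * g⁻¹ = (MulAut.conj g).toMonoidHom x by simp, orderOf_injective _ (MulAut.conj g).injective]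

variable [Finite H] (B : Base A)
include B

/-- A 3-group with an element of order three of the normaliser lies in the normaliser. -/
theorem Base.three_le {Q : Subgroup H} (hQ : IsPGroup 3 ↥Q) {x : H} (hxQ : x ∈ Q)
    (hx : x ∈ normalizer (A : Set H)) (h3 : orderOf x = 3) (hf : Fixes A x) : Q ≤ normalizer (A : Set H) := by
  haveI : Fact (Nat.Prime 3) := ⟨Nat.prime_three⟩
  haveI := hQ.isNilpotent
  by_contra hne
  set N := (normalizer (A : Set H)).subgroupOf Q with hN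
  have hN' : N ≠ ⊤ := fun e => hne fun z hz =>
    (mem_subgroupOf (K := Q) (h := ⟨z, hz⟩)).1 (hN ▸ e ▸ mem_top _)
  obtain ⟨u, hu, huN⟩ := SetLike.exists_of_lt
    (Group.normalizerCondition_of_isNilpotent N (lt_top_iff_ne_top.2 hN'))
  refine huN (mem_subgroupOf.2 (B.three x hx h3 hf u ?_))
  exact mem_subgroupOf.1 ((mem_normalizer_iff.1 hu (⟨x, hxQ⟩ : ↥Q)).1 (mem_subgroupOf.2 hx))

/-- An involution of the normaliser outside `A` conjugate into `A` is bad. -/
theorem Base.bad_of_fused {a g : H} (ha : a ∈ A) (hM : g * a * g⁻¹ ∈ normalizer (A : Set H))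
    (hA : g * a * g⁻¹ ∉ A) : Bad A (g * a * g⁻¹) := by
  refine ⟨hM, hA, by rw [conj_mul, B.sq a ha, mul_one, mul_inv_cancel], fun y hy hy3 hc => hA ?_⟩
  haveI : Fact (Nat.Prime 3) := ⟨Nat.prime_three⟩
  obtain ⟨x, hx, hx3, hxa⟩ := B.fixed a ha
  set r := g * a * g⁻¹ with hr
  set C := centralizer ({r} : Set H) with hC
  have hyC : y ∈ C := mem_cent_one.2 hc
  have hxC : g * x * g⁻¹ ∈ C := mem_cent_one.2 (by rw [hr]; exact hxa.map (MulAut.conj g).toMonoidHom)
  have hp : ∀ {z : H}, orderOf z = 3 → ∀ hz : z ∈ C, ∃ Q : Sylow 3 ↥C, (⟨z, hz⟩ : ↥C) ∈ (Q : Subgroup ↥C) := by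
    intro z hz3 hz
    obtain ⟨Q, hQ⟩ := (IsPGroup.of_card (p := 3) (n := 1) (by
      rw [Nat.card_zpowers, Subgroup.orderOf_mk, hz3, pow_one]) :
        IsPGroup 3 ↥(zpowers (⟨z, hz⟩ : ↥C))).exists_le_sylow
    exact ⟨Q, hQ (mem_zpowers _)⟩
  obtain ⟨Q, hQ⟩ := hp hy3 hyC
  obtain ⟨P, hP⟩ := hp (by rw [orderOf_conj, hx3]) hxC
  obtain ⟨c, hc'⟩ := MulAction.exists_smul_eq ↥C Q P
  have ha1 : a ≠ 1 := fun e => hA (by rw [hr, e, mul_one, mul_inv_cancel]; exact A.one_mem)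
  set R := ((P : Subgroup ↥C).map C.subtype).map (MulAut.conj g⁻¹).toMonoidHom with hR
  have hxR : x ∈ R := ⟨_, mem_map_of_mem C.subtype hP, by simp [mul_assoc]⟩
  have hRM : R ≤ normalizer (A : Set H) :=
    B.three_le ((P.2.map _).map _) hxR hx hx3 ⟨a, ha, ha1, hxa⟩
  set h := g⁻¹ * (c : H) with hh
  have hha : h * r * h⁻¹ = a := by
    rw [hh, show g⁻¹ * (c : H) * r * (g⁻¹ * (c : H))⁻¹ = g⁻¹ * ((c : H) * r * (c : H)⁻¹) * g by group,
      (mem_cent_one.1 c.2).eq, mul_inv_cancel_right, hr]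
    group
  have hy' : h * y * h⁻¹ ∈ normalizer (A : Set H) := by
    refine hRM ⟨_, mem_map_of_mem C.subtype (show c * ⟨y, hyC⟩ * c⁻¹ ∈ (P : Subgroup ↥C) by
      rw [← hc']; exact ⟨_, hQ, rfl⟩), ?_⟩
    simp [hh, mul_assoc]
  have hfix : Fixes A (h * y * h⁻¹) := ⟨a, ha, ha1, by
    rw [← hha]
    exact hc.map (MulAut.conj h).toMonoidHom⟩
  have hhN : h⁻¹ ∈ normalizer (A : Set H) := B.three _ hy' (by rw [orderOf_conj, hy3]) hfix _ (by
    rw [show h⁻¹ * (h * y * h⁻¹) * h⁻¹⁻¹ = y by group]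
    exact hy)
  have h2 := conjN hhN ha
  rwa [← hha, show h⁻¹ * (h * r * h⁻¹) * h⁻¹⁻¹ = r by group] at h2

variable (F : BadFacts A)
include F

/-- A conjugate of `A` inside the normaliser is `A`. -/
theorem Base.weak {g : H} (hg : ∀ a ∈ A, g * a * g⁻¹ ∈ normalizer (A : Set H)) :
    g ∈ normalizer (A : Set H) := by
  classical
  suffices hle : ∀ a ∈ A, g * a * g⁻¹ ∈ A by
    have hbij : Function.Bijective fun a : ↥A => (⟨g * a.1 * g⁻¹, hle a.1 a.2⟩ : ↥A) :=
      Finite.injective_iff_bijective.1 fun a b e => Subtype.ext (by simpa using congrArg Subtype.val e)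
    refine mem_normalizer_iff.2 fun x => ⟨hle x, fun hx => ?_⟩
    obtain ⟨b, hb⟩ := hbij.2 ⟨_, hx⟩
    have hb' : g * b.1 * g⁻¹ = g * x * g⁻¹ := congrArg Subtype.val hb
    rw [← mul_left_cancel (mul_right_cancel hb')]
    exact b.2
  by_contra hne
  push Not at hne
  obtain ⟨a0, ha0, hr0⟩ := hne
  set r := g * a0 * g⁻¹ with hr
  have hrB := B.bad_of_fused ha0 (hg a0 ha0) hr0
  have hcr : ∀ a ∈ A, Commute (g * a * g⁻¹) r := fun a ha =>
    (show Commute a a0 from B.comm ha ha0).map (MulAut.conj g).toMonoidHom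
  have hmem : ∀ a ∈ A, g * a * g⁻¹ ∉ A → g * (a * a0) * g⁻¹ ∈ A := fun a ha h => by
    rw [← conj_mul]
    refine F.meet _ _ (B.bad_of_fused ha (hg a ha) h) hrB (hcr a ha) ?_
    rw [conj_mul]
    exact (em _).imp_right (B.bad_of_fused (A.mul_mem ha ha0) (hg _ (A.mul_mem ha ha0)))
  have hfix : ∀ a ∈ A, g * a * g⁻¹ ∈ A → g * a * g⁻¹ ∈ A ⊓ centralizer ({r} : Set H) := fun a ha h =>
    mem_inf.2 ⟨h, mem_cent_one.2 (hcr a ha)⟩
  have hcard := F.small r hrB
  let f : ↥A → ↥(A ⊓ centralizer ({r} : Set H)) × Bool := fun a =>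
    if h : g * a.1 * g⁻¹ ∈ A then (⟨_, hfix _ a.2 h⟩, true)
    else (⟨_, hfix _ (A.mul_mem a.2 ha0) (hmem _ a.2 h)⟩, false)
  have hf : Function.Injective f := by
    intro a b e
    simp only [f] at e
    split_ifs at e with h1 h2 h2 <;>
      simp only [Prod.mk.injEq, Subtype.mk.injEq, Bool.true_eq_false, Bool.false_eq_true, and_false,
        and_true, mul_left_inj, mul_right_inj] at e
    · exact Subtype.ext e
    · exact Subtype.ext e
  have := Nat.card_le_card_of_injective f hf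
  rw [Nat.card_prod, Nat.card_eq_fintype_card (α := Bool), Fintype.card_bool] at this
  omega

/-- A 2-group containing `A` normalises it. -/
theorem Base.two_le {P : Subgroup H} (hP : IsPGroup 2 ↥P) (hA : A ≤ P) :
    P ≤ normalizer (A : Set H) := by
  haveI : Fact (Nat.Prime 2) := ⟨Nat.prime_two⟩
  haveI := hP.isNilpotent
  by_contra hne
  set N := (normalizer (A : Set H)).subgroupOf P with hN
  have hN' : N ≠ ⊤ := fun e => hne fun x hx =>
    (mem_subgroupOf (K := P) (h := ⟨x, hx⟩)).1 (hN ▸ e ▸ mem_top _)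
  obtain ⟨u, hu, huN⟩ := SetLike.exists_of_lt
    (Group.normalizerCondition_of_isNilpotent N (lt_top_iff_ne_top.2 hN'))
  refine huN (mem_subgroupOf.2 (B.weak F fun a ha => ?_))
  exact mem_subgroupOf.1 ((mem_normalizer_iff.1 hu (⟨a, hA ha⟩ : ↥P)).1
    (mem_subgroupOf.2 (Subgroup.le_normalizer ha)))

/-- A Sylow subgroup of a group between `A` and the whole, containing `A`, and a conjugation into it. -/
theorem Base.conj_into {Y : Subgroup H} (hAY : A ≤ Y) {T : Subgroup H} (hT : IsPGroup 2 ↥T) (hTY : T ≤ Y) :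
    ∃ c ∈ Y, ∀ t ∈ T, c * t * c⁻¹ ∈ normalizer (A : Set H) := by
  haveI : Fact (Nat.Prime 2) := ⟨Nat.prime_two⟩
  obtain ⟨Q, hQ⟩ := (B.isPGroup.comap_subtype (K := Y)).exists_le_sylow
  obtain ⟨P, hP⟩ := (hT.comap_subtype (K := Y)).exists_le_sylow
  obtain ⟨c, hc⟩ := MulAction.exists_smul_eq ↥Y P Q
  have hQN : (Q : Subgroup ↥Y).map Y.subtype ≤ normalizer (A : Set H) :=
    B.two_le F (Q.2.map _) fun x hx => ⟨⟨x, hAY hx⟩, hQ (mem_subgroupOf.2 hx), rfl⟩
  refine ⟨c, c.2, fun t ht => ?_⟩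
  have htQ : c * ⟨t, hTY ht⟩ * c⁻¹ ∈ (Q : Subgroup ↥Y) := by
    rw [← hc]
    exact ⟨_, hP (mem_subgroupOf.2 ht), rfl⟩
  have := hQN (mem_map_of_mem Y.subtype htQ)
  simpa [mul_assoc] using this

/-- No bad involution is conjugate into `A`. -/
theorem Base.not_bad {a h : H} (ha : a ∈ A) (hb : Bad A (h * a * h⁻¹)) : False := by
  classical
  haveI : Fact (Nat.Prime 2) := ⟨Nat.prime_two⟩
  set r := h * a * h⁻¹ with hr
  set Φ := A ⊓ centralizer ({r} : Set H) with hΦ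
  obtain ⟨T, hT2, hTle, hΦT, hcom⟩ := F.conn r hb
  -- move the 2-group into the normaliser
  set Y0 := centralizer ({a} : Set H) with hY0
  have hT' : T.map (MulAut.conj h⁻¹).toMonoidHom ≤ Y0 := by
    rintro _ ⟨u, hu, rfl⟩
    have hur : Commute u r := mem_cent_one.1 (mem_inf.1 (hTle hu)).2
    have e : (MulAut.conj h⁻¹).toMonoidHom r = a := by rw [hr]; simp [mul_assoc]
    refine mem_cent_one.2 ?_
    have := hur.map (MulAut.conj h⁻¹).toMonoidHom
    rwa [e] at this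
  obtain ⟨c, hc, hcT⟩ := B.conj_into F (Y := Y0) (fun x hx => mem_cent_one.2 (B.comm hx ha)) (hT2.map _) hT'
  set g := c * h⁻¹ with hg
  have hgr : g * r * g⁻¹ = a := by
    rw [hg, hr, show c * h⁻¹ * (h * a * h⁻¹) * (c * h⁻¹)⁻¹ = c * a * c⁻¹ by group, (mem_cent_one.1 hc).eq,
      mul_inv_cancel_right]
  have hgT : ∀ u ∈ T, g * u * g⁻¹ ∈ normalizer (A : Set H) := fun u hu => by
    have := hcT _ ⟨u, hu, rfl⟩
    rw [hg]
    simpa [mul_assoc] using this
  -- the part of the fixed points going into `A`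
  let F1 : Subgroup H := Φ ⊓ A.comap (MulAut.conj g).toMonoidHom
  have hF1 : ∀ {f}, f ∈ F1 ↔ f ∈ Φ ∧ g * f * g⁻¹ ∈ A := by
    intro f; simp [F1, mem_inf]
  have hF1A : F1 ≤ A := fun f hf => (mem_inf.1 (hF1.1 hf).1).1
  have hpair : ∀ f ∈ Φ, ∀ f' ∈ Φ, f ∉ F1 → f' ∉ F1 → f * f' ∈ F1 := by
    intro f hf f' hf' h1 h2
    have hb1 := B.bad_of_fused (mem_inf.1 hf).1 (hgT f (hΦT hf)) fun e => h1 (hF1.2 ⟨hf, e⟩)
    have hb2 := B.bad_of_fused (mem_inf.1 hf').1 (hgT f' (hΦT hf')) fun e => h2 (hF1.2 ⟨hf', e⟩)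
    refine hF1.2 ⟨Φ.mul_mem hf hf', ?_⟩
    rw [← conj_mul]
    refine F.meet _ _ hb1 hb2
      ((show Commute f f' from B.comm (mem_inf.1 hf).1 (mem_inf.1 hf').1).map (MulAut.conj g).toMonoidHom) ?_
    rw [conj_mul]
    exact (em _).imp_right (B.bad_of_fused (mem_inf.1 (Φ.mul_mem hf hf')).1 (hgT _ (hΦT (Φ.mul_mem hf hf'))))
  have hgen : ∀ a' ∈ A, ⁅a', r⁆ ∈ F1 := by
    intro a' ha'
    refine (closure_le F1).2 ?_ (hcom a' ha')
    rintro _ ⟨f, hf, u, hu, rfl⟩
    obtain ⟨huM, huC⟩ := mem_inf.1 (hTle hu)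
    have hu' : u * f * u⁻¹ ∈ Φ := by
      refine mem_inf.2 ⟨conjN huM (mem_inf.1 hf).1, mem_cent_one.2 ?_⟩
      have := (mem_cent_one.1 (mem_inf.1 hf).2).map (MulAut.conj u).toMonoidHom
      rwa [show (MulAut.conj u).toMonoidHom r = r by
        show u * r * u⁻¹ = r
        rw [(mem_cent_one.1 huC).eq, mul_inv_cancel_right]] at this
    have e : ⁅f, u⁆ = f * (u * f * u⁻¹) := by
      rw [commutatorElement_def, show f * u * f⁻¹ * u⁻¹ = f * (u * f⁻¹ * u⁻¹) by group,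
        B.inv_eq (mem_inf.1 hf).1]
    rw [e]
    show f * (u * f * u⁻¹) ∈ F1
    have hiff : f ∈ F1 ↔ u * f * u⁻¹ ∈ F1 := by
      have e2 : g * (u * f * u⁻¹) * g⁻¹ = (g * u * g⁻¹) * (g * f * g⁻¹) * (g * u * g⁻¹)⁻¹ := by group
      constructor
      · intro h'
        exact hF1.2 ⟨hu', e2 ▸ conjN (hgT u hu) (hF1.1 h').2⟩
      · intro h'
        have := conjN (inv_mem (hgT u hu)) (hF1.1 h').2
        rw [e2, show (g * u * g⁻¹)⁻¹ * ((g * u * g⁻¹) * (g * f * g⁻¹) * (g * u * g⁻¹)⁻¹) * (g * u * g⁻¹)⁻¹⁻¹ =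
          g * f * g⁻¹ by group] at this
        exact hF1.2 ⟨hf, this⟩
    by_cases hff : f ∈ F1
    · exact F1.mul_mem hff (hiff.1 hff)
    · exact hpair f hf _ hu' hff (mt hiff.2 hff)
  have hcent := F.cent r hb F1 inf_le_left hpair hgen
  -- fusion inside the centraliser of that part
  set Y := centralizer (F1 : Set H) with hY
  have hAY : A ≤ Y := fun x hx => mem_centralizer_iff.2 fun y hy => B.comm (hF1A hy) hx
  have hAg : A.map (MulAut.conj g⁻¹).toMonoidHom ≤ Y := by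
    rintro _ ⟨x, hx, rfl⟩
    refine mem_centralizer_iff.2 fun y hy => ?_
    have h1 := (show Commute (g * y * g⁻¹) x from B.comm (hF1.1 hy).2 hx).map (MulAut.conj g⁻¹).toMonoidHom
    rwa [show (MulAut.conj g⁻¹).toMonoidHom (g * y * g⁻¹) = y by simp [mul_assoc]] at h1
  obtain ⟨c1, hc1, hc1A⟩ := B.conj_into F hAY (B.isPGroup.map _) hAg
  have hm : c1 * g⁻¹ ∈ normalizer (A : Set H) := B.weak F fun x hx => by
    have := hc1A _ ⟨x, hx, rfl⟩
    simpa [mul_assoc] using this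
  set a' := c1 * r * c1⁻¹ with ha'
  have ha'A : a' ∈ A := by
    have := conjN hm ha
    rwa [← hgr, show c1 * g⁻¹ * (g * r * g⁻¹) * (c1 * g⁻¹)⁻¹ = a' by rw [ha']; group] at this
  -- the Sylow subgroup of that centraliser
  have hrr : r * r = 1 := hb.sq
  have hrY : r ∈ Y := mem_centralizer_iff.2 fun y hy => (mem_cent_one.1 (mem_inf.1 (hF1.1 hy).1).2).eq
  set R := normalizer (A : Set H) ⊓ Y with hR
  have hRmem : ∀ {m}, m ∈ R → m ∈ A ∨ r * m ∈ A := fun {m} hm' => hcent m hm'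
  have hR2 : IsPGroup 2 ↥R := by
    intro m
    refine ⟨2, Subtype.ext ?_⟩
    rw [SubmonoidClass.coe_pow, show (2 : ℕ) ^ 2 = 2 * 2 from rfl, pow_mul, pow_two (m : H)]
    show ((m : H) * m) ^ 2 = 1
    rcases hRmem m.2 with h' | h'
    · rw [B.sq _ h', one_pow]
    · have h2 : (m : H) = r * (r * m) := by rw [← mul_assoc, hrr, one_mul]
      have h3 : (m : H) * m ∈ A := by
        rw [h2, show r * (r * (m : H)) * (r * (r * m)) = (r * (r * m) * r⁻¹) * (r * m) by
          rw [inv_eq_of_mul_eq_one_right hrr]; group]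
        exact A.mul_mem (conjN hb.mem h') h'
      rw [pow_two]
      exact B.sq _ h3
  have hAR : A ≤ R := le_inf Subgroup.le_normalizer hAY
  have hrR : r ∈ R := mem_inf.2 ⟨hb.mem, hrY⟩
  -- the elements commuting with `r` modulo that part
  have hFc : ∀ y ∈ Y, ∀ f ∈ F1, y * f * y⁻¹ = f := fun y hy f hf => by
    rw [← mem_centralizer_iff.1 hy f hf, mul_inv_cancel_right]
  let Z : Subgroup H :=
    { carrier := {y | y ∈ Y ∧ ⁅y, r⁆ ∈ F1}
      one_mem' := ⟨Y.one_mem, by rw [commutatorElement_one_left]; exact F1.one_mem⟩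
      mul_mem' := fun {x y} hx hy => ⟨Y.mul_mem hx.1 hy.1, by
        rw [commutatorElement_def, show x * y * r * (x * y)⁻¹ * r⁻¹ = (x * ⁅y, r⁆ * x⁻¹) * ⁅x, r⁆ by
          rw [commutatorElement_def, commutatorElement_def]; group, hFc x hx.1 _ hy.2]
        exact F1.mul_mem hy.2 hx.2⟩
      inv_mem' := fun {x} hx => ⟨Y.inv_mem hx.1, by
        rw [show ⁅x⁻¹, r⁆ = x⁻¹ * ⁅x, r⁆⁻¹ * x⁻¹⁻¹ by rw [commutatorElement_def, commutatorElement_def]; group,
          hFc _ (Y.inv_mem hx.1) _ (F1.inv_mem hx.2)]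
        exact F1.inv_mem hx.2⟩ }
  have hZY : Z ≤ Y := fun y hy => hy.1
  have hRZ : R ≤ Z := fun m hm' => ⟨(mem_inf.1 hm').2, by
    rcases hRmem hm' with h' | h'
    · exact hgen m h'
    · rw [show ⁅m, r⁆ = r⁻¹ * ⁅r * m, r⁆ * r⁻¹⁻¹ by rw [commutatorElement_def, commutatorElement_def]; group,
        hFc _ (Y.inv_mem hrY) _ (hgen _ h')]
      exact hgen _ h'⟩
  have hra : ∀ p ∈ R, ⁅p, a'⁆ ∈ F1 := fun p hp => by
    rcases hRmem hp with h' | h'
    · rw [commutatorElement_eq_one_iff_mul_comm.2 (B.comm h' ha'A)]; exact F1.one_mem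
    · have hp' : p = r * (r * p) := by rw [← mul_assoc, hrr, one_mul]
      have e : ⁅p, a'⁆ = ⁅r, a'⁆ := by
        rw [hp', commutatorElement_def, show r * (r * p) * a' * (r * (r * p))⁻¹ * a'⁻¹ =
          r * ((r * p) * a' * (r * p)⁻¹) * r⁻¹ * a'⁻¹ by group, B.comm h' ha'A, mul_inv_cancel_right]
        rfl
      rw [e, ← commutatorElement_inv]
      exact F1.inv_mem (hgen _ ha'A)
  have hRZ' : R.map (MulAut.conj c1⁻¹).toMonoidHom ≤ Z := by
    rintro _ ⟨p, hp, rfl⟩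
    have hpY : (MulAut.conj c1⁻¹).toMonoidHom p ∈ Y := by
      have := Y.mul_mem (Y.mul_mem (Y.inv_mem hc1) (mem_inf.1 hp).2) hc1
      simpa [mul_assoc] using this
    refine ⟨hpY, ?_⟩
    have e : (MulAut.conj c1⁻¹).toMonoidHom ⁅p, a'⁆ = ⁅(MulAut.conj c1⁻¹).toMonoidHom p, r⁆ := by
      rw [map_commutatorElement, show (MulAut.conj c1⁻¹).toMonoidHom a' = r by rw [ha']; simp [mul_assoc]]
    rw [← e]
    show c1⁻¹ * ⁅p, a'⁆ * c1⁻¹⁻¹ ∈ F1
    rw [hFc _ (Y.inv_mem hc1) _ (hra p hp)]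
    exact hra p hp
  obtain ⟨Q, hQ⟩ := (hR2.comap_subtype (K := Z)).exists_le_sylow
  obtain ⟨P, hP⟩ := ((hR2.map (MulAut.conj c1⁻¹).toMonoidHom).comap_subtype (K := Z)).exists_le_sylow
  obtain ⟨d, hd⟩ := MulAction.exists_smul_eq ↥Z P Q
  have hQR : (Q : Subgroup ↥Z).map Z.subtype ≤ R := by
    intro x hx
    refine mem_inf.2 ⟨B.two_le F (Q.2.map _) (fun y hy => ⟨⟨y, hRZ (hAR hy)⟩, hQ (mem_subgroupOf.2 (hAR hy)), rfl⟩)
      hx, ?_⟩
    obtain ⟨q, -, rfl⟩ := hx
    exact hZY q.2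
  have hn : ∀ p ∈ R, (d : H) * c1⁻¹ * p * ((d : H) * c1⁻¹)⁻¹ ∈ R := fun p hp => by
    have hpP : (⟨_, hRZ' ⟨p, hp, rfl⟩⟩ : ↥Z) ∈ (P : Subgroup ↥Z) :=
      hP (mem_subgroupOf.2 ⟨p, hp, rfl⟩)
    have hpQ : d * ⟨_, hRZ' ⟨p, hp, rfl⟩⟩ * d⁻¹ ∈ (Q : Subgroup ↥Z) := by
      rw [← hd]
      exact ⟨_, hpP, rfl⟩
    have := hQR (mem_map_of_mem Z.subtype hpQ)
    simpa [mul_assoc] using this
  set n := (d : H) * c1⁻¹ with hn'
  have hnM : n ∈ normalizer (A : Set H) := B.weak F fun x hx => (mem_inf.1 (hn x (hAR hx))).1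
  have hnA : n * a' * n⁻¹ ∈ A := conjN hnM ha'A
  rw [hn', ha', show (d : H) * c1⁻¹ * (c1 * r * c1⁻¹) * ((d : H) * c1⁻¹)⁻¹ = ⁅(d : H), r⁆ * r by
    rw [commutatorElement_def]; group] at hnA
  have := A.mul_mem (A.inv_mem (hF1A d.2.2)) hnA
  rw [inv_mul_cancel_left] at this
  exact hb.not_mem this

/-- **Strong closure.** -/
theorem Base.closed : Co2Three.Close.Closed A :=
  ⟨B.sq, fun a ha g hg => by
    by_contra h
    exact B.not_bad F ha (B.bad_of_fused ha hg h)⟩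

end Cfsg.Agent.U62Three.Close
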