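import Cfsg.Agent.Lib.U62Three.Close.Plane
import Cfsg.Agent.Lib.U62Three.Factors
import Cfsg.Agent.Lib.U62Aut.Model.Space

/-!
The 3-elements of the centraliser of the involution: a Sylow 3-subgroup, its abelian subgroup of index three, the
fusion in that subgroup, and the conjugation of elements and pairs into it.
-/

set_option autoImplicit false
set_option maxRecDepth 20000
set_option linter.style.haveILetI false

namespace Cfsg.Agent.U62Three

open Subgroup
open Co2Three (V4 qf bf e0 e1 e2 e3 refl1 IsSim isSim_mult IsPoint)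
open scoped commutatorElement

namespace Close

theorem low_facts : ∀ v : V4, v 1 = 0 → v 3 = 0 → v = v 0 • e0 + v 2 • e2 := by decide +kernel

theorem fix_lines : ∀ v : V4, v 1 = 0 → (trM 0 1).mulVec v = v → (tr3M 0 1).mulVec v = v → v = 0 := by decide +kernel

theorem tr_plane : ∀ v : V4, (trM 0 1).mulVec (refl1 v) = refl1 ((trM 0 1).mulVec v) ∧
    (tr3M 0 1).mulVec (refl1 v) = refl1 ((tr3M 0 1).mulVec v) := by decide +kernel

theorem move_eq : ∀ a : ZMod 3, ∀ w v : V4, a ≠ 0 → w 1 = 0 → qf w = 0 → bf e0 w = 1 → bf (a • e0 + e2) w = 0 →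
    v 1 = 0 →
    v + (v 0 • e0 + v 2 • (a • e0 + e2) + v 3 • w) +
      ((v 0 + v 2 * a) • e0 + v 2 • (a • e0 + e2) + v 3 • (w 0 • e0 + w 2 • (a • e0 + e2) + w 3 • w)) = 0 →
      v 3 = 0 := by
  decide +kernel

theorem plane_card : (Finset.univ.filter fun v : V4 => v 1 = 0).card = 27 ∧
    (Finset.univ.filter fun v : V4 => v 3 = 0).card = 27 := by decide +kernel

theorem pow_cube {G : Type*} [Group G] {q k : G} :
    (q * k) ^ 3 = q ^ 3 * ((q⁻¹) ^ 2 * k * q ^ 2) * (q⁻¹ * k * q) * k := by simp [pow_succ, mul_assoc]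

/-- What is used of the scalar element and of the pairs. -/
structure Ctl {G : Type*} [Group G] [Finite G] (L : Loc G) (W : Subgroup G) (c : G) : Prop where
  comm_Q2 : ∀ q ∈ L.S.Q2, Commute q c
  comm_P' : ∀ p ∈ L.S.P', Commute p c
  comm_S6 : ∀ g : G, Commute g L.S.t → ∀ M : Matrix (Fin 4) (Fin 4) (ZMod 3), IsS6 M →
    (∀ v, g * L.el v * g⁻¹ = L.el (M.mulVec v)) → Commute g c
  pair : ∀ x ∈ L.Kt, ∀ y ∈ L.Kt, x ≠ 1 → y ∉ zpowers x →
    centralizer ({x} : Set G) ⊓ centralizer {y} ⊓ centralizer {L.S.t} ≤ topGroup L W c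

/-- What is used follows from the data. -/
theorem ctl {G : Type*} [Group G] [Finite G] {L : Loc G} {W : Subgroup G} {c : G} (q : Quot L W c) : Ctl L W c :=
  ⟨q.comm_c.1, q.comm_c.2.1, q.comm_c.2.2, q.cent_pair_top⟩

end Close

namespace Loc

variable {G : Type*} [Group G] [Finite G] (L : Loc G)

theorem Q2_commute_t {q : G} (hq : q ∈ L.S.Q2) : Commute q L.S.t := (L.S.P_Q2 _ L.S.t_mem q hq).symm

theorem Q2_commute_z {q : G} (hq : q ∈ L.S.Q2) : Commute q L.S.z :=
  mem_centralizer_singleton_iff.1 (L.S.le (L.S.le2 hq))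

theorem z_mem_Kt : L.S.z ∈ L.Kt := L.z_eq ▸ L.el_mem_Kt.2 (by decide)

theorem el_low {v : V4} (h1 : v 1 = 0) (h3 : v 3 = 0) : L.el v ∈ L.S.Q2 := by
  rw [Close.low_facts v h1 h3, L.jd.el_add]
  have hs : ∀ (k : ZMod 3) (u : V4), L.el (k • u) = L.el u ^ k.val := fun k u => by
    rw [← el_natCast_smul L.el L.jd.el_add k.val u, ZMod.natCast_rightInverse]
  rw [hs, hs, L.z_eq]
  exact mul_mem (pow_mem L.S.z_mem2 _) (pow_mem L.e2_mem _)

/-- An element of the second factor commuting with a fixed element outside the core is fixed. -/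
theorem Q2_cent {q : G} (hq : q ∈ L.S.Q2) {v : V4} (h1 : v 1 = 0) (h3 : v 3 ≠ 0)
    (hc : Commute q (L.el v)) : q ∈ L.Kt := by
  classical
  have hz : ∀ u, Commute (L.el u) L.S.z := fun u => L.z_eq ▸ L.el_comm u e0
  have hQ : ∀ {u}, L.el u ∈ L.S.Q ↔ u 3 = 0 := fun {u} => L.jd.Q_J u
  set y := L.el e3 with hy
  have hyQ : y ∉ L.S.Q := fun h => absurd (hQ.1 h) (by decide)
  have hyp : IsPoint (L.el e0) y := by
    obtain ⟨g, hg⟩ := (L.jd.fused e3 (by decide)).2 (by decide)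
    exact ⟨g, Or.inl hg⟩
  have hyz : Commute y (L.el e0) := L.el_comm e3 e0
  have hcard := L.jd.pt.W_card y hyp hyz hyQ
  -- the low part of `J` fills the group of the elements commuting modulo the centre
  let f : {u : V4 // u 3 = 0} → {x : G // x ∈ L.S.Q ∧ ⁅y, x⁆ ∈ zpowers (L.el e0)} := fun u =>
    ⟨L.el u.1, hQ.2 u.2, by rw [commutatorElement_eq_one_iff_mul_comm.2 (L.el_comm e3 u.1).eq]; exact one_mem _⟩
  have hbij : Function.Bijective f := by
    haveI : Fintype {x : G // x ∈ L.S.Q ∧ ⁅y, x⁆ ∈ zpowers (L.el e0)} := Fintype.ofFinite _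
    refine (Fintype.bijective_iff_injective_and_card f).2 ⟨fun a b e =>
      Subtype.ext (L.jd.el_inj (congrArg Subtype.val e)), ?_⟩
    rw [← Nat.card_eq_fintype_card (α := {x : G // x ∈ L.S.Q ∧ ⁅y, x⁆ ∈ zpowers (L.el e0)}), hcard,
      Fintype.card_subtype, Close.plane_card.2]
  have hyq : ⁅y, q⁆ ∈ zpowers (L.el e0) := by
    set u := v 3 • v - e3 with hu
    have hu3 : u 3 = 0 := by
      show v 3 * v 3 - 1 = 0
      exact (by decide : ∀ a : ZMod 3, a ≠ 0 → a * a - 1 = 0) _ h3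
    have hyd : y = L.el (v 3 • v) * (L.el u)⁻¹ := by
      rw [← L.el_neg, ← L.jd.el_add, hu, neg_sub, add_sub_cancel]
    have hcv : Commute (L.el (v 3 • v)) q := by
      rw [← ZMod.natCast_rightInverse (v 3), el_natCast_smul L.el L.jd.el_add]
      exact hc.symm.pow_left _
    have hsplit : ⁅y, q⁆ = L.el (v 3 • v) * ⁅(L.el u)⁻¹, q⁆ * (L.el (v 3 • v))⁻¹ := by
      rw [hyd, commutatorElement_def, commutatorElement_def]
      calc L.el (v 3 • v) * (L.el u)⁻¹ * q * (L.el (v 3 • v) * (L.el u)⁻¹)⁻¹ * q⁻¹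
          = L.el (v 3 • v) * ((L.el u)⁻¹ * q * L.el u) * ((L.el (v 3 • v))⁻¹ * q⁻¹) := by group
        _ = _ := by rw [hcv.inv_inv.eq]; group
    have hm : ⁅(L.el u)⁻¹, q⁆ ∈ zpowers (L.el e0) := L.jd.pt.core.comm _ (inv_mem (hQ.2 hu3)) q (L.S.le2 hq)
    rw [hsplit, (Pt.fix_Z (L.el_comm (v 3 • v) e0) hm).eq, mul_inv_cancel_right]
    exact hm
  obtain ⟨u, hu⟩ := hbij.2 ⟨q, L.S.le2 hq, hyq⟩
  have e : q = L.el u.1 := (congrArg Subtype.val hu).symm
  exact L.mem_Kt.2 ⟨e ▸ L.el_mem_K _, L.Q2_commute_t hq⟩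

/-- An element of the second factor not fixed moves the exterior axis. -/
theorem Q2_axis {q : G} (hq : q ∈ L.S.Q2) (hc : Commute q (L.el e2)) : q ∈ L.Kt := by
  classical
  set X := L.S.Q2 ⊓ centralizer {L.el e2} with hX
  let f : {u : V4 // u 1 = 0 ∧ u 3 = 0} → ↥X := fun u =>
    ⟨L.el u.1, mem_inf.2 ⟨L.el_low u.2.1 u.2.2, mem_centralizer_singleton_iff.2 (L.el_comm u.1 e2).eq⟩⟩
  have hf : Function.Injective f := fun a b e => Subtype.ext (L.jd.el_inj (congrArg Subtype.val e))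
  have h9 : 9 ≤ Nat.card X := by
    refine le_of_eq_of_le ?_ (Nat.card_le_card_of_injective f hf)
    rw [Nat.card_eq_fintype_card]
    decide +kernel
  have hne : X ≠ L.S.Q2 := fun h => by
    have F : Fac L.S.Q L.S.Q1 L.S.Q2 L.S.z := ⟨L.S.core, L.S.le1, L.S.le2, L.S.z_mem1, L.S.z_mem2, L.S.card1,
      L.S.card2, L.S.inf12, L.S.comm12⟩
    have hz3 : L.el e2 ∈ zpowers (L.el e0) := L.z_eq.symm ▸ F.symm.centre1 L.e2_mem fun b hb =>
      (mem_centralizer_singleton_iff.1 (mem_inf.1 (h.symm ▸ hb : b ∈ X)).2).symm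
    obtain ⟨n, hn⟩ := mem_powers_iff_mem_zpowers.2 hz3
    have hn' : L.el e0 ^ n = L.el e2 := hn
    rw [← el_natCast_smul L.el L.jd.el_add] at hn'
    exact absurd (congrFun (L.jd.el_inj hn') 2) (by simp [e0, e2])
  have h27 : Nat.card X ∣ 3 ^ 3 := by
    have := Subgroup.card_dvd_of_le (inf_le_left : X ≤ L.S.Q2)
    rwa [L.S.card2] at this
  have hX9 : Nat.card X = 9 := by
    obtain ⟨i, hi, e⟩ := (Nat.dvd_prime_pow Nat.prime_three).1 h27
    rw [e] at h9 ⊢
    interval_cases i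
    · omega
    · omega
    · rfl
    · exact absurd (eq_of_le_of_card_ge inf_le_left (by rw [e, L.S.card2]; norm_num)) hne
  have hbij : Function.Bijective f := by
    haveI : Fintype ↥X := Fintype.ofFinite _
    refine (Fintype.bijective_iff_injective_and_card f).2 ⟨hf, ?_⟩
    rw [← Nat.card_eq_fintype_card (α := ↥X), hX9]
    decide +kernel
  obtain ⟨u, hu⟩ := hbij.2 ⟨q, mem_inf.2 ⟨hq, mem_centralizer_singleton_iff.2 hc.eq⟩⟩
  rw [← show L.el u.1 = q from congrArg Subtype.val hu]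
  exact L.el_mem_Kt.2 u.2.1

end Loc

end Cfsg.Agent.U62Three
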