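import Cfsg.Agent.Lib.U62Three.Close.Point

/-!
The closing step without tables: downward induction on the subgroups of `A`, starting from the hyperplanes; the
normaliser cannot fuse all cosets of a smaller subgroup, by orders.
-/

set_option autoImplicit false
set_option linter.style.haveILetI false

namespace Cfsg.Agent.U62Three.Close

open Subgroup
open scoped commutatorElement

variable {H : Type*} [Group H]

/-- Every hyperplane contains a subgroup whose centraliser the normaliser controls. -/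
structure Points (A : Subgroup H) : Prop where
  hyper : ∀ Fh : Subgroup H, Fh ≤ A → 2 * Nat.card Fh = Nat.card A →
    ∃ F0 ≤ Fh, ∃ E : Subgroup H, E ≤ normalizer (A : Set H) ∧ IsMulCommutative ↥E ∧ Nat.card E = 9 ∧
      (∀ e ∈ E, e ^ 3 = 1) ∧
      (∀ e ∈ E, e ≠ 1 → ¬ Fixes A e → ∀ e' ∈ E, e' ≠ 1 → ¬ Fixes A e' → e' ∈ zpowers e) ∧
      E ≤ normalizer (F0 : Set H) ∧
      IsPGroup 2 ↥(normalizer (A : Set H) ⊓ centralizer (F0 : Set H)) ∧
      ∀ p ∈ normalizer (A : Set H) ⊓ centralizer (F0 : Set H),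
        ∀ q ∈ normalizer (A : Set H) ⊓ centralizer (F0 : Set H), ⁅p, q⁆ ∈ F0

/-- The normaliser does not fuse all the cosets of a subgroup of index at least four. -/
def Split (A : Subgroup H) : Prop :=
  ∀ F : Subgroup H, F ≤ A → 2 * Nat.card F < Nat.card A →
    centralizer (F : Set H) ≤ normalizer (A : Set H) ∨
      ∃ a ∈ A, ∃ c ∈ A, a ∉ F ∧ c ∉ F ∧ ∀ n ∈ Co2Three.Close.NF A (F : Set H), a * (n * c * n⁻¹) ∉ F

variable [Finite H] {A : Subgroup H}

/-- **The centraliser of every subgroup of `A` lies in the normaliser.** -/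
theorem Base.cent_all (B : Base A) (F : BadFacts A) (P : Points A) (hS : Split A) :
    ∀ (n : ℕ) (F1 : Subgroup H), F1 ≤ A → Nat.card A - Nat.card F1 = n →
      centralizer (F1 : Set H) ≤ normalizer (A : Set H) := by
  intro n
  induction n using Nat.strong_induction_on with
  | _ n ih =>
    intro F1 hle hn
    by_cases he : F1 = A
    · rw [he]
      exact B.self.trans Subgroup.le_normalizer
    have hdvd := Subgroup.card_dvd_of_le hle
    have hlt : Nat.card F1 < Nat.card A := lt_of_le_of_ne (Nat.le_of_dvd Nat.card_pos hdvd)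
      fun e => he (Subgroup.eq_of_le_of_card_ge hle e.ge)
    have h2 : 2 * Nat.card F1 ≤ Nat.card A := by
      obtain ⟨k, hk⟩ := hdvd
      rcases Nat.lt_or_ge k 2 with h | h
      · interval_cases k <;> omega
      · rw [hk, mul_comm 2]; exact Nat.mul_le_mul_left _ h
    rcases eq_or_lt_of_le h2 with h2 | h2
    · obtain ⟨F0, hF0, E, hEM, hEc, hE9, hE3, hE1, hEF, hp, hab⟩ := P.hyper F1 hle h2
      exact (Subgroup.centralizer_le hF0).trans (B.cent_point F (hF0.trans hle) hEM hEc hE9 hE3 hE1 hEF hp hab)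
    rcases hS F1 hle h2 with h | ⟨a, ha, c, hc, haF, hcF, hne⟩
    · exact h
    have up : ∀ w ∈ A, w ∉ F1 → centralizer ((F1 : Set H) ∪ {w}) ≤ normalizer (A : Set H) := by
      intro w hw hwF
      have hle' : F1 ⊔ zpowers w ≤ A := sup_le hle (zpowers_le.2 hw)
      have hlt' : Nat.card F1 < Nat.card ↥(F1 ⊔ zpowers w) := by
        refine lt_of_le_of_ne (Nat.le_of_dvd Nat.card_pos (Subgroup.card_dvd_of_le le_sup_left)) fun e => hwF ?_
        rw [Subgroup.eq_of_le_of_card_ge le_sup_left e.ge]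
        exact mem_sup_right (mem_zpowers w)
      have := Nat.le_of_dvd Nat.card_pos (Subgroup.card_dvd_of_le hle')
      refine le_trans ?_ (ih _ (by omega) _ hle' rfl)
      intro x hx
      refine mem_centralizer_iff.2 fun y hy => ?_
      have hsup : F1 ⊔ zpowers w ≤ centralizer ({x} : Set H) := sup_le
        (fun z hz => mem_cent_one.2 (mem_centralizer_iff.1 hx z (Or.inl hz)))
        (zpowers_le.2 (mem_cent_one.2 (mem_centralizer_iff.1 hx w (Or.inr rfl))))
      exact (mem_cent_one.1 (hsup hy)).eq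
    refine (B.closed F).step hle ha hc hne (up a ha haF) (up c hc hcF) fun m hm b hb hb' => up _ ?_ hb'
    refine A.mul_mem ha (conjN (mem_inf.1 hm).1 ?_)
    rcases hb with rfl | rfl
    · exact ha
    · exact hc

/-- **`A` is normal.** -/
theorem Base.normal (B : Base A) (F : BadFacts A) (P : Points A) (hS : Split A) :
    normalizer (A : Set H) = ⊤ := by
  refine eq_top_iff.2 fun g _ => B.cent_all F P hS _ ⊥ bot_le rfl (mem_centralizer_iff.2 fun y hy => ?_)
  rw [mem_bot.1 hy, one_mul, mul_one]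

/-- Orders forbid the fusion of all cosets: the orders prime to 7, 17, 31, 127 and the fixed points of the elements
of orders three and five. -/
theorem split_of_orders (hA : Nat.card A = 256) (hsq : ∀ a ∈ A, a * a = 1)
    (h7 : ¬ 7 ∣ Nat.card ↥(normalizer (A : Set H))) (h17 : ¬ 17 ∣ Nat.card ↥(normalizer (A : Set H)))
    (h31 : ¬ 31 ∣ Nat.card ↥(normalizer (A : Set H))) (h127 : ¬ 127 ∣ Nat.card ↥(normalizer (A : Set H)))
    (f3 : ∀ y ∈ normalizer (A : Set H), orderOf y = 3 → Nat.card ↥(A ⊓ centralizer ({y} : Set H)) < 64)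
    (f5 : ∀ y ∈ normalizer (A : Set H), orderOf y = 5 → Nat.card ↥(A ⊓ centralizer ({y} : Set H)) < 16) :
    Split A := by
  classical
  intro F hF h2
  right
  have hcomm : ∀ a ∈ A, ∀ b ∈ A, a * b = b * a := fun a ha b hb => by
    have hi : ∀ x ∈ A, x⁻¹ = x := fun x hx => inv_eq_of_mul_eq_one_right (hsq x hx)
    rw [← hi _ (A.mul_mem ha hb), mul_inv_rev, hi a ha, hi b hb]
  obtain ⟨a, ha, haF⟩ : ∃ a ∈ A, a ∉ F := by
    by_contra hc
    push Not at hc
    rw [le_antisymm hF hc] at h2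
    omega
  refine ⟨a, ha, ?_⟩
  by_contra hcon
  push Not at hcon
  -- the action on the subsets, and the orbit of the coset of `a`
  set NFF := Co2Three.Close.NF A (F : Set H) with hNF
  letI : MulAction ↥NFF (Set H) :=
    { smul := fun n S => (fun x => n.1 * x * n.1⁻¹) '' S
      one_smul := fun S => by
        change (fun x => (1 : H) * x * (1 : H)⁻¹) '' S = S
        simp
      mul_smul := fun m n S => by
        change (fun x => (m.1 * n.1) * x * (m.1 * n.1)⁻¹) '' S =
          (fun x => m.1 * x * m.1⁻¹) '' ((fun x => n.1 * x * n.1⁻¹) '' S)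
        rw [Set.image_image]
        exact Set.image_congr' fun x => by group }
  set cos : H → Set H := fun b => (fun f => b * f) '' (F : Set H) with hcos
  have hcos_eq : ∀ {b c : H}, cos b = cos c ↔ b⁻¹ * c ∈ F := by
    intro b c
    constructor
    · intro h
      obtain ⟨f, hf, e⟩ : c ∈ cos b := h ▸ ⟨1, F.one_mem, mul_one c⟩
      rw [← show b * f = c from e, inv_mul_cancel_left]
      exact hf
    · intro h
      ext x
      constructor
      · rintro ⟨f, hf, rfl⟩
        exact ⟨(b⁻¹ * c)⁻¹ * f, F.mul_mem (F.inv_mem h) hf, by group⟩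
      · rintro ⟨f, hf, rfl⟩
        exact ⟨b⁻¹ * c * f, F.mul_mem h hf, by group⟩
  have hsmul : ∀ (n : ↥NFF) (b : H), n • cos b = cos (n.1 * b * n.1⁻¹) := by
    intro n b
    change (fun x => n.1 * x * n.1⁻¹) '' ((fun f => b * f) '' (F : Set H)) = _
    rw [Set.image_image]
    refine Set.image_congr fun f hf => ?_
    have hc : f * n.1 = n.1 * f := mem_centralizer_iff.1 (mem_inf.1 n.2).2 f hf
    calc n.1 * (b * f) * n.1⁻¹ = n.1 * b * (n.1⁻¹ * n.1) * f * n.1⁻¹ := by group
      _ = n.1 * b * n.1⁻¹ * (f * n.1) * n.1⁻¹ := by rw [hc]; group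
      _ = n.1 * b * n.1⁻¹ * f := by group
  -- the number of cosets
  set k := (F.subgroupOf A).index with hk
  have hkF : Nat.card F * k = 256 := by
    rw [hk, ← hA, ← Nat.card_congr (Subgroup.subgroupOfEquivOfLe hF).toEquiv, Subgroup.card_mul_index]
  have horb : (MulAction.orbit ↥NFF (cos a)).ncard = k - 1 := by
    let ψ : ↥A ⧸ F.subgroupOf A → Set H := fun q => cos (Quotient.out q : ↥A)
    have hψ : ∀ b : ↥A, ψ (b : ↥A ⧸ F.subgroupOf A) = cos b := fun b => hcos_eq.2 (by
      have h : (Quotient.out (b : ↥A ⧸ F.subgroupOf A))⁻¹ * b ∈ F.subgroupOf A :=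
        QuotientGroup.eq.1 (Quotient.out_eq (b : ↥A ⧸ F.subgroupOf A))
      exact mem_subgroupOf.1 h)
    have hinj : Function.Injective ψ := fun p q e => by
      obtain ⟨b, rfl⟩ := Quotient.exists_rep p
      obtain ⟨c, rfl⟩ := Quotient.exists_rep q
      exact QuotientGroup.eq.2 (mem_subgroupOf.2 (hcos_eq.1 ((hψ b).symm.trans (e.trans (hψ c)))))
    have himg : MulAction.orbit ↥NFF (cos a) = Set.range ψ \ {cos 1} := by
      ext S
      constructor
      · rintro ⟨n, rfl⟩
        have hna : n.1 * a * n.1⁻¹ ∈ A := conjN (mem_inf.1 n.2).1 ha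
        refine ⟨⟨((⟨_, hna⟩ : ↥A) : ↥A ⧸ F.subgroupOf A), (hψ _).trans (hsmul n a).symm⟩, fun e => haF ?_⟩
        rw [Set.mem_singleton_iff] at e
        have h := hcos_eq.1 ((hsmul n a).symm.trans e)
        rw [mul_one] at h
        have hfix := mem_centralizer_iff.1 (mem_inf.1 n.2).2 _ h
        have : a⁻¹ = (n.1 * a * n.1⁻¹)⁻¹ := by
          calc a⁻¹ = n.1⁻¹ * ((n.1 * a * n.1⁻¹)⁻¹ * n.1) := by group
            _ = n.1⁻¹ * (n.1 * (n.1 * a * n.1⁻¹)⁻¹) := by rw [hfix]
            _ = _ := by group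
        rw [← this] at h
        simpa using F.inv_mem h
      · rintro ⟨⟨q, rfl⟩, hq⟩
        obtain ⟨b, rfl⟩ := Quotient.exists_rep q
        have hb : (b : H) ∉ F := fun hb => hq (by
          rw [Set.mem_singleton_iff]
          exact (hψ b).trans (hcos_eq.2 (by rw [mul_one]; exact F.inv_mem hb)))
        obtain ⟨n, hn, hmem⟩ := hcon b b.2 haF hb
        have hnb : n * b * n⁻¹ ∈ A := conjN (mem_inf.1 hn).1 b.2
        have e : (⟨n, hn⟩ : ↥NFF) • cos b = cos a := by
          rw [hsmul]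
          refine hcos_eq.2 ?_
          rw [inv_eq_of_mul_eq_one_right (hsq _ hnb), hcomm _ hnb _ ha]
          exact hmem
        exact ⟨(⟨n, hn⟩ : ↥NFF)⁻¹, by
          show (⟨n, hn⟩ : ↥NFF)⁻¹ • cos a = ψ _
          rw [← e, inv_smul_smul]; exact (hψ b).symm⟩
    have h1 : cos 1 ∈ Set.range ψ := ⟨((1 : ↥A) : ↥A ⧸ F.subgroupOf A), hψ 1⟩
    rw [himg, Set.ncard_sdiff (Set.singleton_subset_iff.2 h1), Set.ncard_singleton, ← Nat.card_coe_set_eq,
      Nat.card_range_of_injective hinj, hk, Subgroup.index]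
  have hdvd : k - 1 ∣ Nat.card NFF := by
    rw [← horb, ← MulAction.index_stabilizer]
    exact Subgroup.index_dvd_card _
  have hNM : Nat.card NFF ∣ Nat.card ↥(normalizer (A : Set H)) := Subgroup.card_dvd_of_le inf_le_left
  have hfix : ∀ p, p.Prime → p ∣ k - 1 →
      ∃ y ∈ normalizer (A : Set H), orderOf y = p ∧ Nat.card F ≤ Nat.card ↥(A ⊓ centralizer ({y} : Set H)) := by
    intro p hp hpk
    haveI : Fact p.Prime := ⟨hp⟩
    obtain ⟨y, hy⟩ := exists_prime_orderOf_dvd_card' (G := ↥NFF) p (hpk.trans hdvd)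
    refine ⟨y, (mem_inf.1 y.2).1, by rw [Subgroup.orderOf_coe, hy], Nat.le_of_dvd Nat.card_pos
      (Subgroup.card_dvd_of_le (le_inf hF fun f hf => mem_cent_one.2 ?_))⟩
    exact mem_centralizer_iff.1 (mem_inf.1 y.2).2 f hf
  obtain ⟨j, hj, hk2⟩ := (Nat.dvd_prime_pow Nat.prime_two).1 (show k ∣ 2 ^ 8 from ⟨Nat.card F, by
    rw [mul_comm, hkF]; norm_num⟩)
  rw [hA] at h2
  rw [hk2] at hkF hfix hdvd
  have hno : ∀ {p : ℕ}, ¬ p ∣ Nat.card ↥(normalizer (A : Set H)) → p ∣ 2 ^ j - 1 → False :=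
    fun hp h => hp ((h.trans hdvd).trans hNM)
  interval_cases j
  · omega
  · omega
  · obtain ⟨y, hy, ho, hle⟩ := hfix 3 Nat.prime_three (by norm_num)
    have := f3 y hy ho
    omega
  · exact hno h7 (by norm_num)
  · obtain ⟨y, hy, ho, hle⟩ := hfix 5 (by decide) (by norm_num)
    have := f5 y hy ho
    omega
  · exact hno h31 (by norm_num)
  · exact hno h7 (by norm_num)
  · exact hno h127 (by norm_num)
  · exact hno h17 (by norm_num)

end Cfsg.Agent.U62Three.Close
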